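import Groth.Agent.Lib.RedPts.BC
import Groth.Agent.Lib.Lim.Basic
import Groth.Agent.Lib.Lim.Descend
import Groth.Agent.H47.LimDescend
import Groth.Agent.Lib.Lim.OpenImm
import Groth.Prelude.Def_AlgGrp

/-!
# Normal and central monomorphisms of groups descend through limits
-/

set_option autoImplicit false
set_option backward.isDefEq.respectTransparency false
set_option linter.unusedVariables false
set_option synthInstance.maxHeartbeats 400000

universe u

open CategoryTheory CategoryTheory.Limits AlgebraicGeometry MonoidalCategory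
open CartesianMonoidalCategory MonObj GrpObj
open Groth.Agent.Lib.RedPts Groth.Agent.Lib.Lim.Basic

namespace Groth.Agent.H69.NormalDescend

variable {S B : Scheme.{u}} {G H : Over S} [GrpObj G]

/-- Normality on points lying over `a`. -/
def NormalOver (u : H ⟶ G) (a : B ⟶ S) : Prop :=
  ∀ (X : Over S) (t : X ⟶ Over.mk a) (g : X ⟶ G) (n : X ⟶ H),
    ∃ n' : X ⟶ H, g * (n ≫ u) * g⁻¹ = n' ≫ u

/-- Centrality on points lying over `a`. -/
def CentralOver (u : H ⟶ G) (a : B ⟶ S) : Prop :=
  ∀ (X : Over S) (t : X ⟶ Over.mk a) (g : X ⟶ G) (n : X ⟶ H), g * (n ≫ u) = (n ≫ u) * g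

variable (a : B ⟶ S)

/-- A point over `a` as a point of the base change. -/
noncomputable def pt {X Y : Over S} (t : X ⟶ Over.mk a) (y : X ⟶ Y) :
    Over.mk t.left ⟶ Red.bc a Y :=
  BC.up a (Over.homMk y.left (by
    show y.left ≫ Y.hom = t.left ≫ a
    exact (Over.w y).trans (Over.w t).symm))

/-- The comparison of a point over `a` with its structure. -/
noncomputable def inc {X : Over S} (t : X ⟶ Over.mk a) : X ⟶ (Over.map a).obj (Over.mk t.left) :=
  Over.homMk (𝟙 _) (by
    show 𝟙 X.left ≫ t.left ≫ a = X.hom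
    rw [Category.id_comp]; exact Over.w t)

theorem inc_down_pt {X Y : Over S} (t : X ⟶ Over.mk a) (y : X ⟶ Y) :
    inc a t ≫ BC.down a (pt a t y) = y := by
  rw [pt, BC.down_up]
  apply Over.OverMorphism.ext
  exact Category.id_comp _

theorem isNormalHom_iff [GrpObj H] (u : H ⟶ G) :
    AlgGrp.IsNormalHom ((Over.pullback a).map u) ↔ NormalOver u a := by
  constructor
  · intro h X t g n
    obtain ⟨n', hn'⟩ := h _ (pt a t g) (pt a t n)
    refine ⟨inc a t ≫ BC.down a n', ?_⟩
    have e := congrArg (fun z => inc a t ≫ BC.down a z) hn'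
    simp only [BC.down_mul, BC.down_inv, BC.down_map, MonObj.comp_mul, GrpObj.comp_inv,
      ← Category.assoc, inc_down_pt] at e
    exact e
  · intro h X g n
    obtain ⟨n', hn'⟩ := h ((Over.map a).obj X) (Over.homMk X.hom rfl) (BC.down a g) (BC.down a n)
    refine ⟨BC.up a n', BC.down_injective ?_⟩
    simp only [BC.down_mul, BC.down_inv, BC.down_map, BC.down_up]
    exact hn'

theorem central_iff (u : H ⟶ G) :
    (∀ (T : Over B) (g : T ⟶ Red.bc a G) (n : T ⟶ Red.bc a H),
        g * (n ≫ (Over.pullback a).map u) = (n ≫ (Over.pullback a).map u) * g) ↔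
      CentralOver u a := by
  constructor
  · intro h X t g n
    have e := congrArg (fun z => inc a t ≫ BC.down a z) (h _ (pt a t g) (pt a t n))
    simp only [BC.down_mul, BC.down_map, MonObj.comp_mul, ← Category.assoc, inc_down_pt] at e
    exact e
  · intro h X g n
    apply BC.down_injective
    simp only [BC.down_mul, BC.down_map]
    exact h ((Over.map a).obj X) (Over.homMk X.hom rfl) _ _

theorem normalOver_comp {B' : Scheme.{u}} (b : B' ⟶ B) {a' : B' ⟶ S} (e : b ≫ a = a') {u : H ⟶ G}
    (h : NormalOver u a) : NormalOver u a' := fun X t g n => h X (t ≫ Over.homMk b e) g n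

theorem centralOver_comp {B' : Scheme.{u}} (b : B' ⟶ B) {a' : B' ⟶ S} (e : b ≫ a = a') {u : H ⟶ G}
    (h : CentralOver u a) : CentralOver u a' := fun X t g n => h X (t ≫ Over.homMk b e) g n

omit [GrpObj G] in
theorem mono_iff (u : H ⟶ G) :
    Mono ((Over.pullback a).map u) ↔ Mono ((Over.pullback a).map u).left :=
  ⟨fun _ => inferInstance, fun _ => Over.mono_of_mono_left _⟩

omit [GrpObj G] in
theorem isPullback_map_left (u : H ⟶ G) :
    IsPullback (pullback.fst H.hom a) ((Over.pullback a).map u).left u.left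
      (pullback.fst G.hom a) := by
  refine IsPullback.of_bot ?_ ?_ (IsPullback.of_hasPullback G.hom a)
  · have h1 : ((Over.pullback a).map u).left ≫ pullback.snd G.hom a = pullback.snd H.hom a :=
      Over.w ((Over.pullback a).map u)
    rw [h1, Over.w u]
    exact IsPullback.of_hasPullback _ _
  · simp [Over.pullback_map_left]

omit [GrpObj G] in
theorem mono_comp {B' : Scheme.{u}} (b : B' ⟶ B) {a' : B' ⟶ S} (e : b ≫ a = a') {u : H ⟶ G}
    (h : Mono ((Over.pullback a).map u)) : Mono ((Over.pullback a').map u) := by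
  rw [mono_iff] at h ⊢
  let m : pullback G.hom a' ⟶ pullback G.hom a :=
    pullback.lift (pullback.fst _ _) (pullback.snd _ _ ≫ b) (by
      rw [Category.assoc, e, pullback.condition])
  let l : pullback H.hom a' ⟶ pullback H.hom a :=
    pullback.lift (pullback.fst _ _) (pullback.snd _ _ ≫ b) (by
      rw [Category.assoc, e, pullback.condition])
  have hm : m ≫ pullback.fst G.hom a = pullback.fst G.hom a' := pullback.lift_fst _ _ _
  have hl : l ≫ pullback.fst H.hom a = pullback.fst H.hom a' := pullback.lift_fst _ _ _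
  refine MorphismProperty.of_isPullback (P := MorphismProperty.monomorphisms Scheme.{u})
    (IsPullback.of_right (h₁₁ := l) (h₂₁ := m) ?_ ?_ (isPullback_map_left a u)) h
  · exact hl.symm ▸ hm.symm ▸ isPullback_map_left a' u
  · apply pullback.hom_ext
    · rw [Category.assoc, Category.assoc, hm, ← (isPullback_map_left a u).w, reassoc_of% hl]
      exact (isPullback_map_left a' u).w
    · simp [l, m, Over.pullback_map_left]

section Limit

variable {I : Type u} [SmallCategory I] [IsCofiltered I] {D : I ⥤ Scheme.{u}} {c : Cone D}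
  [∀ (i j : I) (f : i ⟶ j), IsAffineHom (D.map f)]
  [∀ i, CompactSpace (D.obj i)] [∀ i, QuasiSeparatedSpace (D.obj i)]
  (hc : IsLimit c) {j : I} {G H : Over (D.obj j)} [GrpObj G]
  [LocallyOfFinitePresentation G.hom] [QuasiCompact G.hom] [QuasiSeparated G.hom]
  [LocallyOfFinitePresentation H.hom] [QuasiCompact H.hom] [QuasiSeparated H.hom] (u : H ⟶ G)

include hc

omit [GrpObj G] in
theorem exists_mono (h : Mono ((Over.pullback (c.π.app j)).map u)) :
    ∃ (i : I) (f : i ⟶ j), Mono ((Over.pullback (D.map f)).map u) := by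
  have : CompactSpace G.left := QuasiCompact.compactSpace_of_compactSpace G.hom
  have : QuasiSeparatedSpace G.left := quasiSeparatedSpace_of_quasiSeparated G.hom
  have : CompactSpace H.left := QuasiCompact.compactSpace_of_compactSpace H.hom
  have : QuasiSeparatedSpace H.left := quasiSeparatedSpace_of_quasiSeparated H.hom
  have : LocallyOfFinitePresentation (u.left ≫ G.hom) := by rw [Over.w u]; infer_instance
  have : LocallyOfFinitePresentation u.left := Lib.Lim.OpenImm.lfp_of_comp _ G.hom
  have : MorphismProperty.RespectsIso (C := Scheme.{u}) @LocallyOfFinitePresentation :=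
    MorphismProperty.IsStableUnderBaseChange.respectsIso
  rw [mono_iff] at h
  obtain ⟨i, f, Xi, Yi, fi, gi, pY, pX, h1, h2, h3⟩ := Lib.Lim.Descend.descend_over
    H47.LimDescend.mono_descends D c hc j u.left G.hom ((Over.pullback (c.π.app j)).map u).left
    (pullback.snd G.hom (c.π.app j)) (pullback.fst G.hom (c.π.app j)) (pullback.fst H.hom (c.π.app j))
    (IsPullback.of_hasPullback _ _) (isPullback_map_left _ u) ‹LocallyOfFinitePresentation u.left› h
  refine ⟨i, f, (mono_iff _ u).mpr ?_⟩
  let e := h1.isoPullback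
  have sq : IsPullback pX (fi ≫ e.hom) u.left (pullback.fst G.hom (D.map f)) :=
    h2.of_iso (Iso.refl _) (Iso.refl _) e (Iso.refl _) (by simp) (by simp) (by simp) (by simp [e])
  have hm : Mono fi := h3
  have hmono : Mono (fi ≫ e.hom) := inferInstance
  let w := sq.isoIsPullback _ _ (isPullback_map_left (D.map f) u)
  have hw : w.hom ≫ ((Over.pullback (D.map f)).map u).left = fi ≫ e.hom :=
    IsPullback.isoIsPullback_hom_snd _ _ _ _
  rw [show ((Over.pullback (D.map f)).map u).left = w.inv ≫ fi ≫ e.hom by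
    rw [← hw, Iso.inv_hom_id_assoc]]
  infer_instance

theorem exists_centralOver (h : CentralOver u (c.π.app j)) :
    ∃ (i : I) (f : i ⟶ j), CentralOver u (D.map f) := by
  have hA : ∀ {i j : I} (g : i ⟶ j), IsAffineHom (D.map g) := fun g => inferInstance
  have : QuasiCompact (pullback.fst G.hom H.hom ≫ G.hom) :=
    have : QuasiCompact (pullback.fst G.hom H.hom) :=
      MorphismProperty.pullback_fst (P := @QuasiCompact) _ _ inferInstance
    inferInstance
  have : CompactSpace (G ⊗ H).left := QuasiCompact.compactSpace_of_compactSpace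
    (pullback.fst G.hom H.hom ≫ G.hom)
  let g₁ : G ⊗ H ⟶ G := fst G H * (snd G H ≫ u)
  let g₂ : G ⊗ H ⟶ G := (snd G H ≫ u) * fst G H
  let P : Over (D.obj j) := Over.mk (pullback.fst (G ⊗ H).hom (c.π.app j) ≫ (G ⊗ H).hom)
  let q : P ⟶ G ⊗ H := Over.homMk (pullback.fst (G ⊗ H).hom (c.π.app j)) rfl
  have e := h P (Over.homMk (pullback.snd (G ⊗ H).hom (c.π.app j)) pullback.condition.symm)
    (q ≫ fst G H) (q ≫ snd G H)
  have hq : q ≫ g₁ = q ≫ g₂ := by
    simp only [g₁, g₂, MonObj.comp_mul, ← Category.assoc]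
    exact e
  obtain ⟨i, f, hf⟩ := exists_bc_comp_eq hc (IsPullback.of_hasPullback (G ⊗ H).hom (c.π.app j))
    G.hom g₁.left g₂.left ((Over.w g₁).trans (Over.w g₂).symm) (congrArg Over.Hom.left hq)
  refine ⟨i, f, fun X t g n => ?_⟩
  have hr : lift g n ≫ g₁ = lift g n ≫ g₂ := by
    apply Over.OverMorphism.ext
    let m : X.left ⟶ pullback (G ⊗ H).hom (D.map f) := pullback.lift (lift g n).left t.left
      ((Over.w (lift g n)).trans (Over.w t).symm)
    have hm : m ≫ pullback.fst _ _ = (lift g n).left := pullback.lift_fst _ _ _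
    show (lift g n).left ≫ g₁.left = (lift g n).left ≫ g₂.left
    rw [← hm, Category.assoc, Category.assoc, hf]
  simp only [g₁, g₂, MonObj.comp_mul, lift_fst, lift_snd_assoc] at hr
  exact hr

theorem exists_normalOver (h : NormalOver u (c.π.app j)) :
    ∃ (i : I) (f : i ⟶ j), NormalOver u (D.map f) := by
  have hA : ∀ {i j : I} (g : i ⟶ j), IsAffineHom (D.map g) := fun g => inferInstance
  have : QuasiCompact (pullback.fst G.hom H.hom ≫ G.hom) :=
    have : QuasiCompact (pullback.fst G.hom H.hom) :=
      MorphismProperty.pullback_fst (P := @QuasiCompact) _ _ inferInstance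
    inferInstance
  have : QuasiSeparated (pullback.fst G.hom H.hom ≫ G.hom) :=
    have : QuasiSeparated (pullback.fst G.hom H.hom) :=
      MorphismProperty.pullback_fst (P := @QuasiSeparated) _ _ inferInstance
    inferInstance
  have : CompactSpace (G ⊗ H).left := QuasiCompact.compactSpace_of_compactSpace
    (pullback.fst G.hom H.hom ≫ G.hom)
  have : QuasiSeparatedSpace (G ⊗ H).left := quasiSeparatedSpace_of_quasiSeparated
    (pullback.fst G.hom H.hom ≫ G.hom)
  let c₀ : G ⊗ H ⟶ G := fst G H * (snd G H ≫ u) * (fst G H)⁻¹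
  have hT := IsPullback.of_hasPullback (G ⊗ H).hom (c.π.app j)
  let P : Over (D.obj j) := Over.mk (pullback.fst (G ⊗ H).hom (c.π.app j) ≫ (G ⊗ H).hom)
  let q : P ⟶ G ⊗ H := Over.homMk (pullback.fst (G ⊗ H).hom (c.π.app j)) rfl
  obtain ⟨nL, hnL⟩ := h P (Over.homMk (pullback.snd (G ⊗ H).hom (c.π.app j)) pullback.condition.symm)
    (q ≫ fst G H) (q ≫ snd G H)
  have hq : nL ≫ u = q ≫ c₀ := by
    rw [← hnL]
    simp only [c₀, MonObj.comp_mul, GrpObj.comp_inv, ← Category.assoc]
  obtain ⟨i, f, n', hn', hlift⟩ := exists_bc_hom hc hT H.hom (G ⊗ H).hom nL.left (Over.w nL)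
  -- the equation at a later stage
  let Ti := pullback (G ⊗ H).hom (D.map f)
  have : CompactSpace (Ti : Scheme.{u}) :=
    have : QuasiCompact (pullback.snd (G ⊗ H).hom (D.map f)) :=
      MorphismProperty.pullback_snd (P := @QuasiCompact) _ _ ‹QuasiCompact (pullback.fst G.hom H.hom ≫ G.hom)›
    QuasiCompact.compactSpace_of_compactSpace (pullback.snd (G ⊗ H).hom (D.map f))
  have hw : (n' ≫ u.left) ≫ G.hom =
      (pullback.fst (G ⊗ H).hom (D.map f) ≫ c₀.left) ≫ G.hom := by
    rw [Category.assoc, Category.assoc, Over.w u, hn', Over.w c₀]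
  obtain ⟨k, g, hk⟩ := exists_bc_comp_eq hc
    (IsPullback.of_hasPullback (pullback.snd (G ⊗ H).hom (D.map f)) (c.π.app i))
    G.hom (n' ≫ u.left) (pullback.fst (G ⊗ H).hom (D.map f) ≫ c₀.left) hw (by
      let m : pullback (pullback.snd (G ⊗ H).hom (D.map f)) (c.π.app i) ⟶
          pullback (G ⊗ H).hom (c.π.app j) :=
        pullback.lift (pullback.fst _ _ ≫ pullback.fst _ _) (pullback.snd _ _) (by
          rw [Category.assoc, pullback.condition, pullback.condition_assoc, c.w])
      have hm : m ≫ pullback.lift (pullback.fst (G ⊗ H).hom (c.π.app j))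
          (pullback.snd (G ⊗ H).hom (c.π.app j) ≫ c.π.app i)
          (by rw [Category.assoc, c.w, pullback.condition]) = pullback.fst _ _ := by
        apply pullback.hom_ext <;> simp [m, pullback.condition]
      have e := congrArg Over.Hom.left hq
      simp only [Over.comp_left] at e
      rw [← hm]
      simp only [Category.assoc, reassoc_of% hlift, pullback.lift_fst_assoc, e]
      rfl)
  refine ⟨k, g ≫ f, fun X t g' n => ?_⟩
  let m : X.left ⟶ Ti := pullback.lift (lift g' n).left (t.left ≫ D.map g)
    (by rw [Category.assoc, ← D.map_comp]; exact (Over.w (lift g' n)).trans (Over.w t).symm)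
  have hmf : m ≫ pullback.fst _ _ = (lift g' n).left := pullback.lift_fst _ _ _
  let m' : X.left ⟶ pullback (pullback.snd (G ⊗ H).hom (D.map f)) (D.map g) :=
    pullback.lift m t.left (pullback.lift_snd _ _ _)
  refine ⟨Over.homMk (m ≫ n') ?_, ?_⟩
  · rw [Category.assoc, hn', reassoc_of% hmf, Over.w (lift g' n)]
  · have hr : lift g' n ≫ c₀ = g' * (n ≫ u) * g'⁻¹ := by
      simp only [c₀, MonObj.comp_mul, GrpObj.comp_inv, lift_fst, lift_snd_assoc]
    rw [← hr]
    apply Over.OverMorphism.ext
    show (lift g' n).left ≫ c₀.left = (m ≫ n') ≫ u.left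
    rw [← hmf, Category.assoc, Category.assoc, show m = m' ≫ pullback.fst _ _ from
      (pullback.lift_fst _ _ _).symm, Category.assoc, Category.assoc, hk]

end Limit

end Groth.Agent.H69.NormalDescend
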