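import Groth.Agent.Lib.DvrCrit.MonoLift
import Groth.Agent.Lib.DvrCrit.Existence
import Groth.Agent.Lib.DvrCrit.Abstract
import Groth.Agent.Lib.Spectral.Noetherian
import Groth.Agent.Lib.Spectral.Basic
import Groth.Agent.Lib.Lim.Descend
import Groth.Agent.H75.RedSub
import Mathlib.AlgebraicGeometry.ZariskisMainTheorem

/-!
# Monomorphisms satisfying a valuative and a generic lifting condition are immersions
-/

set_option autoImplicit false
set_option linter.unusedVariables false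
set_option linter.style.haveILetI false
set_option backward.isDefEq.respectTransparency false
universe u
open CategoryTheory Limits AlgebraicGeometry IsLocalRing Groth.Agent.Lib Groth.Agent.Lib.DvrCrit Topology

namespace Groth.Agent.H69.MonoImmersion

variable {X Y : Scheme.{u}} [IsLocallyNoetherian X] (f : Y ⟶ X) [LocallyOfFinitePresentation f] [Mono f]

theorem lift_point {K : Type u} [Field K] (a : Spec (CommRingCat.of K) ⟶ X) (y : Y)
    (h : a (closedPoint K) = f y) : ∃ l : Spec (CommRingCat.of K) ⟶ Y, l ≫ f = a := by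
  haveI : IsIso (f.residueFieldMap y) :=
    (ConcreteCategory.isIso_iff_bijective _).2 (residueFieldMap_bijective_of_mono f y)
  obtain ⟨⟨x, φ⟩, rfl⟩ := (Scheme.SpecToEquivOfField K X).symm.surjective a
  obtain rfl : x = f y := (Scheme.fromSpecResidueField_apply x _).symm.trans h
  refine ⟨Spec.map (inv (f.residueFieldMap y) ≫ φ) ≫ Y.fromSpecResidueField y, ?_⟩
  rw [Category.assoc, ← Scheme.Hom.SpecMap_residueFieldMap_fromSpecResidueField, ← Spec.map_comp_assoc,
    IsIso.hom_inv_id_assoc]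
  rfl

variable (hb : ∀ S : ValuativeCommSq f, IsDiscreteValuationRing S.R →
    (∃ l₀ : Spec (CommRingCat.of (ResidueField S.R)) ⟶ Y,
        l₀ ≫ f = Spec.map (CommRingCat.ofHom (residue S.R)) ≫ S.i₂) →
      S.commSq.HasLift)

include hb in
theorem reflects (y₁ y₀ : Y) (h : f y₁ ⤳ f y₀) : y₁ ⤳ y₀ := by
  by_cases hne : f y₁ = f y₀
  · exact specializes_of_eq (f.injective hne)
  obtain ⟨W, -, φ, hφc, hgen⟩ := exists_dvr_center f y₁ (f y₀) h hne
  obtain ⟨l, hl, hlf⟩ := exists_lift_of_mono f hb y₁ y₀ W φ hgen hφc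
  have e : l (closedPoint W) = y₀ := f.injective (by rw [← Scheme.Hom.comp_apply, hlf, hφc])
  exact e ▸ specializes_of_gen y₁ W l hl

include hb in
theorem mem_range_of_between (y₂ y₀ : Y) (x₁ : X) (h₂ : f y₂ ⤳ x₁) (h₀ : x₁ ⤳ f y₀) :
    x₁ ∈ Set.range f := by
  obtain ⟨U, hU, hxU, -⟩ := exists_isAffineOpen_mem_and_subset (x := f y₀) (U := (⊤ : X.Opens)) trivial
  obtain ⟨V, hV, hyV, hVU⟩ := exists_isAffineOpen_mem_and_subset (x := y₀) (U := f ⁻¹ᵁ U) hxU
  haveI : IsAffine (U : Scheme.{u}) := hU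
  haveI : IsAffine (V : Scheme.{u}) := hV
  let g : (V : Scheme.{u}) ⟶ U := f.resLE U V hVU
  haveI : IsAffineHom g := isAffineHom_of_isAffine g
  haveI : LocallyQuasiFinite g := by
    haveI : LocallyQuasiFinite (g ≫ U.ι) := by
      rw [Scheme.Hom.resLE_comp_ι]; infer_instance
    exact LocallyQuasiFinite.of_comp g U.ι
  haveI : LocallyOfFiniteType g := locallyOfFiniteType_of_comp g U.ι
  let j := g.toNormalization
  let π := g.fromNormalization
  have hjπ : j ≫ π = g := g.toNormalization_fromNormalization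
  have hι : ∀ v, U.ι (g v) = f (V.ι v) := fun v => by
    rw [← Scheme.Hom.comp_apply, Scheme.Hom.resLE_comp_ι, Scheme.Hom.comp_apply]
  have hy₂V : y₂ ∈ V := (reflects f hb y₂ y₀ (h₂.trans h₀)).mem_open V.2 hyV
  let v₂ : V := ⟨y₂, hy₂V⟩
  have hx₁U : x₁ ∈ U := h₀.mem_open U.2 hxU
  have hU₁ : π (j v₂) ⤳ (⟨x₁, hx₁U⟩ : U) := by
    rw [U.ι.isOpenEmbedding.isInducing.specializes_iff.symm, ← Scheme.Hom.comp_apply j π, hjπ, hι]
    exact h₂
  obtain ⟨w₁, hw₁, hπ₁⟩ := π.isClosedMap.specializingMap hU₁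
  have hU₀ : π w₁ ⤳ g ⟨y₀, hyV⟩ := by
    rw [U.ι.isOpenEmbedding.isInducing.specializes_iff.symm, hπ₁, hι]
    exact h₀
  obtain ⟨w₀, hw₀, hπ₀⟩ := π.isClosedMap.specializingMap hU₀
  let e : Spec (CommRingCat.of (Y.residueField y₂)) ⟶ (V : Scheme.{u}) :=
    IsOpenImmersion.lift V.ι (Y.fromSpecResidueField y₂) (by
      rw [Scheme.Opens.range_ι]
      exact (Scheme.range_fromSpecResidueField y₂).le.trans (Set.singleton_subset_iff.2 hy₂V))
  have he : e ≫ V.ι = Y.fromSpecResidueField y₂ := IsOpenImmersion.lift_fac _ _ _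
  let e' := e ≫ j
  have hep : e' (closedPoint (Y.residueField y₂)) = j v₂ := by
    rw [Scheme.Hom.comp_apply]
    congr 1
    apply V.ι.injective
    rw [← Scheme.Hom.comp_apply, he]
    exact Scheme.fromSpecResidueField_apply y₂ _
  have hs : e' (closedPoint (Y.residueField y₂)) ⤳ w₀ := by rw [hep]; exact hw₁.trans hw₀
  let θ : g.normalization.presheaf.stalk w₀ ⟶ CommRingCat.of (Y.residueField y₂) :=
    g.normalization.presheaf.stalkSpecializes hs ≫ Scheme.stalkClosedPointTo e'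
  have hθ : Spec.map θ ≫ g.normalization.fromSpecStalk w₀ = e' := by
    simp only [θ, Spec.map_comp, Category.assoc, Scheme.SpecMap_stalkSpecializes_fromSpecStalk]
    exact Scheme.Spec_stalkClosedPointTo_fromSpecStalk _
  obtain ⟨R, hR, hloc⟩ := exists_factor_valuationRing θ.hom
  let ψ : g.normalization.presheaf.stalk w₀ ⟶ CommRingCat.of R :=
    CommRingCat.ofHom (θ.hom.codRestrict R.toSubring hR)
  let φ' := Spec.map ψ ≫ g.normalization.fromSpecStalk w₀
  have hφ'c : φ' (closedPoint R) = w₀ := by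
    haveI : IsLocalHom ψ.hom := hloc
    have e1 : (Spec.map ψ) (closedPoint R) = closedPoint _ := comap_closedPoint ψ.hom
    rw [Scheme.Hom.comp_apply, e1, Scheme.fromSpecStalk_closedPoint]
  have hgen : gen R ≫ φ' = e' := by
    rw [← Category.assoc, ← Spec.map_comp]
    exact hθ
  obtain ⟨l, hl, hlf⟩ := exists_lift_of_mono f hb y₂ y₀ R (φ' ≫ π ≫ U.ι) (by
    rw [← Category.assoc, hgen, Category.assoc, ← Category.assoc j, hjπ,
      Scheme.Hom.resLE_comp_ι, ← Category.assoc, he]) (by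
    rw [Scheme.Hom.comp_apply, hφ'c, Scheme.Hom.comp_apply, hπ₀, hι]
    rfl)
  have hlc : l (closedPoint R) = y₀ := f.injective (by
    rw [← Scheme.Hom.comp_apply, hlf, Scheme.Hom.comp_apply, hφ'c, Scheme.Hom.comp_apply, hπ₀, hι]
    rfl)
  let l' : Spec (CommRingCat.of R) ⟶ (V : Scheme.{u}) := IsOpenImmersion.lift V.ι l (by
    rw [Scheme.Opens.range_ι]
    rintro _ ⟨p, rfl⟩
    exact ((specializes_closedPoint (R := R) p).map l.continuous).mem_open V.2 (hlc.symm ▸ hyV))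
  have hl' : l' ≫ V.ι = l := IsOpenImmersion.lift_fac _ _ _
  have heq : l' ≫ j = φ' := by
    refine uniqueness_apply (A := R) (K := Y.residueField y₂) (uniqueness_of_isSeparated π)
      (l' ≫ j) φ' ?_ ?_
    · rw [Category.assoc, hjπ, ← cancel_mono U.ι, Category.assoc, Scheme.Hom.resLE_comp_ι,
        ← Category.assoc, hl', hlf]
      simp only [φ', Category.assoc]
    · show gen R ≫ l' ≫ j = gen R ≫ φ'
      rw [hgen, ← Category.assoc]
      congr 1
      rw [← cancel_mono V.ι, Category.assoc, hl', hl, he]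
  have hw : w₀ ∈ Set.range j := ⟨l' (closedPoint R), by rw [← Scheme.Hom.comp_apply, heq, hφ'c]⟩
  obtain ⟨v, rfl⟩ := hw₀.mem_open j.isOpenEmbedding.isOpen_range hw
  refine ⟨V.ι v, ?_⟩
  rw [← hι, ← hjπ, Scheme.Hom.comp_apply, hπ₁]
  rfl

variable (hc : ∀ (A : Type u) [CommRing A] [IsDomain A] (s : Spec (CommRingCat.of A) ⟶ X)
      (D : Set ↥(Spec (CommRingCat.of A))), Dense D →
        (∀ p ∈ D, ∃ l : Spec ((Spec (CommRingCat.of A)).residueField p) ⟶ Y,
            l ≫ f = (Spec (CommRingCat.of A)).fromSpecResidueField p ≫ s) →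
          ∃ U : (Spec (CommRingCat.of A)).Opens, (U : Set ↥(Spec (CommRingCat.of A))).Nonempty ∧
            ∃ l : (U : Scheme.{u}) ⟶ Y, l ≫ f = U.ι ≫ s)

include hc in
theorem isConstructible_range (U : X.Opens) (hU : IsAffineOpen U) :
    IsConstructible (U.ι ⁻¹' Set.range f) := by
  haveI : IsAffine (U : Scheme.{u}) := hU
  haveI : TopologicalSpace.NoetherianSpace (U : Scheme.{u}) := by
    haveI : IsNoetherian (U : Scheme.{u}) := ⟨⟩
    infer_instance
  refine Spectral.Noetherian.isConstructible_of_forall _ fun Z hZ hZi hd => ?_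
  let C : TopologicalSpace.Closeds (U : Scheme.{u}) := ⟨Z, hZ⟩
  let Q : Scheme.{u} := (Scheme.IdealSheafData.vanishingIdeal (X := (U : Scheme.{u})) C).subscheme
  let i : Q ⟶ U := (Scheme.IdealSheafData.vanishingIdeal (X := (U : Scheme.{u})) C).subschemeι
  have hi : Set.range i = Z := by
    rw [Scheme.IdealSheafData.range_subschemeι, Scheme.IdealSheafData.coe_support_vanishingIdeal]
    rfl
  haveI : IsAffine Q := isAffine_of_isAffineHom i
  haveI : IsReduced Q := H75.RedSub.isReduced_vanishingIdeal (X := (U : Scheme.{u})) C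
  haveI : IrreducibleSpace Q := by
    obtain ⟨z, hz⟩ := hZi.1
    obtain ⟨q, -⟩ := hi.ge hz
    haveI : PreirreducibleSpace Q := ⟨fun u v hu hv ⟨a, _, ha⟩ ⟨b, _, hb⟩ => by
      obtain ⟨u', hu', rfl⟩ := i.isEmbedding.isInducing.isOpen_iff.1 hu
      obtain ⟨v', hv', rfl⟩ := i.isEmbedding.isInducing.isOpen_iff.1 hv
      obtain ⟨c, hcZ, hcu, hcv⟩ :=
        hZi.2 u' v' hu' hv' ⟨i a, hi.le ⟨a, rfl⟩, ha⟩ ⟨i b, hi.le ⟨b, rfl⟩, hb⟩
      obtain ⟨q', rfl⟩ := hi.ge hcZ
      exact ⟨q', trivial, hcu, hcv⟩⟩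
    exact { toNonempty := ⟨q⟩ }
  haveI : IsIntegral Q := isIntegral_of_irreducibleSpace_of_isReduced Q
  let s : Spec Γ(Q, ⊤) ⟶ X := Q.isoSpec.inv ≫ i ≫ U.ι
  let k : Spec Γ(Q, ⊤) ⟶ (U : Scheme.{u}) := Q.isoSpec.inv ≫ i
  have hk : Set.range k = Z := by
    rw [Scheme.Hom.comp_base, TopCat.coe_comp, Set.range_comp,
      Set.range_eq_univ.2 Q.isoSpec.inv.surjective, Set.image_univ, hi]
  let D : Set ↥(Spec Γ(Q, ⊤)) := k ⁻¹' (U.ι ⁻¹' Set.range f)
  have hD : Dense D := by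
    intro p
    rw [k.isEmbedding.isInducing.closure_eq_preimage_closure_image, Set.image_preimage_eq_inter_range, hk]
    exact hd (hk.le ⟨p, rfl⟩)
  obtain ⟨O, hO, l, hl⟩ := hc Γ(Q, ⊤) s D hD fun p ⟨y, hy⟩ => lift_point f
    (K := (Spec Γ(Q, ⊤)).residueField p) _ y (by
      rw [Scheme.Hom.comp_apply]
      refine (congrArg s (Scheme.fromSpecResidueField_apply p _)).trans ?_
      exact hy.symm)
  obtain ⟨O', hO', hOO'⟩ := k.isEmbedding.isInducing.isOpen_iff.1 O.2
  refine ⟨O', hO', ?_, ?_⟩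
  · obtain ⟨p, hp⟩ := hO
    exact ⟨k p, hOO'.ge hp, hk.le ⟨p, rfl⟩⟩
  · rintro x ⟨hxO, hxZ⟩
    obtain ⟨p, rfl⟩ := hk.ge hxZ
    refine ⟨l ⟨p, hOO'.le hxO⟩, ?_⟩
    rw [← Scheme.Hom.comp_apply, hl]
    rfl

include hb hc in
theorem exists_nhd (y₀ : Y) : ∃ W : X.Opens, f y₀ ∈ W ∧ IsClosedImmersion (f ∣_ W) := by
  obtain ⟨U, hU, hxU, -⟩ := exists_isAffineOpen_mem_and_subset (x := f y₀) (U := (⊤ : X.Opens)) trivial
  haveI : IsAffine (U : Scheme.{u}) := hU
  haveI : IsNoetherian (U : Scheme.{u}) := ⟨⟩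
  haveI : SpectralSpace (U : Scheme.{u}) := {}
  let E : Set (U : Scheme.{u}) := U.ι ⁻¹' Set.range f
  have hE : IsConstructible E := isConstructible_range f hc U hU
  have hC : IsConstructible (closure E \ E) :=
    (Spectral.Noetherian.isConstructible_of_isClosed isClosed_closure).sdiff hE
  have hx : (⟨f y₀, hxU⟩ : U) ∉ closure (closure E \ E) := by
    intro h
    obtain ⟨c, ⟨hc1, hc2⟩, hcx⟩ := Spectral.Basic.exists_specializes_of_mem_closure
      (Spectral.Basic.isClopen_cons_of_isConstructible hC).1 h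
    obtain ⟨e, ⟨y₂, hy₂⟩, hec⟩ := Spectral.Basic.exists_specializes_of_mem_closure
      (Spectral.Basic.isClopen_cons_of_isConstructible hE).1 hc1
    exact hc2 (mem_range_of_between f hb y₂ y₀ (U.ι c)
      (hy₂ ▸ hec.map U.ι.continuous) (hcx.map U.ι.continuous))
  let W : X.Opens := U.ι ''ᵁ ⟨(closure (closure E \ E))ᶜ, isClosed_closure.isOpen_compl⟩
  refine ⟨W, ⟨⟨f y₀, hxU⟩, hx, rfl⟩, ?_⟩
  let g : (f ⁻¹ᵁ W : Scheme.{u}) ⟶ W := f ∣_ W
  have hgι : g ≫ W.ι = (f ⁻¹ᵁ W).ι ≫ f := morphismRestrict_ι _ _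
  haveI : Mono g := by
    haveI : Mono (g ≫ W.ι) := hgι ▸ inferInstance
    exact mono_of_mono g W.ι
  haveI : LocallyOfFinitePresentation g := MorphismProperty.of_isPullback
    (isPullback_morphismRestrict f W).flip ‹LocallyOfFinitePresentation f›
  have hr : ∀ w : W, w ∈ Set.range g ↔ W.ι w ∈ Set.range f := fun w => by
    constructor
    · rintro ⟨v, rfl⟩
      exact ⟨(f ⁻¹ᵁ W).ι v, by rw [← Scheme.Hom.comp_apply, ← hgι, Scheme.Hom.comp_apply]⟩
    · rintro ⟨y, hy⟩
      refine ⟨⟨y, show f y ∈ W from hy ▸ w.2⟩, W.ι.injective ?_⟩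
      rw [← Scheme.Hom.comp_apply, hgι, Scheme.Hom.comp_apply]
      exact hy
  have hcl : IsClosed (Set.range g) := by
    rw [← closure_subset_iff_isClosed]
    intro w hw
    rw [hr]
    obtain ⟨u₀, hu₀, huw⟩ := w.2
    by_contra hn
    refine hu₀ (subset_closure ⟨?_, fun hmem => hn (show W.ι w ∈ Set.range f from Set.mem_of_eq_of_mem huw.symm hmem)⟩)
    have h1 : U.ι u₀ ∈ closure (W.ι '' Set.range g) :=
      huw ▸ (image_closure_subset_closure_image W.ι.continuous ⟨w, hw, rfl⟩)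
    rw [U.ι.isOpenEmbedding.isInducing.closure_eq_preimage_closure_image]
    refine closure_mono ?_ h1
    rintro _ ⟨w', hw', rfl⟩
    obtain ⟨u', -, hu'⟩ := w'.2
    exact ⟨u', show U.ι u' ∈ Set.range f from hu'.symm ▸ (hr w').1 hw', hu'⟩
  haveI : TopologicalSpace.NoetherianSpace (W : Scheme.{u}) := by
    have hWU : W ≤ U := fun x ⟨u, _, hu⟩ => hu ▸ u.2
    exact (X.homOfLE hWU).isOpenEmbedding.isInducing.noetherianSpace
  haveI : IsNoetherian (W : Scheme.{u}) := ⟨⟩
  haveI : SpectralSpace (W : Scheme.{u}) := {}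
  have hb' : ∀ S : ValuativeCommSq g, IsDiscreteValuationRing S.R →
      (∃ l₀ : Spec (CommRingCat.of (ResidueField S.R)) ⟶ _,
        l₀ ≫ g = Spec.map (CommRingCat.ofHom (residue S.R)) ≫ S.i₂) → S.commSq.HasLift := by
    rintro S hd ⟨l₀, hl₀⟩
    let S' : ValuativeCommSq f :=
      { R := S.R, K := S.K, i₁ := S.i₁ ≫ (f ⁻¹ᵁ W).ι, i₂ := S.i₂ ≫ W.ι,
        commSq := ⟨by rw [Category.assoc, ← hgι, ← Category.assoc, S.commSq.w, Category.assoc]⟩ }
    obtain ⟨⟨L⟩⟩ := hb S' hd ⟨l₀ ≫ (f ⁻¹ᵁ W).ι, by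
      rw [Category.assoc, ← hgι, ← Category.assoc, hl₀, Category.assoc]⟩
    refine ⟨⟨{ l := (isPullback_morphismRestrict f W).lift S.i₂ L.l L.fac_right.symm,
               fac_left := ?_, fac_right := (isPullback_morphismRestrict f W).lift_fst _ _ _ }⟩⟩
    rw [← cancel_mono (f ⁻¹ᵁ W).ι, Category.assoc, IsPullback.lift_snd]
    exact L.fac_left
  haveI : QuasiCompact g := by
    have hV : ∀ V : (f ⁻¹ᵁ W : Scheme.{u}).affineOpens, IsOpen ((g '' (V.1 : Set _)) ∪ (Set.range g)ᶜ) := by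
      intro V
      haveI : QuasiCompact (V.1.ι ≫ g) := by
        haveI : CompactSpace (V.1 : Scheme.{u}) := isCompact_iff_compactSpace.mp V.2.isCompact
        exact quasiCompact_of_compactSpace (V.1.ι ≫ g)
      have hcon : IsConstructible (g '' (V.1 : Set _)) := by
        have := (V.1.ι ≫ g).isConstructible_image (s := Set.univ) IsConstructible.univ
        rwa [Set.image_univ, Scheme.Hom.comp_base, TopCat.coe_comp, Set.range_comp,
          Scheme.Opens.range_ι] at this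
      refine Spectral.Basic.isOpen_of_isConstructible
        (hcon.union (Spectral.Noetherian.isConstructible_of_isClosed hcl).compl) ?_
      rintro x x' hx'x (⟨v, hv, rfl⟩ | hxn)
      · by_cases hx' : x' ∈ Set.range g
        · obtain ⟨v', rfl⟩ := hx'
          exact Or.inl ⟨v', (reflects g hb' v' v hx'x).mem_open V.1.2 hv, rfl⟩
        · exact Or.inr hx'
      · exact Or.inr fun hx' => hxn (hx'x.mem_closed hcl hx')
    obtain ⟨t, ht⟩ := (TopologicalSpace.NoetherianSpace.isCompact (Set.range g)).elim_finite_subcover _ hV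
      (by
        rintro _ ⟨v, rfl⟩
        obtain ⟨V, hVa, hvV, -⟩ := exists_isAffineOpen_mem_and_subset (x := v)
          (U := (⊤ : (f ⁻¹ᵁ W : Scheme.{u}).Opens)) trivial
        exact Set.mem_iUnion.2 ⟨⟨V, hVa⟩, Or.inl ⟨v, hvV, rfl⟩⟩)
    haveI : CompactSpace (f ⁻¹ᵁ W : Scheme.{u}) := by
      refine ⟨?_⟩
      rw [show (Set.univ : Set (f ⁻¹ᵁ W : Scheme.{u})) = ⋃ V ∈ t, (V.1 : Set _) from ?_]
      · exact t.isCompact_biUnion fun V _ => V.2.isCompact
      · refine Set.ext fun v => ⟨fun _ => ?_, fun _ => trivial⟩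
        obtain ⟨V, hVt, hv⟩ := Set.mem_iUnion₂.1 (ht ⟨v, rfl⟩)
        rcases hv with ⟨v', hv', e⟩ | hv
        · exact Set.mem_iUnion₂.2 ⟨V, hVt, g.injective e ▸ hv'⟩
        · exact absurd ⟨v, rfl⟩ hv
    exact quasiCompact_of_compactSpace g
  haveI : IsProper g := by
    haveI : UniversallyClosed g := DvrCrit.universallyClosed_of_dvr g fun z R hR φ hφ => by
      have hz : g z ⤳ φ (closedPoint R) := fromSpecResidueField_point z g _ ▸ gen_specializes R φ _ hφ
      obtain ⟨y', hy'⟩ := hz.mem_closed hcl ⟨z, rfl⟩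
      exact exists_lift_of_mono g hb' z y' R φ hφ hy'.symm
    exact ⟨⟩
  exact (IsClosedImmersion.iff_isProper_and_mono g).2 ⟨‹_›, ‹_›⟩

include hb hc in
theorem isImmersion : IsImmersion f := by
  choose W hW hcW using exists_nhd f hb hc
  let U : X.Opens := ⨆ y, W y
  have hr : Set.range f ⊆ Set.range U.ι := by
    rw [Scheme.Opens.range_ι]
    rintro _ ⟨y, rfl⟩
    exact TopologicalSpace.Opens.mem_iSup.2 ⟨y, hW y⟩
  let g := IsOpenImmersion.lift U.ι f hr
  have hg : g ≫ U.ι = f := IsOpenImmersion.lift_fac _ _ _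
  haveI : IsClosedImmersion g := by
    rw [IsZariskiLocalAtTarget.iff_of_iSup_eq_top (P := @IsClosedImmersion) (fun y => U.ι ⁻¹ᵁ W y)
      (top_le_iff.1 fun u _ => by
        obtain ⟨y, hy⟩ := TopologicalSpace.Opens.mem_iSup.1 u.2
        exact TopologicalSpace.Opens.mem_iSup.2 ⟨y, hy⟩)]
    intro y
    have h1 : IsPullback (g ⁻¹ᵁ U.ι ⁻¹ᵁ W y).ι (g ∣_ (U.ι ⁻¹ᵁ W y)) f ((U.ι ⁻¹ᵁ W y).ι ≫ U.ι) := by
      have h0 := (isPullback_morphismRestrict g (U.ι ⁻¹ᵁ W y)).flip
      have h2 : IsPullback (𝟙 Y) g f U.ι := by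
        refine ⟨⟨by rw [Category.id_comp, hg]⟩, ⟨PullbackCone.isLimitAux' _ fun s => ⟨s.fst,
          Category.comp_id _, ?_, fun h _ => (Category.comp_id _).symm.trans h⟩⟩⟩
        rw [← cancel_mono U.ι]
        exact (Category.assoc _ _ _).trans ((congrArg (s.fst ≫ ·) hg).trans s.condition)
      simpa using h0.paste_horiz h2
    exact Lim.Descend.prop_of_factor (P := @IsClosedImmersion)
      (show IsClosedImmersion (pullback.snd f (W y).ι) by
        rw [← (isPullback_morphismRestrict f (W y)).flip.isoPullback_inv_snd]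
        exact MorphismProperty.comp_mem _ _ _ inferInstance (hcW y))
      (IsOpenImmersion.lift (W y).ι ((U.ι ⁻¹ᵁ W y).ι ≫ U.ι) (by
        rw [Scheme.Opens.range_ι]
        rintro _ ⟨z, rfl⟩
        exact z.2))
      (IsOpenImmersion.lift_fac _ _ _) h1
  rw [← hg]
  infer_instance

end Groth.Agent.H69.MonoImmersion
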