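import Groth.Agent.Lib.FibreDim.Global
import Groth.Agent.H2.FibreDimPullback
import Groth.Agent.Lib.PointDim.Basic
import Groth.Prelude.Def_Cyc

/-!
# Relative dimension via local fibre dimensions; the loci are locally constructible
-/

set_option autoImplicit false
set_option backward.isDefEq.respectTransparency false

universe u

open CategoryTheory CategoryTheory.Limits AlgebraicGeometry TopologicalSpace Topology
open Groth.Agent.Lib

namespace Groth.Agent.H69.RelDimLocus

/-- For finite type over a field, an open neighbourhood of a generalization has at least the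
dimension of the closure of that generalization. -/
theorem dim_closure_le_open {k : Type u} [Field k] {Z : Scheme.{u}}
    (p : Z ⟶ Spec (CommRingCat.of k)) [LocallyOfFiniteType p] (U : Z.Opens) {η : Z} (hη : η ∈ U) :
    topologicalKrullDim ↥(closure ({η} : Set Z)) ≤ topologicalKrullDim (U : Set Z) := by
  let η' : (U : Scheme.{u}) := ⟨η, hη⟩
  rw [PointDim.Basic.topologicalKrullDim_closure_singleton p η]
  have h := PointDim.Basic.topologicalKrullDim_closure_singleton (U.ι ≫ p) η'
  have e : PointDim.Basic.natTdeg (U.ι ≫ p) η' = PointDim.Basic.natTdeg p η :=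
    congrArg Cardinal.toNat (PointDim.Basic.tdeg_openImmersion U.ι p (U.ι ≫ p) rfl η')
  rw [← e, ← h]
  exact topologicalKrullDim_subspace_le (U : Scheme.{u}) _

theorem localDim_eq_of_hasRelDim {X Y : Scheme.{u}} (f : X ⟶ Y) [LocallyOfFiniteType f] {d : ℕ}
    (h : Cyc.HasRelDim f d) (x : X) : FlatMor.fibreDimAt f x = d := by
  let F := f.fiber (f x)
  let z : F := f.asFiber x
  have : LocallyOfFiniteType (X := F) (Y := Spec (CommRingCat.of (Y.residueField (f x))))
      (f.fiberToSpecResidueField (f x)) := MorphismProperty.pullback_snd _ _ ‹_›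
  obtain ⟨T, hT, hzT⟩ : ∃ T ∈ irreducibleComponents F, z ∈ T :=
    ⟨irreducibleComponent z, irreducibleComponent_mem_irreducibleComponents z,
      mem_irreducibleComponent⟩
  have hTc := isClosed_of_mem_irreducibleComponents T hT
  apply le_antisymm
  · refine le_trans (FibreDim.Basic.localDim_le_topologicalKrullDim z) ?_
    refine iSup_le fun l => ?_
    let T' := irreducibleComponent l.last.isIrreducible.nonempty.choose
    obtain ⟨T', hT', hsub⟩ : ∃ T' ∈ irreducibleComponents F, (l.last : Set F) ⊆ T' := by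
      obtain ⟨T', h1, h2⟩ := exists_preirreducible (l.last : Set F) l.last.isIrreducible.2
      refine ⟨T', ⟨⟨l.last.isIrreducible.nonempty.mono h2.1, h1⟩, fun S hS hle => ?_⟩, h2.1⟩
      exact (h2.2 S hS.2 hle).le
    have hT'c := isClosed_of_mem_irreducibleComponents T' hT'
    have hmem : ∀ i, (l i : Set F) ⊆ T' := fun i =>
      Set.Subset.trans (l.monotone (Fin.le_last i)) hsub
    let cut : Fin (l.length + 1) → IrreducibleCloseds T' := fun i =>
      { carrier := Subtype.val ⁻¹' (l i : Set F)
        isIrreducible' := by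
          constructor
          · obtain ⟨y, hy⟩ := (l i).isIrreducible.nonempty
            exact ⟨⟨y, hmem i hy⟩, hy⟩
          · intro A B hA hB ⟨a, ha, haA⟩ ⟨b, hb, hbB⟩
            obtain ⟨A', hA', rfl⟩ := isOpen_induced_iff.mp hA
            obtain ⟨B', hB', rfl⟩ := isOpen_induced_iff.mp hB
            obtain ⟨y, hy, hyAB⟩ := (l i).isIrreducible.2 A' B' hA' hB' ⟨a.1, ha, haA⟩
              ⟨b.1, hb, hbB⟩
            exact ⟨⟨y, hmem i hy⟩, hy, hyAB⟩
        isClosed' := (l i).isClosed.preimage continuous_subtype_val }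
    have hmono : StrictMono cut := by
      intro i j hij
      have hle : cut i ≤ cut j := fun y hy => (l.monotone hij.le : (l i : Set F) ⊆ l j) hy
      refine hle.lt_of_not_ge fun hge => (l.strictMono hij).not_ge fun y hy => ?_
      exact hge (show (⟨y, hmem j hy⟩ : T') ∈ cut j from hy)
    exact le_trans (le_iSup_of_le (LTSeries.mk l.length cut hmono) le_rfl)
      (h (f x) T' hT').le
  · refine le_iInf fun U => ?_
    obtain ⟨η, hη⟩ := QuasiSober.sober hT.1 hTc
    rw [← h (f x) T hT, ← hη.def]
    exact dim_closure_le_open (f.fiberToSpecResidueField (f x)) U.1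
      ((hη.specializes hzT).mem_open U.1.2 U.2)

theorem hasRelDim_of_forall {X Y : Scheme.{u}} (f : X ⟶ Y) [LocallyOfFiniteType f] {d : ℕ}
    (h : ∀ x, FlatMor.fibreDimAt f x = d) : Cyc.HasRelDim f d := by
  intro y T hT
  let F := f.fiber y
  have hup : topologicalKrullDim F ≤ d :=
    FibreDim.Basic.topologicalKrullDim_fiber_le f fun x _ => (h x).le
  refine le_antisymm ((topologicalKrullDim_subspace_le F T).trans hup) ?_
  have hTc := isClosed_of_mem_irreducibleComponents T hT
  obtain ⟨η, hη⟩ := QuasiSober.sober hT.1 hTc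
  have : LocallyOfFiniteType (X := F) (Y := Spec (CommRingCat.of (Y.residueField y)))
      (f.fiberToSpecResidueField y) := MorphismProperty.pullback_snd _ _ ‹_›
  have : IsLocallyNoetherian F := LocallyOfFiniteType.isLocallyNoetherian
    (Y := Spec (CommRingCat.of (Y.residueField y))) (f.fiberToSpecResidueField y)
  -- an affine neighbourhood of the generic point has finitely many components
  obtain ⟨_, ⟨W, hW, rfl⟩, hηW, -⟩ :=
    F.isBasis_affineOpens.exists_subset_of_mem_open (Set.mem_univ η) isOpen_univ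
  have : IsNoetherianRing Γ(F, W) := IsLocallyNoetherian.component_noetherian ⟨W, hW⟩
  have : NoetherianSpace (W : Set F) := noetherianSpace_of_isAffineOpen _ hW
  let others : Set (W : Set F) := ⋃ S ∈ {S ∈ irreducibleComponents (W : Set F) |
    (⟨η, hηW⟩ : (W : Set F)) ∉ S}, S
  have hothers : IsClosed others :=
    (NoetherianSpace.finite_irreducibleComponents.subset fun S hS => hS.1).isClosed_biUnion
      fun S hS => isClosed_of_mem_irreducibleComponents S hS.1
  let U : Opens F := ⟨Subtype.val '' othersᶜ,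
    W.2.isOpenMap_subtype_val _ hothers.isOpen_compl⟩
  have hηU : η ∈ U := by
    refine ⟨⟨η, hηW⟩, fun hmem => ?_, rfl⟩
    obtain ⟨S, hS, hηS⟩ := Set.mem_iUnion₂.mp hmem
    exact hS.2 hηS
  have hUT : (U : Set F) ⊆ T := by
    rintro _ ⟨v, hv, rfl⟩
    have hS := irreducibleComponent_mem_irreducibleComponents v
    by_cases hηS : (⟨η, hηW⟩ : (W : Set F)) ∈ irreducibleComponent v
    · have hirr : IsIrreducible (closure (Subtype.val '' irreducibleComponent v : Set F)) :=
        (isIrreducible_irreducibleComponent.image _ continuous_subtype_val.continuousOn).closure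
      have hsub : T ⊆ closure (Subtype.val '' irreducibleComponent v : Set F) := by
        rw [← hη.def]
        exact closure_mono (Set.singleton_subset_iff.mpr ⟨_, hηS, rfl⟩)
      exact hT.2 hirr hsub (subset_closure ⟨v, mem_irreducibleComponent, rfl⟩)
    · exact (hv (Set.mem_iUnion₂.mpr ⟨_, ⟨hS, hηS⟩, mem_irreducibleComponent⟩)).elim
  calc ((d : ℕ) : WithBot ℕ∞) = FlatMor.fibreDimAt f (f.fiberι y η) := (h _).symm
    _ = FlatMor.localDim ↥F η := (FibreDim.Basic.localDim_fiber f η).symm
    _ ≤ topologicalKrullDim (U : Set F) := iInf_le_of_le ⟨U, hηU⟩ le_rfl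
    _ ≤ topologicalKrullDim T := (IsEmbedding.inclusion hUT).isInducing.topologicalKrullDim_le

/-- For a morphism locally of finite presentation the locus of bounded local fibre dimension is
locally constructible. -/
theorem isLocallyConstructible_setOf_fibreDimAt_le {X Y : Scheme.{u}} (f : X ⟶ Y)
    [LocallyOfFinitePresentation f] (n : ℕ) :
    IsLocallyConstructible {x : X | FlatMor.fibreDimAt f x ≤ (n : WithBot ℕ∞)} := by
  intro x
  obtain ⟨_, ⟨V, hV, rfl⟩, hxV, -⟩ :=
    Y.isBasis_affineOpens.exists_subset_of_mem_open (Set.mem_univ (f x)) isOpen_univ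
  obtain ⟨_, ⟨W, hW, rfl⟩, hxW, hWV⟩ :=
    X.isBasis_affineOpens.exists_subset_of_mem_open (show x ∈ f ⁻¹ᵁ V from hxV) (f ⁻¹ᵁ V).2
  refine ⟨W, W.2.mem_nhds hxW, W.2, ?_⟩
  have hfp : (f.appLE V W hWV).hom.FinitePresentation :=
    HasRingHomProperty.appLE @LocallyOfFinitePresentation f inferInstance ⟨V, hV⟩ ⟨W, hW⟩ hWV
  let : Algebra Γ(Y, V) Γ(X, W) := (f.appLE V W hWV).hom.toAlgebra
  have : Algebra.FinitePresentation Γ(Y, V) Γ(X, W) := hfp
  have := hV.isOpenImmersion_fromSpec
  have := hW.isOpenImmersion_fromSpec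
  let L : Set X := {x : X | FlatMor.fibreDimAt f x ≤ (n : WithBot ℕ∞)}
  have heq : ∀ P : PrimeSpectrum Γ(X, W), hW.fromSpec P ∈ L ↔
      H20.FibreDimBC.fdim Γ(Y, V) Γ(X, W) P.asIdeal ≤ n := fun P => by
    show FlatMor.fibreDimAt f (hW.fromSpec P) ≤ _ ↔ _
    rw [H2.FibreDimPullback.fibreDimAt_eq_fdim f hV.fromSpec hW.fromSpec
      (hV.SpecMap_appLE_fromSpec f hW hWV) P]
    norm_cast
  have hc : IsCompact ((W : Set X) ∩ L) := by
    have hcpt := H20.FibreDimSet.isCompact_setOf_fdim_le (R := Γ(Y, V)) (S := Γ(X, W)) n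
    have himg : (W : Set X) ∩ L = hW.fromSpec '' {P : PrimeSpectrum Γ(X, W) |
        H20.FibreDimBC.fdim Γ(Y, V) Γ(X, W) P.asIdeal ≤ n} := by
      ext z
      constructor
      · rintro ⟨hzW, hzL⟩
        obtain ⟨P, rfl⟩ : z ∈ Set.range hW.fromSpec := hW.range_fromSpec.ge hzW
        exact ⟨P, (heq P).mp hzL, rfl⟩
      · rintro ⟨P, hP, rfl⟩
        exact ⟨hW.range_fromSpec.le ⟨P, rfl⟩, (heq P).mpr hP⟩
    rw [himg]
    exact hcpt.image hW.fromSpec.continuous
  have : CompactSpace (W : Set X) := isCompact_iff_compactSpace.mp hW.isCompact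
  have : QuasiSeparatedSpace (W : Set X) := by
    have : IsAffine (W : Scheme.{u}) := hW
    exact inferInstanceAs (QuasiSeparatedSpace (W : Scheme.{u}))
  have ho : IsOpen (Subtype.val ⁻¹' L : Set (W : Set X)) :=
    (FibreDim.Semicont.isOpen_setOf_fibreDimAt_le f n).preimage continuous_subtype_val
  have hc' : IsCompact (Subtype.val ⁻¹' L : Set (W : Set X)) := by
    rw [IsInducing.subtypeVal.isCompact_iff, Subtype.image_preimage_coe]
    exact hc
  exact (hc'.isRetrocompact ho).isConstructible ho

end Groth.Agent.H69.RelDimLocus
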