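import Groth.Agent.H2.FlatDescend.Model
import Groth.Agent.Lib.Synt92.MorCrit
import Groth.Agent.Lib.Synt92.Congr
import Groth.Agent.H26.CIBaseChange
import Groth.Agent.S9169

/-!
# Syntomic morphisms descend to a stage
-/

set_option autoImplicit false
set_option linter.style.haveILetI false
set_option backward.isDefEq.respectTransparency false
universe u

open CategoryTheory CategoryTheory.Limits AlgebraicGeometry Opposite
open Groth.Agent.Lib.Lim.Basic Groth.Agent.Lib.Lim.Descend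

namespace Groth.Agent.H69.SyntomicStage

open scoped TensorProduct

/-- For a flat morphism locally of finite presentation the complete intersection locus is open. -/
theorem isOpen_ci {X S : Scheme.{u}} (f : X ⟶ S) [Flat f] [LocallyOfFinitePresentation f] :
    IsOpen {x | Pi1.IsCompleteIntersection (CInt.fiberStalk f x)} := by
  rw [isOpen_iff_forall_mem_open]
  intro x hx
  obtain ⟨V, hV, hxV, -⟩ := exists_isAffineOpen_mem_and_subset (X := S) (x := f x) (U := ⊤) trivial
  obtain ⟨⟨U, hU⟩, hxU, e⟩ := Lib.Synt92.MorCrit.exists_chart f x hxV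
  letI := (f.appLE V U e).hom.toAlgebra
  haveI : Algebra.FinitePresentation Γ(S, V) Γ(X, U) :=
    HasRingHomProperty.appLE @LocallyOfFinitePresentation f inferInstance ⟨V, hV⟩ ⟨U, hU⟩ e
  haveI : Module.Flat Γ(S, V) Γ(X, U) :=
    HasRingHomProperty.appLE @Flat f inferInstance ⟨V, hV⟩ ⟨U, hU⟩ e
  obtain ⟨p, Q, hQ⟩ := Lib.Synt92.MorStalk.exists_fiber_point f hU e hxU
  have hCI := (Lib.Synt92.MorStalk.isCompleteIntersection_fiberStalk_iff f hV hU e hxU p Q hQ).1 hx
  let q : Ideal Γ(X, U) := (hU.primeIdealOf ⟨x, hxU⟩).asIdeal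
  haveI : q.IsPrime := (hU.primeIdealOf ⟨x, hxU⟩).isPrime
  haveI : q.LiesOver p.asIdeal := ⟨by
    have h1 : q.under Γ(S, V) = (Q.asIdeal.comap
        (algebraMap p.asIdeal.ResidueField (p.asIdeal.Fiber Γ(X, U)))).comap
          (algebraMap Γ(S, V) p.asIdeal.ResidueField) := by
      show (hU.primeIdealOf ⟨x, hxU⟩).asIdeal.comap (algebraMap Γ(S, V) Γ(X, U)) = _
      rw [← hQ]
      ext r
      have e1 : Algebra.TensorProduct.includeRight (R := Γ(S, V)) (A := p.asIdeal.ResidueField)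
          (B := Γ(X, U)) (algebraMap Γ(S, V) Γ(X, U) r) =
          algebraMap p.asIdeal.ResidueField (p.asIdeal.Fiber Γ(X, U))
            (algebraMap Γ(S, V) p.asIdeal.ResidueField r) :=
        (Algebra.TensorProduct.includeRight.commutes r).trans
          (IsScalarTower.algebraMap_apply Γ(S, V) p.asIdeal.ResidueField (p.asIdeal.Fiber Γ(X, U)) r)
      show _ ∈ Q.asIdeal ↔ _ ∈ Q.asIdeal
      rw [← e1]
    rw [h1, (Ideal.eq_bot_or_top _).resolve_right (Ideal.IsPrime.comap _).ne_top]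
    exact (Ideal.ker_algebraMap_residueField p.asIdeal).symm⟩
  obtain ⟨h1, h2⟩ := Groth.Agent.S9169.result Γ(S, V) Γ(X, U) p.asIdeal q Q.asIdeal hQ
  haveI : Module.Flat Γ(X, U) (Localization.AtPrime q) := IsLocalization.flat _ q.primeCompl
  haveI : Module.Flat Γ(S, V) (Localization.AtPrime q) := Module.Flat.trans _ Γ(X, U) _
  haveI : Algebra.FinitePresentation Γ(X, U) (Localization.Away (1 : Γ(X, U))) :=
    IsLocalization.Away.finitePresentation 1
  obtain ⟨g, hg, hs⟩ := h2.2 ⟨1, q.primeCompl.one_mem, Algebra.FinitePresentation.trans _ Γ(X, U) _,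
    inferInstance, hCI⟩
  refine ⟨X.basicOpen g, fun y hy => ?_, (X.basicOpen g).isOpen, ?_⟩
  · have e' : X.basicOpen g ≤ f ⁻¹ᵁ V := (X.basicOpen_le g).trans e
    have hU' : IsAffineOpen (X.basicOpen g) := hU.basicOpen g
    haveI := hU.isLocalization_basicOpen g
    letI := (f.appLE V (X.basicOpen g) e').hom.toAlgebra
    haveI : IsScalarTower Γ(S, V) Γ(X, U) Γ(X, X.basicOpen g) := IsScalarTower.of_algebraMap_eq' (by
      show (f.appLE V (X.basicOpen g) e').hom = _
      rw [show (algebraMap Γ(X, U) Γ(X, X.basicOpen g)) =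
        (X.presheaf.map (homOfLE (X.basicOpen_le g)).op).hom from rfl]
      exact congrArg CommRingCat.Hom.hom (Scheme.Hom.appLE_map f e (homOfLE (X.basicOpen_le g)).op).symm)
    have hs' : Synt.IsSyntomic Γ(S, V) Γ(X, X.basicOpen g) :=
      Lib.Synt92.Congr.isSyntomic_congr
        ((IsLocalization.algEquiv (Submonoid.powers g) (Localization.Away g)
          Γ(X, X.basicOpen g)).restrictScalars Γ(S, V)) hs
    obtain ⟨p', Q', hQ'⟩ := Lib.Synt92.MorStalk.exists_fiber_point f hU' e' hy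
    exact (Lib.Synt92.MorStalk.isCompleteIntersection_fiberStalk_iff f hV hU' e' hy p' Q' hQ').2
      ((Lib.Synt92.MorAlg.isSyntomic_iff.1 hs').2.2 p' Q')
  · show x ∈ X.basicOpen g
    by_contra hxg
    refine hg ?_
    have h := hU.fromSpec_primeIdealOf ⟨x, hxU⟩
    by_contra hgq
    refine hxg ?_
    show (⟨x, hxU⟩ : U).1 ∈ X.basicOpen g
    rw [← h]
    show hU.primeIdealOf ⟨x, hxU⟩ ∈ hU.fromSpec ⁻¹ᵁ X.basicOpen g
    rw [hU.fromSpec_preimage_basicOpen]
    exact hgq

/-- Complete intersection morphisms. -/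
def ci : MorphismProperty Scheme.{u} := fun _ _ f => CInt.IsCIMorphism f

theorem ci_of_isPullback' {X Y X' Y' : Scheme.{u}} {f : X ⟶ Y} {f' : X' ⟶ Y'} {a : X' ⟶ X}
    {b : Y' ⟶ Y} (h : IsPullback a f' f b) (hf : ci f) : ci f' := by
  obtain ⟨h1, h2, h3⟩ := hf
  exact ⟨MorphismProperty.of_isPullback (P := @Flat) h h1,
    MorphismProperty.of_isPullback (P := @LocallyOfFinitePresentation) h h2,
    fun x => (H26.CIBaseChange.ci_of_isPullback h x).2 (h3 _)⟩

instance : ci.{u}.IsStableUnderBaseChange := ⟨fun sq h => ci_of_isPullback' sq h⟩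

theorem ci_descends : Descends.{u} ci @LocallyOfFinitePresentation := by
  intro I _ _ D c hc hD i₀ hcD hqD X₀ f₀ hcX hqX hQ X f qX hX hP
  haveI : ∀ {i j : I} (g : i ⟶ j), IsAffineHom (D.map g) := fun g => hD _ _ g
  haveI : LocallyOfFinitePresentation f₀ := hQ
  obtain ⟨hfl, hfp, hci⟩ := hP
  obtain ⟨i, φ, hi⟩ := H2.FlatDescend.flatFp_descends D c hc hD i₀ hcD hqD f₀ hcX hqX hQ f qX hX
    ⟨hfl, hfp⟩
  let DX := bcDiagram D f₀
  let cX : Cone DX := bcCone hX.w
  have hcX' : IsLimit cX := isLimitBcCone hc hX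
  haveI : ∀ {a b : Over i₀} (g : a ⟶ b), IsAffineHom (DX.map g) := fun g =>
    bcDiagram_map_prop D f₀ @IsAffineHom (fun g => inferInstance) g
  haveI : ∀ a, CompactSpace (DX.obj a) := compactSpace_bcDiagram D f₀
  haveI : ∀ a, QuasiSeparatedSpace (DX.obj a) := quasiSeparatedSpace_bcDiagram D f₀
  let a : Over i₀ := Over.mk φ
  let fa : DX.obj a ⟶ D.obj i := pullback.snd f₀ (D.map φ)
  haveI : Flat fa := hi.1
  haveI : LocallyOfFinitePresentation fa := hi.2
  let G : (DX.obj a).Opens := ⟨_, isOpen_ci fa⟩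
  let π : X ⟶ DX.obj a := cX.π.app a
  have hsq : IsPullback π f fa (c.π.app i) := isPullback_bcCone_π hX a
  have htop : π ⁻¹ᵁ G = ⊤ := top_le_iff.1 fun x _ => (H26.CIBaseChange.ci_of_isPullback hsq x).1 (hci x)
  obtain ⟨l, g, hl⟩ := exists_map_eq_top DX cX hcX' G htop
  have hsq' : IsPullback (DX.map g) (pullback.snd f₀ (D.map l.hom)) fa (D.map g.left) :=
    isPullback_bcDiagram_map D f₀ g
  refine ⟨l.left, l.hom, MorphismProperty.of_isPullback (P := @Flat) hsq' inferInstance,
    MorphismProperty.of_isPullback (P := @LocallyOfFinitePresentation) hsq' inferInstance, fun z => ?_⟩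
  exact (H26.CIBaseChange.ci_of_isPullback hsq' z).2 (show z ∈ DX.map g ⁻¹ᵁ G from hl ▸ trivial)

end Groth.Agent.H69.SyntomicStage
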