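import Groth.Agent.Lib.Ample.GenLocus
import Groth.Agent.Lib.Lim.IdealDescend
import Mathlib.CategoryTheory.Filtered.Final

/-!
# Global sections of invertible modules on a limit come from a stage, with the locus of generation
-/

set_option autoImplicit false
set_option backward.isDefEq.respectTransparency false

universe u

open CategoryTheory CategoryTheory.Limits AlgebraicGeometry TopologicalSpace Opposite
open Groth.Agent.Lib Groth.Agent.Lib.Ample.GenLocus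
open Groth.Agent.Lib.TensorMod Groth.Agent.Lib.TensorMod.Basic Groth.Agent.Lib.TensorMod.Free
open Groth.Agent.Lib.TensorMod.Dual Groth.Agent.Lib.TensorMod.Gen Groth.Agent.Lib.TensorMod.HomGlue
open Groth.Agent.Lib.TensorMod.Pullback

namespace Groth.Agent.H69.SectionStage

variable {I : Type u} [SmallCategory I] [IsCofiltered I] (D : I ⥤ Scheme.{u}) (c : Cone D)
  [∀ {i j : I} (f : i ⟶ j), IsAffineHom (D.map f)]

theorem aux (hc : IsLimit c) (i₀ : I) [CompactSpace (D.obj i₀)]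
    [QuasiSeparatedSpace (D.obj i₀)] (M : (D.obj i₀).Modules) (hM : PicF.IsInvertible M)
    (π : ∀ i, c.pt ⟶ D.obj i) (hπe : π = fun i => c.π.app i)
    (hw : ∀ {i j : I} (g : i ⟶ j), π i ≫ D.map g = π j)
    (s : Coh.structureModule c.pt ⟶ (pb (π i₀)).obj M) :
    ∃ (j : I) (φ : j ⟶ i₀) (sj : Coh.structureModule (D.obj j) ⟶ (pb (D.map φ)).obj M),
      π j ⁻¹ᵁ CohB1.genLocus _ sj = CohB1.genLocus _ s := by
  classical
  have h : ∀ x : D.obj i₀, ∃ V : (D.obj i₀).Opens, x ∈ V ∧ IsAffineOpen V ∧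
      ∃ e : Γ(M, V), IsGen M V e := fun x => by
    obtain ⟨U, e, hx, he⟩ := isInvertible_iff.1 hM x
    obtain ⟨V, hV, hxV, hle⟩ := exists_isAffineOpen_mem_and_subset (U := U) hx
    exact ⟨V, hxV, hV, _, he.res hle⟩
  choose U hxU hU e he using h
  obtain ⟨A, hA⟩ := isCompact_univ.elim_finite_subcover (fun x => (U x : Set (D.obj i₀)))
    (fun x => (U x).2) (fun x _ => Set.mem_iUnion.2 ⟨x, hxU x⟩)
  choose a ha using fun x => exists_coord (isGen_unitSec (π i₀) (he x)) (sv s ((π i₀) ⁻¹ᵁ U x))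
  have hex : ∀ x, ∃ (j : Over i₀) (t : Γ(D.obj j.left, D.map j.hom ⁻¹ᵁ U x)),
      (π j.left).appLE _ _ (show π i₀ ⁻¹ᵁ U x ≤ π j.left ⁻¹ᵁ (D.map j.hom ⁻¹ᵁ U x) by
        rw [← Scheme.Hom.comp_preimage, hw]) t = a x := by
    subst hπe
    exact fun x => Lim.IdealDescend.exists_section_eq D c hc i₀ (U x) (hU x) (a x)
  choose js t ht using hex
  obtain ⟨k, hk⟩ := IsCofiltered.inf_objs_exists (A.image js)
  have fk : ∀ x ∈ A, Nonempty (k ⟶ js x) := fun x hx => hk (Finset.mem_image_of_mem _ hx)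
  -- the coordinates at stage `k`
  have htk : ∀ x ∈ A, ∃ tk : Γ(D.obj k.left, D.map k.hom ⁻¹ᵁ U x),
      (π k.left).appLE _ _ (show π i₀ ⁻¹ᵁ U x ≤ π k.left ⁻¹ᵁ (D.map k.hom ⁻¹ᵁ U x) by rw [← Scheme.Hom.comp_preimage, hw]) tk = a x := by
    intro x hx
    obtain ⟨φ⟩ := fk x hx
    have hle : D.map k.hom ⁻¹ᵁ U x ≤ D.map φ.left ⁻¹ᵁ (D.map (js x).hom ⁻¹ᵁ U x) := by
      rw [← Scheme.Hom.comp_preimage, ← Functor.map_comp, Over.w φ]
    refine ⟨(D.map φ.left).appLE _ _ hle (t x), ?_⟩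
    rw [← CommRingCat.comp_apply, Scheme.Hom.appLE_comp_appLE]
    refine Eq.trans ?_ (ht x)
    congr! 3
    exact hw φ.left
  choose! tk htk using htk
  -- compatibility on overlaps holds at some later stage
  have hcomp : ∀ p : A × A, ∃ (l : I) (ψ : l ⟶ k.left),
      ∀ cc : Γ(D.obj i₀, U p.1 ⊓ U p.2),
        rs M (inf_le_left : U p.1 ⊓ U p.2 ≤ U p.1) (e p.1) =
          cc • rs M (inf_le_right : U p.1 ⊓ U p.2 ≤ U p.2) (e p.2) →
        (D.map ψ).app (D.map k.hom ⁻¹ᵁ (U p.1 ⊓ U p.2))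
            (rf ((D.map k.hom).preimage_mono inf_le_left) (tk p.1) *
              (D.map k.hom).app _ cc) =
          (D.map ψ).app (D.map k.hom ⁻¹ᵁ (U p.1 ⊓ U p.2))
            (rf ((D.map k.hom).preimage_mono inf_le_right) (tk p.2)) := by
    intro p
    obtain ⟨cc, hcc⟩ := (he p.2 _ (inf_le_right : U p.1 ⊓ U p.2 ≤ U p.2)).2
      (rs M (inf_le_left : U p.1 ⊓ U p.2 ≤ U p.1) (e p.1))
    simp only at hcc
    have hqc : IsCompact (D.map k.hom ⁻¹ᵁ (U p.1 ⊓ U p.2) : Set (D.obj k.left)) := by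
      refine QuasiCompact.isCompact_preimage (f := D.map k.hom) _ (U p.1 ⊓ U p.2).2 ?_
      exact QuasiSeparatedSpace.inter_isCompact _ _ (U p.1).2 (hU p.1).isCompact (U p.2).2
        (hU p.2).isCompact
    -- equality on the limit
    have hW₁ : (π i₀) ⁻¹ᵁ (U p.1 ⊓ U p.2) ≤ (π i₀) ⁻¹ᵁ U p.1 := (π i₀).preimage_mono inf_le_left
    have hW₂ : (π i₀) ⁻¹ᵁ (U p.1 ⊓ U p.2) ≤ (π i₀) ⁻¹ᵁ U p.2 := (π i₀).preimage_mono inf_le_right
    have hS : rf hW₁ (a p.1) * (π i₀).app _ cc = rf hW₂ (a p.2) := by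
      refine (isGen_unitSec (π i₀) ((he p.2).res (inf_le_right : U p.1 ⊓ U p.2 ≤ U p.2)) _ le_rfl).1 ?_
      simp only [rs_self]
      rw [mul_smul, ← unitSec_smul, hcc, ← unitSec_rs (π i₀) (inf_le_left : U p.1 ⊓ U p.2 ≤ U p.1),
        ← unitSec_rs (π i₀) (inf_le_right : U p.1 ⊓ U p.2 ≤ U p.2), ← rs_smul, ← rs_smul, ← ha, ← ha,
        rs_sv, rs_sv]
    have heqk : (π k.left).app (D.map k.hom ⁻¹ᵁ (U p.1 ⊓ U p.2))
        (rf ((D.map k.hom).preimage_mono inf_le_left) (tk p.1) * (D.map k.hom).app _ cc) =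
        (π k.left).app (D.map k.hom ⁻¹ᵁ (U p.1 ⊓ U p.2))
          (rf ((D.map k.hom).preimage_mono inf_le_right) (tk p.2)) := by
      have hle : (π i₀) ⁻¹ᵁ (U p.1 ⊓ U p.2) = π k.left ⁻¹ᵁ (D.map k.hom ⁻¹ᵁ (U p.1 ⊓ U p.2)) := by
        rw [← Scheme.Hom.comp_preimage, hw]
      refine (ConcreteCategory.bijective_of_isIso (c.pt.presheaf.map (eqToHom hle).op)).1 ?_
      have key : ∀ (V : (D.obj i₀).Opens) (hV : U p.1 ⊓ U p.2 ≤ V)
          (w : Γ(D.obj k.left, D.map k.hom ⁻¹ᵁ V)) (b : Γ(c.pt, (π i₀) ⁻¹ᵁ V)),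
          (π k.left).appLE _ _ (show π i₀ ⁻¹ᵁ V ≤ π k.left ⁻¹ᵁ (D.map k.hom ⁻¹ᵁ V) by rw [← Scheme.Hom.comp_preimage, hw]) w = b →
          c.pt.presheaf.map (eqToHom hle).op
            ((π k.left).app _ (rf ((D.map k.hom).preimage_mono hV) w)) =
            rf ((π i₀).preimage_mono hV) b := by
        intro V hV w b hb
        rw [← hb]
        simp only [rf]
        simp only [← CommRingCat.comp_apply, Scheme.Hom.app_eq_appLE, Scheme.Hom.map_appLE,
          Scheme.Hom.appLE_map]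
      have key2 : c.pt.presheaf.map (eqToHom hle).op
          ((π k.left).app _ ((D.map k.hom).app _ cc)) = (π i₀).app _ cc := by
        simp only [← CommRingCat.comp_apply, Scheme.Hom.app_eq_appLE, Scheme.Hom.appLE_map,
          Scheme.Hom.appLE_comp_appLE]
        congr! 3
        exact hw k.hom
      rw [map_mul, map_mul, key2, key _ inf_le_left _ _ (htk _ p.1.2),
        key _ inf_le_right _ _ (htk _ p.2.2)]
      exact hS
    obtain ⟨l, ψ, hl⟩ := exists_app_map_eq_map_of_isLimit D c hc hqc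
      (rf ((D.map k.hom).preimage_mono inf_le_left) (tk p.1) * (D.map k.hom).app _ cc)
      (rf ((D.map k.hom).preimage_mono inf_le_right) (tk p.2)) (by subst hπe; exact heqk)
    refine ⟨l, ψ, fun cc' hcc' => ?_⟩
    have : cc' = cc := (he p.2 _ inf_le_right).1 (hcc'.symm.trans hcc.symm)
    rw [this]
    exact hl
  choose l ψ hψ using hcomp
  obtain ⟨m, hm⟩ := IsCofiltered.inf_objs_exists
    (Finset.univ.image fun p => (Over.mk (ψ p) : Over k.left))
  let φ : m.left ⟶ i₀ := m.hom ≫ k.hom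
  let f := D.map φ
  have hpre : ∀ V : (D.obj i₀).Opens, f ⁻¹ᵁ V = D.map m.hom ⁻¹ᵁ (D.map k.hom ⁻¹ᵁ V) := fun V => by
    simp [f, φ, Functor.map_comp]
  let T : ∀ x : A, Γ(D.obj m.left, f ⁻¹ᵁ U x) := fun x =>
    (D.map m.hom).appLE _ _ (hpre (U x)).le (tk x)
  have hcov : (⨆ x : A, f ⁻¹ᵁ U x) = ⊤ := by
    refine top_le_iff.mp fun z _ => ?_
    obtain ⟨x, hx, hxz⟩ := Set.mem_iUnion₂.1 (hA (Set.mem_univ (f z)))
    exact Opens.mem_iSup.2 ⟨⟨x, hx⟩, hxz⟩
  have hcomp' : ∀ x y : A,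
      rs _ (f.preimage_mono (inf_le_left : U x ⊓ U y ≤ U x)) (T x • unitSec f M (e x)) =
        rs _ (f.preimage_mono (inf_le_right : U x ⊓ U y ≤ U y)) (T y • unitSec f M (e y)) := by
    intro x y
    obtain ⟨cc, hcc⟩ := (he y _ (inf_le_right : U x ⊓ U y ≤ U y)).2
      (rs M (inf_le_left : U x ⊓ U y ≤ U x) (e x))
    simp only at hcc
    rw [rs_smul, rs_smul, unitSec_rs f (inf_le_left : U x ⊓ U y ≤ U x),
      unitSec_rs f (inf_le_right : U x ⊓ U y ≤ U y), ← hcc, unitSec_smul, smul_smul]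
    congr 1
    obtain ⟨w₁⟩ := hm (Finset.mem_image_of_mem (fun p => (Over.mk (ψ p) : Over k.left))
      (Finset.mem_univ (x, y)))
    let w : m.left ⟶ l (x, y) := w₁.left
    have hwm : w ≫ ψ (x, y) = m.hom := Over.w w₁
    have h1 := congrArg ((D.map w).appLE (D.map (ψ (x, y)) ⁻¹ᵁ (D.map k.hom ⁻¹ᵁ (U x ⊓ U y)))
      (f ⁻¹ᵁ (U x ⊓ U y)) (by
        rw [hpre, ← hwm, Functor.map_comp, Scheme.Hom.comp_preimage])) (hψ (x, y) cc hcc.symm)
    simp only [map_mul, rf, Scheme.Hom.app_eq_appLE, ← CommRingCat.comp_apply,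
      Scheme.Hom.appLE_comp_appLE, Scheme.Hom.map_appLE] at h1
    simp only [T, rf, Scheme.Hom.app_eq_appLE, ← CommRingCat.comp_apply, Scheme.Hom.appLE_map]
    simp only [← Functor.map_comp, ← Category.assoc, hwm] at h1
    exact h1
  obtain ⟨sj, hsj⟩ := exists_hom_of_gen (L := Coh.structureModule (D.obj m.left))
    (M := (pb f).obj M) hcov (fun x : A => one _ (f ⁻¹ᵁ U x)) (fun x => isGen_one _)
    (fun x => T x • unitSec f M (e x)) (by
      intro x y W hx hy r hr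
      have hr1 : r = 1 := by
        refine ((isGen_one (f ⁻¹ᵁ U y)) W hy).1 (hr.symm.trans ?_)
        show _ = (1 : Γ(D.obj m.left, W)) • _
        rw [one_smul]
        exact (map_one ((D.obj m.left).presheaf.map (homOfLE hx).op).hom).trans
          (map_one ((D.obj m.left).presheaf.map (homOfLE hy).op).hom).symm
      rw [hr1, one_smul, ← rs_rs _ (f.preimage_mono (inf_le_left : U x.1 ⊓ U y.1 ≤ U x.1))
        (fun z hz => ⟨hx hz, hy hz⟩), hcomp' x y, rs_rs])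
  refine ⟨m.left, φ, sj, ?_⟩
  apply Opens.ext
  apply Set.ext
  intro z
  obtain ⟨x, hx, hxz⟩ := Set.mem_iUnion₂.1 (hA (Set.mem_univ ((π i₀) z)))
  have h1 := genLocus_inf_eq (isGen_unitSec f (he x)) sj (a := T ⟨x, hx⟩) (hsj ⟨x, hx⟩)
  have h2 := genLocus_inf_eq (isGen_unitSec (π i₀) (he x)) s (ha x)
  have hπ : (π i₀) z = f (π m.left z) := by
    rw [← Scheme.Hom.comp_apply, hw φ]
  have hzx : π m.left z ∈ f ⁻¹ᵁ U x := show f _ ∈ U x from hπ ▸ hxz
  have h3 : c.pt.basicOpen (a x) = (π i₀) ⁻¹ᵁ U x ⊓ π m.left ⁻¹ᵁ (D.obj m.left).basicOpen (T ⟨x, hx⟩) := by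
    have hle : (π i₀) ⁻¹ᵁ U x ≤ π m.left ⁻¹ᵁ (f ⁻¹ᵁ U x) := by
      show π i₀ ⁻¹ᵁ _ ≤ π m.left ⁻¹ᵁ (D.map φ ⁻¹ᵁ _)
      rw [← Scheme.Hom.comp_preimage, hw φ]
    have hT : (π m.left).appLE (f ⁻¹ᵁ U x) ((π i₀) ⁻¹ᵁ U x) hle (T ⟨x, hx⟩) = a x := by
      simp only [T, ← CommRingCat.comp_apply, Scheme.Hom.appLE_comp_appLE]
      refine Eq.trans ?_ (htk x hx)
      congr! 3
      exact hw m.hom
    rw [← hT, Scheme.basicOpen_appLE]
  constructor
  · intro hz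
    have : z ∈ c.pt.basicOpen (a x) := by
      rw [h3]
      exact ⟨hxz, (SetLike.ext_iff.1 h1 _).1 ⟨hz, hzx⟩⟩
    exact ((SetLike.ext_iff.1 h2 z).2 this).1
  · intro hz
    have h4 := (SetLike.ext_iff.1 h2 z).1 (show z ∈ CohB1.genLocus _ s ⊓ (π i₀) ⁻¹ᵁ U x from ⟨hz, hxz⟩)
    rw [h3] at h4
    exact ((SetLike.ext_iff.1 h1 _).2 h4.2).1


/-- A section of the pull-back of an invertible module to the limit has, at some stage, a companion
with the same locus of generation. -/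
theorem exists_section_stage (hc : IsLimit c) (i₀ : I) [CompactSpace (D.obj i₀)]
    [QuasiSeparatedSpace (D.obj i₀)] (M : (D.obj i₀).Modules) (hM : PicF.IsInvertible M)
    (s : Coh.structureModule c.pt ⟶ (pb (c.π.app i₀)).obj M) :
    ∃ (j : I) (φ : j ⟶ i₀) (sj : Coh.structureModule (D.obj j) ⟶ (pb (D.map φ)).obj M),
      c.π.app j ⁻¹ᵁ CohB1.genLocus _ sj = CohB1.genLocus _ s := by
  exact aux D c hc i₀ M hM (fun i => c.π.app i) rfl (fun g => c.w g) s

end Groth.Agent.H69.SectionStage
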