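import Groth.Agent.Lib.Lim.Existence
import Groth.Agent.Lib.Lim.LocalLimit
import Groth.Agent.H75.RedSub
import Mathlib.AlgebraicGeometry.Morphisms.UniversallyInjective
import Mathlib.RingTheory.Ideal.MinimalPrime.Localization
import Mathlib.RingTheory.LocalProperties.Reduced

/-!
# A point with a property of schemes over a base which is stable under limits and decompositions
-/

set_option autoImplicit false
set_option linter.unusedVariables false
set_option linter.style.haveILetI false
set_option backward.isDefEq.respectTransparency false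
universe u
open CategoryTheory CategoryTheory.Limits AlgebraicGeometry TopologicalSpace

namespace Groth.Agent.H69.MinimalClosed

variable {T : Scheme.{u}}

/-- Reduced closed subscheme. -/
noncomputable abbrev red (W : Closeds T) : Scheme.{u} :=
  (Scheme.IdealSheafData.vanishingIdeal W).subscheme

/-- Its inclusion. -/
noncomputable abbrev redι (W : Closeds T) : red W ⟶ T :=
  (Scheme.IdealSheafData.vanishingIdeal W).subschemeι

theorem range_redι (W : Closeds T) : Set.range (redι W) = W := by
  rw [Scheme.IdealSheafData.range_subschemeι, Scheme.IdealSheafData.coe_support_vanishingIdeal]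

theorem compactSpace_red [CompactSpace T] (W : Closeds T) : CompactSpace (red W) :=
  QuasiCompact.compactSpace_of_compactSpace (redι W)

theorem qsSpace_red [QuasiSeparatedSpace T] (W : Closeds T) : QuasiSeparatedSpace (red W) :=
  quasiSeparatedSpace_of_quasiSeparated (redι W)

/-- A cone over `T` on a nonempty connected diagram is a limit if it is one in schemes. -/
noncomputable def overIsLimit {I : Type u} [SmallCategory I] [IsConnected I] {D : I ⥤ Over T}
    (c : Cone D) (i₀ : I) (h : IsLimit ((Over.forget T).mapCone c)) : IsLimit c where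
  lift s := Over.homMk (h.lift ((Over.forget T).mapCone s))
    ((congrArg (h.lift ((Over.forget T).mapCone s) ≫ ·) (Over.w (c.π.app i₀)).symm).trans
      ((Category.assoc _ _ _).symm.trans
        ((congrArg (· ≫ (D.obj i₀).hom) (h.fac ((Over.forget T).mapCone s) i₀)).trans
          (Over.w (s.π.app i₀)))))
  fac s i := Over.OverMorphism.ext (h.fac ((Over.forget T).mapCone s) i)
  uniq s m hm := Over.OverMorphism.ext (h.uniq ((Over.forget T).mapCone s) m.left
    fun i => congrArg CommaMorphism.left (hm i))

variable [CompactSpace T] [QuasiSeparatedSpace T] (P : ∀ ⦃T' : Scheme.{u}⦄, (T' ⟶ T) → Prop)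

theorem exists_field [Nonempty T]
    (h1 : ∀ ⦃T' T'' : Scheme.{u}⦄ (a : T' ⟶ T) (t : T'' ⟶ T') [IsClosedImmersion t] [Surjective t]
      [CompactSpace T'] [QuasiSeparatedSpace T'] [CompactSpace T''] [QuasiSeparatedSpace T''], P (t ≫ a) ↔ P a)
    (h2 : ∀ ⦃I : Type u⦄ [SmallCategory I] [IsCofiltered I] (D : I ⥤ Over T) (c : Cone D) (_ : IsLimit c),
      (∀ (i j : I) (m : i ⟶ j), IsAffineHom (D.map m).left) →
      (∀ i, CompactSpace (D.obj i).left ∧ QuasiSeparatedSpace (D.obj i).left) →
      (∀ i, P (D.obj i).hom) → P c.pt.hom)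
    (h3 : ∀ ⦃T' Z V : Scheme.{u}⦄ (a : T' ⟶ T) [CompactSpace T'] [QuasiSeparatedSpace T'] (i : Z ⟶ T') [IsClosedImmersion i]
      (j : V ⟶ T') [IsOpenImmersion j] [CompactSpace V], Set.range j = (Set.range i)ᶜ → P a → P (j ≫ a) ∨ P (i ≫ a))
    (hT : P (𝟙 T)) :
    ∃ (K : Type u) (_ : Field K) (t : Spec (CommRingCat.of K) ⟶ T), P t := by
  classical
  -- any closed immersion may be replaced by the reduced one
  have toRed : ∀ {Z : Scheme.{u}} (i : Z ⟶ T) [IsClosedImmersion i] (W : Closeds T),
      Set.range i = W → P i → P (redι W) := by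
    intro Z i _ W hW hP
    have hle : i.ker ≤ (redι W).ker := by
      rw [Scheme.IdealSheafData.ker_subschemeι, ← Scheme.IdealSheafData.le_support_iff_le_vanishingIdeal]
      intro x hx
      exact i.range_subset_ker_support (hW.ge hx)
    let l := IsClosedImmersion.lift i (redι W) hle
    have hl : l ≫ i = redι W := IsClosedImmersion.lift_fac _ _ _
    haveI : IsClosedImmersion (l ≫ i) := hl ▸ inferInstance
    haveI : IsClosedImmersion l := IsClosedImmersion.of_comp_isClosedImmersion l i
    haveI : Surjective l := ⟨fun z => by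
      obtain ⟨w, hw⟩ := (range_redι W).ge (hW.le ⟨z, rfl⟩)
      refine ⟨w, i.isClosedEmbedding.injective ?_⟩
      rw [← Scheme.Hom.comp_apply, hl, hw]⟩
    haveI := compactSpace_red W
    haveI := qsSpace_red W
    haveI : CompactSpace Z := QuasiCompact.compactSpace_of_compactSpace i
    haveI : QuasiSeparatedSpace Z := quasiSeparatedSpace_of_quasiSeparated i
    exact hl ▸ (h1 i l).2 hP
  let S : Set (Closeds T) := {W | (W : Set T).Nonempty ∧ P (redι W)}
  have hS : (⊤ : Closeds T) ∈ S :=
    ⟨Set.univ_nonempty, toRed (𝟙 T) ⊤ (by rw [Scheme.Hom.id_base]; exact Set.range_id) hT⟩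
  obtain ⟨W', -, hW⟩ := zorn_le_nonempty₀ (α := (Closeds T)ᵒᵈ) S (fun c hcS hc W₁ hW₁ => by
    let I : Type u := {W : Closeds T // OrderDual.toDual W ∈ c}
    haveI : Nonempty I := ⟨⟨W₁, hW₁⟩⟩
    haveI : IsCodirectedOrder I := ⟨fun a b => by
      rcases hc.total a.2 b.2 with h | h
      · exact ⟨b, h, le_refl _⟩
      · exact ⟨a, le_refl _, h⟩⟩
    let D : I ⥤ Over T :=
      { obj := fun a => Over.mk (redι a.1)
        map := fun {a b} h => Over.homMk
          (Scheme.IdealSheafData.inclusion (Scheme.IdealSheafData.vanishingIdeal_antimono (leOfHom h)))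
          (Scheme.IdealSheafData.inclusion_subschemeι _)
        map_id := fun a => Over.OverMorphism.ext ((cancel_mono (redι a.1)).1 (by simp))
        map_comp := fun {a b d} f g => Over.OverMorphism.ext ((cancel_mono (redι d.1)).1 (by simp)) }
    have haff : ∀ (a b : I) (m : a ⟶ b), IsAffineHom (D.map m).left := fun a b m => by
      haveI : IsAffineHom ((D.map m).left ≫ redι b.1) := by
        rw [show (D.map m).left ≫ redι b.1 = redι a.1 from Over.w (D.map m)]; infer_instance
      exact MorphismProperty.of_postcomp (W := @IsAffineHom) (W' := @IsSeparated) _ (redι b.1)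
        inferInstance ‹_›
    haveI : ∀ (a b : I) (m : a ⟶ b), IsAffineHom ((D ⋙ Over.forget T).map m) := haff
    haveI : IsCofiltered I := inferInstance
    haveI : IsConnected I := IsCofiltered.isConnected I
    obtain ⟨L, hL, -⟩ := Lib.Lim.Existence.exists_isLimit (D := D ⋙ Over.forget T)
    let i₀ : I := ⟨W₁, hW₁⟩
    let s : L.pt ⟶ T := L.π.app i₀ ≫ redι W₁
    have hs : ∀ a : I, L.π.app a ≫ redι a.1 = s := by
      intro a
      obtain ⟨b, hba, hb0⟩ := exists_le_le a i₀
      have e1 := L.w (homOfLE hba)
      have e2 := L.w (homOfLE hb0)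
      show _ = L.π.app i₀ ≫ redι W₁
      rw [← e1, ← e2, Category.assoc, Category.assoc]
      exact (congrArg (L.π.app b ≫ ·) (Over.w (D.map (homOfLE hba)))).trans
        (congrArg (L.π.app b ≫ ·) (Over.w (D.map (homOfLE hb0))).symm)
    haveI hmono : Mono s := ⟨fun g h e => hL.hom_ext fun a => by
      haveI : Mono (redι a.1) := inferInstance
      refine (cancel_mono (redι a.1)).1 ?_
      erw [Category.assoc, Category.assoc, hs]
      exact e⟩
    let C : Cone D :=
      { pt := Over.mk s
        π := { app := fun a => Over.homMk (L.π.app a) (hs a)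
               naturality := fun a b m => Over.OverMorphism.ext (L.π.naturality m) } }
    let Wi : Closeds T := ⟨⋂ a : I, (a.1 : Set T), isClosed_iInter fun a => a.1.2⟩
    have hne : (Wi : Set T).Nonempty :=
      IsCompact.nonempty_iInter_of_directed_nonempty_isCompact_isClosed _
        (fun a b => by
          obtain ⟨d, h1, h2⟩ := exists_le_le a b
          exact ⟨d, h1, h2⟩)
        (fun a => (hcS a.2).1) (fun a => a.1.2.isCompact) (fun a => a.1.2)
    have hle : ∀ a : I, Wi ≤ a.1 := fun a => Set.iInter_subset _ a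
    let l : Cone (D ⋙ Over.forget T) :=
      { pt := red Wi
        π := { app := fun a => Scheme.IdealSheafData.inclusion
                (Scheme.IdealSheafData.vanishingIdeal_antimono (hle a))
               naturality := fun a b m => (cancel_mono (redι b.1)).1 (by simp [D]) } }
    let w : red Wi ⟶ L.pt := hL.lift l
    have hw : w ≫ s = redι Wi := by
      rw [← Category.assoc, hL.fac]
      exact Scheme.IdealSheafData.inclusion_subschemeι _
    haveI : IsClosedImmersion (w ≫ s) := hw ▸ inferInstance
    haveI : IsClosedImmersion w := IsClosedImmersion.of_comp w s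
    haveI : Surjective w := ⟨fun y => by
      have hy : s y ∈ (Wi : Set T) := Set.mem_iInter.2 fun a => by
        rw [← hs a, Scheme.Hom.comp_apply]
        exact (range_redι a.1).le ⟨_, rfl⟩
      obtain ⟨z, hz⟩ := (range_redι Wi).ge hy
      refine ⟨z, s.injective ?_⟩
      rw [← Scheme.Hom.comp_apply, hw, hz]⟩
    haveI := compactSpace_red Wi
    haveI := qsSpace_red Wi
    haveI : CompactSpace L.pt := w.surjective.compactSpace w.continuous
    haveI : QuasiSeparatedSpace L.pt := quasiSeparatedSpace_of_quasiSeparated s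
    have hPs : P s := h2 D C (overIsLimit C i₀ (IsLimit.ofIsoLimit hL (Cone.ext (Iso.refl _) fun a => (Category.id_comp _).symm)))
      haff (fun a => ⟨compactSpace_red a.1, qsSpace_red a.1⟩) (fun a => (hcS a.2).2)
    exact ⟨Wi, ⟨hne, hw ▸ (h1 s w).2 hPs⟩, fun a ha => hle ⟨a, ha⟩⟩) (OrderDual.toDual (⊤ : Closeds T)) hS
  -- the minimal one
  let W : Closeds T := OrderDual.ofDual W'
  have hWne : (W : Set T).Nonempty := hW.1.1
  have hWP : P (redι W) := hW.1.2
  have hWmin : ∀ C : Closeds T, C ∈ S → C ≤ W → W ≤ C := fun C hC hle => hW.2 hC hle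
  haveI := compactSpace_red W
  haveI := qsSpace_red W
  haveI : IsReduced (red W) := H75.RedSub.isReduced_vanishingIdeal W
  haveI : Nonempty (red W) := by
    obtain ⟨x, hx⟩ := hWne
    obtain ⟨z, -⟩ := (range_redι W).ge hx
    exact ⟨z⟩
  obtain ⟨z⟩ := ‹Nonempty (red W)›
  obtain ⟨U, hU, hzU, -⟩ :=
    exists_isAffineOpen_mem_and_subset (x := z) (U := (⊤ : (red W).Opens)) trivial
  let A := Γ(red W, U)
  haveI : Nonempty U := ⟨⟨z, hzU⟩⟩
  haveI : Nontrivial A := inferInstanceAs (Nontrivial Γ(red W, U))
  haveI : _root_.IsReduced A := IsReduced.component_reduced U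
  obtain ⟨p₀, hp₀⟩ := (Ideal.nonempty_minimalPrimes (I := (⊥ : Ideal A)) (by simp))
  let p : PrimeSpectrum A := ⟨p₀, hp₀.1.1⟩
  let D : Lib.Lim.LocalLimit.Nhd p ⥤ Over T :=
    { obj := fun r => Over.mk ((Lib.Lim.LocalLimit.op' p r).ι ≫ hU.fromSpec ≫ redι W)
      map := fun {r r'} h => Over.homMk ((Lib.Lim.LocalLimit.diag p).map h)
        (by simp [Lib.Lim.LocalLimit.diag])
      map_id := fun r => Over.OverMorphism.ext ((Lib.Lim.LocalLimit.diag p).map_id r)
      map_comp := fun f g => Over.OverMorphism.ext ((Lib.Lim.LocalLimit.diag p).map_comp f g) }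
  have hP : ∀ r, P (D.obj r).hom := by
    intro r
    let V : (red W).Opens := ((Lib.Lim.LocalLimit.op' p r).ι ≫ hU.fromSpec).opensRange
    let C : Closeds (red W) := ⟨(V : Set (red W))ᶜ, V.2.isClosed_compl⟩
    let i := (Scheme.IdealSheafData.vanishingIdeal C).subschemeι
    have hi : Set.range i = (V : Set (red W))ᶜ := by
      rw [Scheme.IdealSheafData.range_subschemeι, Scheme.IdealSheafData.coe_support_vanishingIdeal]
      rfl
    let j := (Lib.Lim.LocalLimit.op' p r).ι ≫ hU.fromSpec
    haveI : IsAffine (Lib.Lim.LocalLimit.op' p r : Scheme.{u}) := IsAffineOpen.Spec_basicOpen _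
    have hPj : P (j ≫ redι W) := by
      rcases h3 (redι W) i j (by rw [hi, compl_compl]; rfl) hWP with h | h
      · exact h
      · let C' : Closeds T := ⟨Set.range (i ≫ redι W), (i ≫ redι W).isClosedEmbedding.isClosed_range⟩
        have hC' : C' ≤ W := by
          rintro _ ⟨y, rfl⟩
          exact (range_redι W).le ⟨i y, rfl⟩
        have hpV : hU.fromSpec p ∈ V := ⟨⟨p, r.2⟩, rfl⟩
        have hxC : redι W (hU.fromSpec p) ∉ C' := by
          rintro ⟨y, hy⟩
          rw [Scheme.Hom.comp_apply] at hy
          have : hU.fromSpec p ∈ (V : Set (red W))ᶜ := hi.le ⟨y, (redι W).isClosedEmbedding.injective hy⟩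
          exact this hpV
        by_cases hne : (C' : Set T).Nonempty
        · exact absurd (hWmin C' ⟨hne, toRed (i ≫ redι W) C' rfl h⟩ hC' ((range_redι W).le ⟨_, rfl⟩)) hxC
        · haveI : Surjective j := ⟨fun y => by
            by_contra hy
            obtain ⟨y', hy'⟩ := hi.ge (show y ∈ (V : Set (red W))ᶜ from fun hv => hy hv)
            exact hne ⟨_, y', rfl⟩⟩
          haveI : IsIso j := (isIso_iff_isOpenImmersion_and_epi_base j).2 ⟨inferInstance,
            (TopCat.epi_iff_surjective _).2 j.surjective⟩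
          exact (h1 (redι W) j).2 hWP
    exact (Category.assoc _ _ _).subst (motive := fun φ => P φ) hPj
  haveI : p.asIdeal.IsPrime := hp₀.1.1
  let K := Localization.AtPrime p.asIdeal
  let C : Cone D :=
    { pt := Over.mk (Lib.Lim.LocalLimit.toSpec p ≫ hU.fromSpec ≫ redι W)
      π := { app := fun r => Over.homMk ((Lib.Lim.LocalLimit.cone p).π.app r) (by
              exact ((Category.assoc _ _ _).symm.trans
                (congrArg (· ≫ hU.fromSpec ≫ redι W) (Lib.Lim.LocalLimit.cone_π_ι p r))))
             naturality := fun r r' h => Over.OverMorphism.ext ((Lib.Lim.LocalLimit.cone p).π.naturality h) } }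
  haveI : _root_.IsReduced K := inferInstanceAs (_root_.IsReduced (Localization p.asIdeal.primeCompl))
  have hF : IsField K := by
    rw [IsLocalRing.isField_iff_maximalIdeal_eq, eq_bot_iff, show (⊥ : Ideal K) = nilradical K from (nilradical_eq_zero K).symm, nilradical_eq_sInf]
    refine le_sInf fun (Q : Ideal K) (hQ : Q.IsPrime) => ?_
    have h0 := (IsLocalization.disjoint_under_iff p.asIdeal.primeCompl K Q).2 hQ.ne_top
    have hle : Ideal.comap (algebraMap A K) Q ≤ p.asIdeal := fun a ha => by
      by_contra hap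
      exact Set.disjoint_left.1 h0 hap ha
    have := hp₀.2 ⟨Q.comap_isPrime (algebraMap A K), bot_le⟩ hle
    rw [← IsLocalization.map_under p.asIdeal.primeCompl K (IsLocalRing.maximalIdeal K),
      Ideal.map_le_iff_le_comap]
    exact (IsLocalization.AtPrime.comap_maximalIdeal K p.asIdeal).le.trans this
  refine ⟨K, hF.toField, Lib.Lim.LocalLimit.toSpec p ≫ hU.fromSpec ≫ redι W, ?_⟩
  haveI : IsConnected (Lib.Lim.LocalLimit.Nhd p) := IsCofiltered.isConnected _
  exact h2 D C (overIsLimit C (Classical.arbitrary _) (IsLimit.ofIsoLimit (Lib.Lim.LocalLimit.isLimit p)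
      (Cone.ext (Iso.refl _) fun a => (Category.id_comp _).symm)))
    (fun r r' m => inferInstanceAs (IsAffineHom ((Lib.Lim.LocalLimit.diag p).map m)))
    (fun r => by
      haveI : IsAffine (D.obj r).left := IsAffineOpen.Spec_basicOpen _
      exact ⟨inferInstance, inferInstance⟩) hP

end Groth.Agent.H69.MinimalClosed
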