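import Groth.Agent.Lib.Lim.Approx.Rel
import Groth.Agent.H69.MinimalClosed

/-!
# Preservation of limits of affine schemes implies local finite presentation
-/

set_option autoImplicit false
set_option linter.unusedVariables false
set_option linter.style.haveILetI false
set_option backward.isDefEq.respectTransparency false
universe u
open CategoryTheory CategoryTheory.Limits AlgebraicGeometry Opposite

namespace Groth.Agent.H69.PreservesLfp

/-- A retract of a finitely presented algebra is finitely presented. -/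
theorem finitePresentation_of_retract {A B C : Type u} [CommRing A] [CommRing B] [CommRing C]
    [Algebra A B] [Algebra A C] [Algebra.FinitePresentation A C] (π : C →ₐ[A] B) (σ : B →ₐ[A] C)
    (h : π.comp σ = AlgHom.id A B) : Algebra.FinitePresentation A B := by
  classical
  have hs : Function.Surjective π := fun b => ⟨σ b, AlgHom.congr_fun h b⟩
  obtain ⟨s, hgen⟩ := (inferInstance : Algebra.FiniteType A C).out
  let I : Ideal C := Ideal.span ((fun c => c - σ (π c)) '' (s : Set C))
  have hker : RingHom.ker π.toRingHom = I := by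
    refine le_antisymm (fun x hx => ?_) (Ideal.span_le.2 ?_)
    · have e : ((Ideal.Quotient.mkₐ A I).comp (σ.comp π)) = Ideal.Quotient.mkₐ A I := by
        refine AlgHom.ext_of_adjoin_eq_top hgen fun c hc => ?_
        show Ideal.Quotient.mk I (σ (π c)) = Ideal.Quotient.mk I c
        rw [eq_comm, Ideal.Quotient.eq]
        exact Ideal.subset_span ⟨c, hc, rfl⟩
      have := AlgHom.congr_fun e x
      rw [AlgHom.comp_apply, AlgHom.comp_apply, show π x = 0 from hx, map_zero, map_zero] at this
      exact Ideal.Quotient.eq_zero_iff_mem.1 this.symm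
    · rintro _ ⟨c, -, rfl⟩
      show π (c - σ (π c)) = 0
      rw [map_sub, show π (σ (π c)) = π c from AlgHom.congr_fun h (π c), sub_self]
  exact Algebra.FinitePresentation.of_surjective hs
    (hker ▸ Submodule.fg_span (s.finite_toSet.image _))

variable {X S : Scheme.{u}} (f : X ⟶ S)

theorem lfp_of_preservesColimit
    (h : ∀ (U : S.Opens), IsAffineOpen U →
      ∀ (J : Type u) [Preorder J] [IsDirected J (· ≤ ·)] [Nonempty J] (Z : Jᵒᵖ ⥤ Over (U : Scheme.{u})),
      (∀ j, IsAffine (Z.obj j).left) →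
      PreservesColimit (Z ⋙ Over.map U.ι).op (yoneda.obj (Over.mk f))) :
    LocallyOfFinitePresentation f := by
  have key : ∀ (U : S.Opens) (hU : IsAffineOpen U) (V : X.Opens) (hV : IsAffineOpen V)
      (e : V ≤ f ⁻¹ᵁ U), (f.appLE U V e).hom.FinitePresentation := by
    intro U hU V hV e
    haveI : IsAffine (U : Scheme.{u}) := hU
    haveI : IsAffine (V : Scheme.{u}) := hV
    let g : (V : Scheme.{u}) ⟶ U := f.resLE U V e
    obtain ⟨R₀⟩ := Lib.Lim.Approx.Rel.exists_relApprox g
    obtain ⟨k₀⟩ := R₀.ne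
    haveI : IsAffineHom (R₀.π.app (op k₀) ≫ R₀.t.app (op k₀)) := by
      rw [R₀.w]; exact isAffineHom_of_isAffine g
    obtain ⟨⟨k₁⟩, -, hk₁⟩ := Lib.Lim.Eventual.exists_isAffineHom (D := R₀.D) (c := R₀.cone) R₀.t
      R₀.isLimit (op k₀)
    let R := R₀.tail k₁
    have haff : ∀ k : R.Kᵒᵖ, IsAffine (R.D.obj k) := fun k => by
      haveI : IsAffineHom (R₀.t.app (op k.unop.1)) := hk₁ _ (homOfLE k.unop.2).op
      exact @isAffine_of_isAffineHom _ (U : Scheme.{u}) (R₀.t.app (op k.unop.1)) _ _
    have hp := h U hU R.K R.overD haff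
    haveI : IsConnected R.Kᵒᵖ := IsCofiltered.isConnected _
    let c : Cone (R.overD ⋙ Over.map U.ι) := (Over.map U.ι).mapCone R.overCone
    have hc : IsLimit c := MinimalClosed.overIsLimit c (Classical.arbitrary _)
      (IsLimit.ofIsoLimit R.isLimit (Cone.ext (Iso.refl _) fun a => (Category.id_comp _).symm))
    have hcc := isColimitOfPreserves (yoneda.obj (Over.mk f)) hc.op
    let v : c.pt ⟶ Over.mk f := Over.homMk V.ι (by
      show V.ι ≫ f = g ≫ U.ι
      rw [Scheme.Hom.resLE_comp_ι])
    obtain ⟨j, φ, hφ⟩ := Types.jointly_surjective _ hcc v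
    let k : R.Kᵒᵖ := j.unop
    let φ' : R.D.obj k ⟶ X := φ.left
    have hφV : R.π.app k ≫ φ' = V.ι := congrArg CommaMorphism.left hφ
    have hφf : φ' ≫ f = R.t.app k ≫ U.ι := Over.w φ
    have htop : R.π.app k ⁻¹ᵁ (φ' ⁻¹ᵁ V) = ⊤ := by
      rw [← Scheme.Hom.comp_preimage, hφV, Scheme.Opens.ι_preimage_self]
    obtain ⟨k', m, hm⟩ := exists_map_eq_top R.D R.cone R.isLimit (φ' ⁻¹ᵁ V) htop
    let ψ : R.D.obj k' ⟶ V := IsOpenImmersion.lift V.ι (R.D.map m ≫ φ') (by
      rw [Scheme.Opens.range_ι]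
      rintro _ ⟨z, rfl⟩
      have : z ∈ R.D.map m ⁻¹ᵁ (φ' ⁻¹ᵁ V) := hm ▸ trivial
      rw [Scheme.Hom.comp_apply]
      exact this)
    have hψ : ψ ≫ V.ι = R.D.map m ≫ φ' := IsOpenImmersion.lift_fac _ _ _
    have hπψ : R.π.app k' ≫ ψ = 𝟙 _ := by
      rw [← cancel_mono V.ι, Category.assoc, hψ, ← Category.assoc, Category.id_comp]
      rw [show R.π.app k' ≫ R.D.map m = R.π.app k from R.cone.w m, hφV]
    have hψt : ψ ≫ g = R.t.app k' := by
      rw [← cancel_mono U.ι, Category.assoc, Scheme.Hom.resLE_comp_ι, ← Category.assoc, hψ,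
        Category.assoc, hφf, ← Category.assoc]
      exact congrArg (· ≫ U.ι) ((R.t.naturality m).trans (Category.comp_id _))
    haveI := haff k'
    let t' : R.D.obj k' ⟶ (U : Scheme.{u}) := R.t.app k'
    have hw : R.π.app k' ≫ t' = g := R.w k'
    have hC : t'.appTop.hom.FinitePresentation :=
      (HasRingHomProperty.iff_of_isAffine (P := @LocallyOfFinitePresentation)).1 (R.lfp k')
    letI := g.appTop.hom.toAlgebra
    letI := t'.appTop.hom.toAlgebra
    haveI : Algebra.FinitePresentation Γ(U, ⊤) Γ(R.D.obj k', ⊤) := hC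
    let σ : Γ(V, ⊤) →ₐ[Γ(U, ⊤)] Γ(R.D.obj k', ⊤) :=
      ⟨ψ.appTop.hom, fun a => by
        show (g.appTop ≫ ψ.appTop) a = t'.appTop a
        rw [← Scheme.Hom.comp_appTop, show ψ ≫ g = t' from hψt]⟩
    let π : Γ(R.D.obj k', ⊤) →ₐ[Γ(U, ⊤)] Γ(V, ⊤) :=
      ⟨(R.π.app k').appTop.hom, fun a => by
        show (t'.appTop ≫ (R.π.app k').appTop) a = g.appTop a
        exact congrArg (fun φ => φ a) ((Scheme.Hom.comp_appTop _ _).symm.trans (congrArg Scheme.Hom.appTop hw))⟩
    have hB := finitePresentation_of_retract π σ (AlgHom.ext fun b => by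
      show (ψ.appTop ≫ (R.π.app k').appTop) b = b
      rw [← Scheme.Hom.comp_appTop, hπψ, Scheme.Hom.id_appTop]
      rfl)
    haveI : (RingHom.toMorphismProperty (@RingHom.FinitePresentation)).RespectsIso :=
      RingHom.toMorphismProperty_respectsIso_iff.mp RingHom.finitePresentation_respectsIso
    exact (MorphismProperty.arrow_mk_iso_iff (RingHom.toMorphismProperty (@RingHom.FinitePresentation))
      (arrowResLEAppIso f U V e)).1 hB
  exact ⟨fun {U} hU {V} hV e => key U hU V hV e⟩

end Groth.Agent.H69.PreservesLfp
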