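import Groth.Agent.Lib.Lim.Approx.Rel
import Groth.Agent.H69.MinimalClosed
import Groth.Agent.H69.PreservesLfp

/-!
# Surjectivity on limits of affine schemes implies local finite presentation
-/

set_option autoImplicit false
set_option linter.unusedVariables false
set_option linter.style.haveILetI false
set_option backward.isDefEq.respectTransparency false
universe u
open CategoryTheory CategoryTheory.Limits AlgebraicGeometry Opposite

namespace Groth.Agent.H69.SurjectiveLfp

variable {X S : Scheme.{u}} (f : X ⟶ S)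

theorem lfp_of_surjective
    (h : ∀ (J : Type u) [Preorder J] [IsDirected J (· ≤ ·)] [Nonempty J] (D : Jᵒᵖ ⥤ Scheme.{u})
      (t : D ⟶ (Functor.const Jᵒᵖ).obj S) (c : Cone D) (_ : IsLimit c),
      (∀ j, IsAffine (D.obj j)) → ∀ (j₀ : Jᵒᵖ) (g : c.pt ⟶ X), g ≫ f = c.π.app j₀ ≫ t.app j₀ →
        ∃ (j : Jᵒᵖ) (gj : D.obj j ⟶ X), gj ≫ f = t.app j ∧ c.π.app j ≫ gj = g) :
    LocallyOfFinitePresentation f := by
  have key : ∀ (U : S.Opens) (hU : IsAffineOpen U) (V : X.Opens) (hV : IsAffineOpen V)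
      (e : V ≤ f ⁻¹ᵁ U), (f.appLE U V e).hom.FinitePresentation := by
    intro U hU V hV e
    haveI : IsAffine (U : Scheme.{u}) := hU
    haveI : IsAffine (V : Scheme.{u}) := hV
    let g : (V : Scheme.{u}) ⟶ U := f.resLE U V e
    obtain ⟨R₀⟩ := Lib.Lim.Approx.Rel.exists_relApprox g
    obtain ⟨k₀⟩ := R₀.ne
    haveI : IsAffineHom (R₀.π.app (op k₀) ≫ R₀.t.app (op k₀)) := by
      rw [R₀.w]; exact isAffineHom_of_isAffine g
    obtain ⟨⟨k₁⟩, -, hk₁⟩ := Lib.Lim.Eventual.exists_isAffineHom (D := R₀.D) (c := R₀.cone) R₀.t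
      R₀.isLimit (op k₀)
    let R := R₀.tail k₁
    have haff : ∀ k : R.Kᵒᵖ, IsAffine (R.D.obj k) := fun k => by
      haveI : IsAffineHom (R₀.t.app (op k.unop.1)) := hk₁ _ (homOfLE k.unop.2).op
      exact @isAffine_of_isAffineHom _ (U : Scheme.{u}) (R₀.t.app (op k.unop.1)) _ _
    let tS : R.D ⟶ (Functor.const R.Kᵒᵖ).obj S :=
      { app := fun k => R.t.app k ≫ U.ι
        naturality := fun k k' a => by
          rw [← Category.assoc]
          exact (congrArg (· ≫ U.ι) ((R.t.naturality a).trans (Category.comp_id _))).trans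
            (Category.comp_id _).symm }
    obtain ⟨k, φ', hφf, hφV⟩ := h R.K R.D tS R.cone R.isLimit haff (Classical.arbitrary _) V.ι (by
      show V.ι ≫ f = R.π.app _ ≫ R.t.app _ ≫ U.ι
      rw [← Category.assoc, R.w, Scheme.Hom.resLE_comp_ι])
    have htop : R.π.app k ⁻¹ᵁ (φ' ⁻¹ᵁ V) = ⊤ := by
      rw [← Scheme.Hom.comp_preimage, hφV, Scheme.Opens.ι_preimage_self]
    obtain ⟨k', m, hm⟩ := exists_map_eq_top R.D R.cone R.isLimit (φ' ⁻¹ᵁ V) htop
    let ψ : R.D.obj k' ⟶ V := IsOpenImmersion.lift V.ι (R.D.map m ≫ φ') (by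
      rw [Scheme.Opens.range_ι]
      rintro _ ⟨z, rfl⟩
      have : z ∈ R.D.map m ⁻¹ᵁ (φ' ⁻¹ᵁ V) := hm ▸ trivial
      rw [Scheme.Hom.comp_apply]
      exact this)
    have hψ : ψ ≫ V.ι = R.D.map m ≫ φ' := IsOpenImmersion.lift_fac _ _ _
    have hπψ : R.π.app k' ≫ ψ = 𝟙 _ := by
      rw [← cancel_mono V.ι, Category.assoc, hψ, ← Category.assoc, Category.id_comp]
      rw [show R.π.app k' ≫ R.D.map m = R.π.app k from R.cone.w m, hφV]
    have hψt : ψ ≫ g = R.t.app k' := by
      rw [← cancel_mono U.ι, Category.assoc, Scheme.Hom.resLE_comp_ι, ← Category.assoc, hψ,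
        Category.assoc, hφf, ← Category.assoc]
      exact congrArg (· ≫ U.ι) ((R.t.naturality m).trans (Category.comp_id _))
    haveI := haff k'
    let t' : R.D.obj k' ⟶ (U : Scheme.{u}) := R.t.app k'
    have hw : R.π.app k' ≫ t' = g := R.w k'
    have hC : t'.appTop.hom.FinitePresentation :=
      (HasRingHomProperty.iff_of_isAffine (P := @LocallyOfFinitePresentation)).1 (R.lfp k')
    letI := g.appTop.hom.toAlgebra
    letI := t'.appTop.hom.toAlgebra
    haveI : Algebra.FinitePresentation Γ(U, ⊤) Γ(R.D.obj k', ⊤) := hC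
    let σ : Γ(V, ⊤) →ₐ[Γ(U, ⊤)] Γ(R.D.obj k', ⊤) :=
      ⟨ψ.appTop.hom, fun a => by
        show (g.appTop ≫ ψ.appTop) a = t'.appTop a
        rw [← Scheme.Hom.comp_appTop, show ψ ≫ g = t' from hψt]⟩
    let π : Γ(R.D.obj k', ⊤) →ₐ[Γ(U, ⊤)] Γ(V, ⊤) :=
      ⟨(R.π.app k').appTop.hom, fun a => by
        show (t'.appTop ≫ (R.π.app k').appTop) a = g.appTop a
        exact congrArg (fun φ => φ a) ((Scheme.Hom.comp_appTop _ _).symm.trans (congrArg Scheme.Hom.appTop hw))⟩
    have hB := PreservesLfp.finitePresentation_of_retract π σ (AlgHom.ext fun b => by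
      show (ψ.appTop ≫ (R.π.app k').appTop) b = b
      rw [← Scheme.Hom.comp_appTop, hπψ, Scheme.Hom.id_appTop]
      rfl)
    haveI : (RingHom.toMorphismProperty (@RingHom.FinitePresentation)).RespectsIso :=
      RingHom.toMorphismProperty_respectsIso_iff.mp RingHom.finitePresentation_respectsIso
    exact (MorphismProperty.arrow_mk_iso_iff (RingHom.toMorphismProperty (@RingHom.FinitePresentation))
      (arrowResLEAppIso f U V e)).1 hB
  exact ⟨fun {U} hU {V} hV e => key U hU V hV e⟩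

end Groth.Agent.H69.SurjectiveLfp
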