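import Groth.Agent.Lib.Ample.QAffCounit
import Groth.Agent.Lib.Ample.Restrict
import Groth.Agent.H69.SectionStage
import Groth.Agent.Lib.Lim.Topology
import Groth.Agent.Lib.Lim.FPDescend

/-!
# Generation relative to a morphism descends to a stage
-/

noncomputable section

set_option autoImplicit false
set_option linter.style.haveILetI false
set_option backward.isDefEq.respectTransparency false

universe u

open CategoryTheory CategoryTheory.Limits AlgebraicGeometry Opposite TopologicalSpace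

namespace Groth.Agent.H69.CounitStage

open Lib Lib.TensorMod Lib.TensorMod.Basic Lib.TensorMod.Dual Lib.TensorMod.Gen Lib.TensorMod.Pullback
open Lib.Ample.GenLocus Lib.Modules.StalkModule Lib.Lim.Basic

variable {X Y X' Y' : Scheme.{u}}

/-- Sections over preimages of opens of the base generate `M` near `x`. -/
def GenRel (f : X ⟶ Y) (M : X.Modules) (x : X) : Prop :=
  ∃ (W : Y.Opens) (B : X.Opens) (hB : B ≤ f ⁻¹ᵁ W) (m : Γ(M, f ⁻¹ᵁ W)),
    f x ∈ W ∧ x ∈ B ∧ IsGen M B (rs M hB m)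

theorem isGen_iso {M N : X.Modules} (e : M ≅ N) {U : X.Opens} {m : Γ(M, U)} (hm : IsGen M U m) :
    IsGen N U (e.hom.app U m) :=
  isGen_of_isIso_over (isIso_over_of_iso e U) hm

theorem GenRel.of_iso {f : X ⟶ Y} {M N : X.Modules} (e : M ≅ N) {x : X} (h : GenRel f M x) :
    GenRel f N x := by
  obtain ⟨W, B, hB, m, hW, hx, hg⟩ := h
  refine ⟨W, B, hB, e.hom.app _ m, hW, hx, ?_⟩
  have := isGen_iso e hg
  rwa [show rs N hB (e.hom.app _ m) = e.hom.app B (rs M hB m) from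
    (ConcreteCategory.congr_hom (e.hom.mapPresheaf.naturality (homOfLE hB).op) m).symm]

theorem isOpen_genRel (f : X ⟶ Y) (M : X.Modules) : IsOpen {x | GenRel f M x} := by
  rw [isOpen_iff_forall_mem_open]
  rintro x ⟨W, B, hB, m, -, hx, hg⟩
  exact ⟨B, fun z hz => ⟨W, B, hB, m, hB hz, hz, hg⟩, B.isOpen, hx⟩

theorem GenRel.pullback {f : X ⟶ Y} {f' : X' ⟶ Y'} (p : X' ⟶ X) (q : Y' ⟶ Y)
    (w : f' ≫ q = p ≫ f) {M : X.Modules} {x' : X'} (h : GenRel f M (p x')) :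
    GenRel f' ((pb p).obj M) x' := by
  obtain ⟨W, B, hB, m, hW, hx, hg⟩ := h
  have he : f' ⁻¹ᵁ (q ⁻¹ᵁ W) = p ⁻¹ᵁ (f ⁻¹ᵁ W) := by
    rw [← Scheme.Hom.comp_preimage, w, Scheme.Hom.comp_preimage]
  refine ⟨q ⁻¹ᵁ W, p ⁻¹ᵁ B, (p.preimage_mono hB).trans he.ge, rs _ he.le (unitSec p M m), ?_, hx, ?_⟩
  · show q (f' x') ∈ W
    rw [← Scheme.Hom.comp_apply, w, Scheme.Hom.comp_apply]
    exact hW
  · rw [rs_rs, unitSec_rs p hB]
    exact isGen_unitSec p hg

theorem gm_span_of_isGen {M : X.Modules} {B : X.Opens} {e : Γ(M, B)} (he : IsGen M B e) {x : X}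
    (hx : x ∈ B) (v : M.presheaf.stalk x) :
    ∃ c : X.presheaf.stalk x, c • Lib.Ample.GG.gm hx e = v := by
  obtain ⟨U, hxU, t, rfl⟩ := M.presheaf.germ_exist v
  obtain ⟨a, ha⟩ := exists_coord (he.res (inf_le_left : B ⊓ U ≤ B)) (rs M inf_le_right t)
  have hxBU : x ∈ B ⊓ U := ⟨hx, hxU⟩
  refine ⟨X.presheaf.germ _ x hxBU a, ?_⟩
  have := congrArg (Lib.Ample.GG.gm (M := M) hxBU) ha
  rw [Lib.Ample.GG.gm_rs, Lib.Ample.GG.gm_smul, Lib.Ample.GG.gm_rs] at this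
  exact this.symm

/-- If sections over preimages generate everywhere, the counit is an epimorphism. -/
theorem epi_counit (f : X ⟶ Y) {M : X.Modules} (h : ∀ x, GenRel f M x) :
    Epi ((pbAdj f).counit.app M) := by
  refine (Lib.Modules.Stalk.epi_iff_stalk_surjective _).2 fun x (v : M.presheaf.stalk x) => ?_
  obtain ⟨W, B, hB, m, hW, hx, hg⟩ := h x
  obtain ⟨c, hc⟩ := gm_span_of_isGen hg hx v
  rw [Lib.Ample.GG.gm_rs] at hc
  refine ⟨c • Lib.Ample.GG.gm (M := (pb f).obj ((pf f).obj M)) (hB hx) (unitSec f ((pf f).obj M) m), ?_⟩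
  show stalkMapₗ ((pbAdj f).counit.app M) x (c • _) = v
  rw [map_smul, ← hc]
  congr 1
  exact (stalkMapₗ_germ _ (hB hx) _).trans
    (congrArg (Lib.Ample.GG.gm (M := M) (hB hx)) (Lib.Ample.QAffCounit.counit_app_unitSec f M W m))

/-- A generating section gives a morphism from the structure module over the open. -/
theorem exists_hom_of_gen {M : X.Modules} {O B : X.Opens} (hB : B ≤ O) (m : Γ(M, O))
    (hg : IsGen M B (rs M hB m)) :
    ∃ s : Coh.structureModule (O : Scheme.{u}) ⟶ (pb O.ι).obj M,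
      O.ι ⁻¹ᵁ B ≤ CohB1.genLocus _ s := by
  have htop : (⊤ : (O : Scheme.{u}).Opens) ≤ O.ι ⁻¹ᵁ O := fun z _ => z.2
  obtain ⟨s, hs⟩ := exists_hom_of_sec (L := (pb O.ι).obj M) (rs _ htop (unitSec O.ι M m))
  refine ⟨s, le_genLocus ?_⟩
  rw [← rs_sv s (le_top : O.ι ⁻¹ᵁ B ≤ ⊤), hs, rs_rs, unitSec_rs O.ι hB]
  exact isGen_unitSec O.ι hg

/-- A point of the locus of a morphism over an open gives relative generation. -/
theorem genRel_of_hom {f : X ⟶ Y} {W : Y.Opens} {O : X.Opens} (hO : O = f ⁻¹ᵁ W) {M : X.Modules}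
    (hM : PicF.IsInvertible M) (s : Coh.structureModule (O : Scheme.{u}) ⟶ (pb O.ι).obj M)
    {z : (O : Scheme.{u})} (hz : z ∈ CohB1.genLocus _ s) : GenRel f M z.1 := by
  subst hO
  let O := f ⁻¹ᵁ W
  let t := s ≫ ((Scheme.Modules.restrictFunctorIsoPullback O.ι).app M).inv
  have ht : z ∈ CohB1.genLocus _ t := by
    show z ∈ CohB1.genLocus _ (s ≫ ((Scheme.Modules.restrictFunctorIsoPullback O.ι).app M).symm.hom)
    rw [genLocus_comp_iso]
    exact hz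
  let m : Γ(M, O) := rs M O.ι_image_top.ge ((M.restrictAppIso O.ι ⊤).hom (sv t ⊤))
  obtain ⟨U, e, hzU, he⟩ := isInvertible_iff.1 hM z.1
  have he' := he.res (inf_le_right : O ⊓ U ≤ U)
  obtain ⟨a, ha⟩ := exists_coord he' (rs M (inf_le_left : O ⊓ U ≤ O) m)
  let b : Γ((O : Scheme.{u}), O.ι ⁻¹ᵁ (O ⊓ U)) :=
    (O.ι.appIso _).hom (rf (O.ι.image_preimage_le _) a)
  have h2 : CohB1.genLocus _ t ⊓ O.ι ⁻¹ᵁ (O ⊓ U) = (O : Scheme.{u}).basicOpen b := by
    refine genLocus_inf_eq (Lib.Ample.Restrict.isGen_restrict he' O) t ?_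
    rw [← rs_sv t (le_top : O.ι ⁻¹ᵁ (O ⊓ U) ≤ ⊤)]
    have hσ := congrArg (rs M (O.ι.image_preimage_le (O ⊓ U))) ha
    rw [rs_smul, rs_rs] at hσ
    change rs M _ (rs M _ ((M.restrictAppIso O.ι ⊤).hom (sv t ⊤))) = _ at hσ
    rw [rs_rs] at hσ
    refine (ConcreteCategory.bijective_of_isIso (M.restrictAppIso O.ι (O.ι ⁻¹ᵁ (O ⊓ U))).hom).1 ?_
    refine hσ.trans ?_
    rw [restrict_smul, Iso.hom_inv_id_apply]
    rfl
  have hb : O.ι ''ᵁ (O : Scheme.{u}).basicOpen b = X.basicOpen a := by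
    rw [Scheme.image_basicOpen]
    change X.basicOpen ((O.ι.appIso _).inv ((O.ι.appIso _).hom (rf (O.ι.image_preimage_le _) a))) = _
    rw [Iso.hom_inv_id_apply, Scheme.basicOpen_res, Scheme.Hom.image_preimage_eq_opensRange_inf,
      Scheme.Opens.opensRange_ι]
    exact inf_eq_right.2 ((X.basicOpen_le a).trans (le_inf inf_le_left le_rfl))
  have hza : z.1 ∈ X.basicOpen a := hb ▸ ⟨z, h2.le ⟨ht, z.2, hzU⟩, rfl⟩
  have hBO : X.basicOpen a ≤ O := (X.basicOpen_le a).trans inf_le_left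
  refine ⟨W, X.basicOpen a, hBO, m, z.2, hza, ?_⟩
  rw [← rs_rs M (inf_le_left : O ⊓ U ≤ O) (X.basicOpen_le a), ha, rs_smul]
  exact IsGen_smul_isUnit (he'.res (X.basicOpen_le a)) (X.toRingedSpace.isUnit_res_basicOpen a)

section Limit

variable {I : Type u} [SmallCategory I] [IsCofiltered I] (D : I ⥤ Scheme.{u}) (c : Cone D)
  [∀ {i j : I} (f : i ⟶ j), IsAffineHom (D.map f)]

/-- Relative generation on the limit holds on some stage. -/
theorem exists_stage (hc : IsLimit c) (i₀ : I) [CompactSpace (D.obj i₀)]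
    [QuasiSeparatedSpace (D.obj i₀)] {X₀ : Scheme.{u}} (f₀ : X₀ ⟶ D.obj i₀) [QuasiCompact f₀]
    [QuasiSeparated f₀] (L₀ : X₀.Modules) (hL₀ : PicF.IsInvertible L₀)
    {X : Scheme.{u}} (f : X ⟶ c.pt) (qX : X ⟶ X₀) (hX : IsPullback qX f f₀ (c.π.app i₀))
    (hgen : ∀ x, GenRel f ((pb qX).obj L₀) x) :
    ∃ (i : I) (φ : i ⟶ i₀), ∀ z, GenRel (pullback.snd f₀ (D.map φ))
      ((pb (pullback.fst f₀ (D.map φ))).obj L₀) z := by
  classical
  haveI : CompactSpace X₀ := QuasiCompact.compactSpace_of_compactSpace f₀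
  haveI : QuasiSeparatedSpace X₀ := quasiSeparatedSpace_of_quasiSeparated f₀
  let DX := bcDiagram D f₀
  let cX : Cone DX := bcCone hX.w
  have hcX : IsLimit cX := isLimitBcCone hc hX
  haveI : ∀ {a b : Over i₀} (g : a ⟶ b), IsAffineHom (DX.map g) := fun g =>
    bcDiagram_map_prop D f₀ @IsAffineHom (fun g => inferInstance) g
  haveI : ∀ a, CompactSpace (DX.obj a) := compactSpace_bcDiagram D f₀
  haveI : ∀ a, QuasiSeparatedSpace (DX.obj a) := quasiSeparatedSpace_bcDiagram D f₀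
  let G : ∀ a : Over i₀, (DX.obj a).Opens := fun a =>
    ⟨{z | GenRel (pullback.snd f₀ (D.map a.hom)) ((pb (pullback.fst f₀ (D.map a.hom))).obj L₀) z},
      isOpen_genRel _ _⟩
  have hG : ∀ {a b : Over i₀} (g : a ⟶ b), DX.map g ⁻¹ᵁ G b ≤ G a := by
    intro a b g z hz
    exact (GenRel.pullback (f' := pullback.snd f₀ (D.map a.hom)) (DX.map g) (D.map g.left)
      (bcDiagram_map_snd D f₀ g).symm hz).of_iso
      ((Scheme.Modules.pullbackComp _ _).app L₀ ≪≫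
        (Scheme.Modules.pullbackCongr (bcDiagram_map_fst D f₀ g)).app L₀)
  let πX : ∀ a, X ⟶ DX.obj a := fun a => cX.π.app a
  have hπX : ∀ {a b : Over i₀} (g : a ⟶ b), πX a ≫ DX.map g = πX b := fun g => cX.w g
  haveI : ∀ {a b : Over i₀} (g : a ⟶ b), IsAffineHom ((Over.forget i₀ ⋙ D).map g) := fun g =>
    inferInstanceAs (IsAffineHom (D.map g.left))
  have hpt : ∀ x : X, ∃ a : Over i₀, πX a x ∈ G a := by
    intro x
    obtain ⟨W, B, hB, m, hW, hxB, hg⟩ := hgen x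
    obtain ⟨_, ⟨a, V, hV, rfl⟩, hxV, hVW⟩ := TopologicalSpace.Opens.isBasis_iff_nbhd.mp
      (Lib.Lim.Topology.isTopologicalBasis (D := Over.forget i₀ ⋙ D) (c := c.whisker (Over.forget i₀))
        ((Functor.Initial.isLimitWhiskerEquiv (Over.forget i₀) c).symm hc)) hW
    let T : (DX.obj a).Opens := pullback.snd f₀ (D.map a.hom) ⁻¹ᵁ V
    let π : X ⟶ DX.obj a := πX a
    have hπsnd : π ≫ pullback.snd f₀ (D.map a.hom) = f ≫ c.π.app a.left := bcCone_π_snd hX.w a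
    have hπfst : π ≫ pullback.fst f₀ (D.map a.hom) = qX := bcCone_π_fst hX.w a
    let O : X.Opens := π ⁻¹ᵁ T
    have hOW : O ≤ f ⁻¹ᵁ W := by
      show π ⁻¹ᵁ (pullback.snd f₀ (D.map a.hom) ⁻¹ᵁ V) ≤ _
      rw [← Scheme.Hom.comp_preimage, hπsnd, Scheme.Hom.comp_preimage]
      exact f.preimage_mono hVW
    have hxO : x ∈ O := by
      show x ∈ π ⁻¹ᵁ (pullback.snd f₀ (D.map a.hom) ⁻¹ᵁ V)
      rw [← Scheme.Hom.comp_preimage, hπsnd]
      exact hxV
    have hg' : IsGen ((pb qX).obj L₀) (B ⊓ O)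
        (rs _ (inf_le_right : B ⊓ O ≤ O) (rs _ hOW m)) := by
      rw [rs_rs, ← rs_rs _ hB (inf_le_left : B ⊓ O ≤ B)]
      exact hg.res inf_le_left
    obtain ⟨s, hs⟩ := exists_hom_of_gen (inf_le_right : B ⊓ O ≤ O) (rs _ hOW m) hg'
    haveI : CompactSpace ((opensDiagram DX a T).obj (Over.mk (𝟙 a))) := by
      have : IsCompact ((DX.map (𝟙 a) ⁻¹ᵁ T : (DX.obj a).Opens) : Set (DX.obj a)) := by
        rw [DX.map_id]
        exact QuasiCompact.isCompact_preimage (f := pullback.snd f₀ (D.map a.hom)) _ V.2 hV.isCompact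
      exact isCompact_iff_compactSpace.1 this
    haveI : QuasiSeparatedSpace ((opensDiagram DX a T).obj (Over.mk (𝟙 a))) :=
      show QuasiSeparatedSpace ((DX.map (𝟙 a) ⁻¹ᵁ T : (DX.obj a).Opens) : Scheme.{u}) from
        quasiSeparatedSpace_of_quasiSeparated (DX.map (𝟙 a) ⁻¹ᵁ T).ι
    let c' := opensCone DX cX a T
    have hc' : IsLimit c' := isLimitOpensCone DX cX hcX a T
    let D' := opensDiagram DX a T
    haveI : ∀ {b d : Over a} (g : b ⟶ d), IsAffineHom (D'.map g) := fun g => inferInstance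
    let T₁ : (DX.obj a).Opens := DX.map (𝟙 a) ⁻¹ᵁ T
    let p₁ : (T₁ : Scheme.{u}) ⟶ X₀ := T₁.ι ≫ pullback.fst f₀ (D.map a.hom)
    let M : (T₁ : Scheme.{u}).Modules := (pb p₁).obj L₀
    let e₁ : (pb (c'.π.app (Over.mk (𝟙 a)))).obj M ≅ (pb O.ι).obj ((pb qX).obj L₀) :=
      (Scheme.Modules.pullbackComp _ p₁).app L₀ ≪≫
        (Scheme.Modules.pullbackCongr (show c'.π.app (Over.mk (𝟙 a)) ≫ p₁ = O.ι ≫ qX from by
          simp only [c', p₁, opensCone_π_app, T₁]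
          erw [Scheme.Hom.resLE_comp_ι_assoc]
          exact congrArg (O.ι ≫ ·) hπfst)).app L₀ ≪≫
        ((Scheme.Modules.pullbackComp O.ι qX).app L₀).symm
    obtain ⟨j, ψ, sj, hsj⟩ := SectionStage.exists_section_stage D' c' hc' (Over.mk (𝟙 a)) M
      (PicLoc.isInvertible_pullback _ hL₀) (s ≫ e₁.symm.hom)
    rw [genLocus_comp_iso] at hsj
    let Tj : (DX.obj j.left).Opens := DX.map j.hom ⁻¹ᵁ T
    refine ⟨j.left, ?_⟩
    have hz : c'.π.app j ⟨x, hxO⟩ ∈ CohB1.genLocus _ sj := by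
      show (⟨x, hxO⟩ : (O : Scheme.{u})) ∈ c'.π.app j ⁻¹ᵁ CohB1.genLocus _ sj
      rw [hsj]
      exact hs (show x ∈ B ⊓ O from ⟨hxB, hxO⟩)
    let ej : (pb (D'.map ψ)).obj M ≅
        (pb Tj.ι).obj ((pb (pullback.fst f₀ (D.map j.left.hom))).obj L₀) :=
      (Scheme.Modules.pullbackComp _ p₁).app L₀ ≪≫
        (Scheme.Modules.pullbackCongr (show D'.map ψ ≫ p₁ = Tj.ι ≫ pullback.fst f₀ (D.map j.left.hom) from by
          simp only [D', p₁, opensDiagram_map, T₁]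
          erw [Scheme.Hom.resLE_comp_ι_assoc]
          erw [bcDiagram_map_fst])).app L₀ ≪≫
        ((Scheme.Modules.pullbackComp Tj.ι _).app L₀).symm
    have hTj : Tj = pullback.snd f₀ (D.map j.left.hom) ⁻¹ᵁ (D.map j.hom.left ⁻¹ᵁ V) := by
      show DX.map j.hom ⁻¹ᵁ (pullback.snd f₀ (D.map a.hom) ⁻¹ᵁ V) = _
      rw [← Scheme.Hom.comp_preimage, ← Scheme.Hom.comp_preimage]
      exact congrArg (· ⁻¹ᵁ V) (bcDiagram_map_snd D f₀ j.hom)
    have hres := genRel_of_hom hTj (PicLoc.isInvertible_pullback _ hL₀) (sj ≫ ej.hom)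
      (z := c'.π.app j ⟨x, hxO⟩) (by rw [genLocus_comp_iso]; exact hz)
    let cj : (O : Scheme.{u}) ⟶ (Tj : Scheme.{u}) := c'.π.app j
    have hcj : cj ≫ Tj.ι = O.ι ≫ πX j.left := by
      simp only [cj, c', opensCone_π_app]
      erw [Scheme.Hom.resLE_comp_ι]
    have hval : Tj.ι (cj ⟨x, hxO⟩) = πX j.left x := by
      rw [← Scheme.Hom.comp_apply, hcj, Scheme.Hom.comp_apply]
      rfl
    show GenRel _ _ (πX j.left x)
    rw [← hval]
    exact hres
  choose a ha using hpt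
  haveI : CompactSpace X := Lib.Lim.Basic.compactSpace_pt hcX (Over.mk (𝟙 i₀))
  obtain ⟨S, hS⟩ := (isCompact_univ (X := X)).elim_finite_subcover
    (fun x : X => (πX (a x) ⁻¹ᵁ G (a x) : Set X)) (fun x => (πX (a x) ⁻¹ᵁ G (a x)).isOpen)
    (fun x _ => Set.mem_iUnion.2 ⟨x, ha x⟩)
  obtain ⟨k, hk⟩ := IsCofiltered.inf_objs_exists (S.image a)
  have htop : πX k ⁻¹ᵁ G k = ⊤ := by
    refine top_le_iff.1 fun z _ => ?_
    obtain ⟨x, hx, hzx⟩ := Set.mem_iUnion₂.1 (hS (Set.mem_univ z))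
    obtain ⟨g⟩ := hk (Finset.mem_image_of_mem a hx)
    refine hG g ?_
    show DX.map g (πX k z) ∈ G (a x)
    rw [← Scheme.Hom.comp_apply, hπX]
    exact hzx
  obtain ⟨l, g, hl⟩ := exists_map_eq_top DX cX hcX (G k) htop
  exact ⟨l.left, l.hom, fun z => hG g (hl ▸ trivial)⟩

end Limit

end Groth.Agent.H69.CounitStage
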