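import Groth.Agent.Lib.Lim.Descend
import Groth.Agent.Lib.Lim.OpenImm

/-!
# Properties holding near a point descend to a stage
-/

set_option autoImplicit false
set_option backward.isDefEq.respectTransparency false
set_option linter.unusedVariables false

universe u

open CategoryTheory CategoryTheory.Limits AlgebraicGeometry
open Groth.Agent.Lib.Lim.Basic Groth.Agent.Lib.Lim.Descend

namespace Groth.Agent.H69.NhdStage

/-- Restriction of a cartesian square to opens. -/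
lemma isPullback_resLE {X X' Y Y' : Scheme.{u}} {f : X ⟶ Y} {f' : X' ⟶ Y'} {t : X' ⟶ X}
    {b : Y' ⟶ Y} (h : IsPullback t f' f b) (A : X.Opens) (B : Y.Opens) (e : A ≤ f ⁻¹ᵁ B)
    (e' : t ⁻¹ᵁ A ≤ f' ⁻¹ᵁ (b ⁻¹ᵁ B)) :
    IsPullback (t ∣_ A) (f'.resLE (b ⁻¹ᵁ B) (t ⁻¹ᵁ A) e') (f.resLE B A e) (b ∣_ B) := by
  refine IsPullback.of_bot ?_ ?_ (isPullback_morphismRestrict b B)
  · rw [Scheme.Hom.resLE_comp_ι, Scheme.Hom.resLE_comp_ι]
    exact (isPullback_morphismRestrict t A).paste_vert h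
  · rw [← cancel_mono B.ι, Category.assoc, Category.assoc, Scheme.Hom.resLE_comp_ι,
      morphismRestrict_ι, morphismRestrict_ι_assoc, Scheme.Hom.resLE_comp_ι_assoc, h.w]

variable {I : Type u} [SmallCategory I] [IsCofiltered I]
  (D : I ⥤ Scheme.{u}) (c : Cone D) (i₀ : I) {X₀ Y₀ : Scheme.{u}} (f₀ : X₀ ⟶ Y₀)
  (g₀ : Y₀ ⟶ D.obj i₀)

/-- The base change of `f₀` to a stage, on the standard models. -/
noncomputable def stageHom (j : Over i₀) :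
    pullback (f₀ ≫ g₀) (D.map j.hom) ⟶ pullback g₀ (D.map j.hom) :=
  pullback.lift (pullback.fst _ _ ≫ f₀) (pullback.snd _ _)
    (by rw [Category.assoc]; exact pullback.condition)

lemma isPullback_stageHom (j : Over i₀) :
    IsPullback (pullback.fst (f₀ ≫ g₀) (D.map j.hom)) (stageHom D i₀ f₀ g₀ j) f₀
      (pullback.fst g₀ (D.map j.hom)) := by
  refine IsPullback.of_bot ?_ ?_ (IsPullback.of_hasPullback g₀ (D.map j.hom))
  · rw [stageHom, pullback.lift_snd]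
    exact IsPullback.of_hasPullback _ _
  · rw [stageHom, pullback.lift_fst]

lemma isPullback_trans {j k : Over i₀} (ψ : k ⟶ j) :
    IsPullback ((bcDiagram D (f₀ ≫ g₀)).map ψ) (stageHom D i₀ f₀ g₀ k) (stageHom D i₀ f₀ g₀ j)
      ((bcDiagram D g₀).map ψ) := by
  refine IsPullback.of_right ?_ ?_ (isPullback_stageHom D i₀ f₀ g₀ j)
  · have h1 := bcDiagram_map_fst D (f₀ ≫ g₀) ψ
    have h2 := bcDiagram_map_fst D g₀ ψ
    exact h1.symm ▸ h2.symm ▸ isPullback_stageHom D i₀ f₀ g₀ k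
  · refine pullback.hom_ext ?_ ?_
    · refine (Category.assoc _ _ _).trans ?_
      refine Eq.trans ?_ (Category.assoc _ _ _).symm
      rw [stageHom, pullback.lift_fst]
      refine ((Category.assoc _ _ _).symm.trans
        (congrArg (· ≫ f₀) (bcDiagram_map_fst D (f₀ ≫ g₀) ψ))).trans ?_
      refine Eq.trans ?_ (congrArg (stageHom D i₀ f₀ g₀ k ≫ ·) (bcDiagram_map_fst D g₀ ψ)).symm
      rw [stageHom, pullback.lift_fst]
    · refine (Category.assoc _ _ _).trans ?_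
      refine Eq.trans ?_ (Category.assoc _ _ _).symm
      rw [stageHom, pullback.lift_snd]
      refine (bcDiagram_map_snd D (f₀ ≫ g₀) ψ).trans ?_
      refine Eq.trans ?_ (congrArg (stageHom D i₀ f₀ g₀ k ≫ ·) (bcDiagram_map_snd D g₀ ψ)).symm
      rw [stageHom, pullback.lift_snd_assoc]

variable {D c i₀ f₀ g₀} {X Y : Scheme.{u}} {f : X ⟶ Y} {g : Y ⟶ c.pt} {qY : Y ⟶ Y₀}
  {qX : X ⟶ X₀} (hY : IsPullback qY g g₀ (c.π.app i₀)) (hX : IsPullback qX f f₀ qY)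

include hY hX

lemma isPullback_limit (hXS : IsPullback qX (f ≫ g) (f₀ ≫ g₀) (c.π.app i₀)) (j : Over i₀) :
    IsPullback ((bcCone hXS.w).π.app j) f (stageHom D i₀ f₀ g₀ j) ((bcCone hY.w).π.app j) := by
  refine IsPullback.of_right ?_ ?_ (isPullback_stageHom D i₀ f₀ g₀ j)
  · exact (bcCone_π_fst hXS.w j).symm ▸ (bcCone_π_fst hY.w j).symm ▸ hX
  · refine pullback.hom_ext ?_ ?_
    · refine (Category.assoc _ _ _).trans ?_
      refine Eq.trans ?_ (Category.assoc _ _ _).symm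
      rw [stageHom, pullback.lift_fst]
      refine ((Category.assoc _ _ _).symm.trans (congrArg (· ≫ f₀) (bcCone_π_fst hXS.w j))).trans ?_
      exact hX.w.trans (congrArg (f ≫ ·) (bcCone_π_fst hY.w j)).symm
    · refine (Category.assoc _ _ _).trans ?_
      refine Eq.trans ?_ (Category.assoc _ _ _).symm
      rw [stageHom, pullback.lift_snd]
      refine (bcCone_π_snd hXS.w j).trans ?_
      exact (Category.assoc _ _ _).trans (congrArg (f ≫ ·) (bcCone_π_snd hY.w j)).symm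

variable [∀ (i j : I) (f : i ⟶ j), IsAffineHom (D.map f)] [LocallyOfFiniteType g₀]
  [LocallyOfFinitePresentation (f₀ ≫ g₀)]

/-- A property holds near a point of the limit iff it holds near its image at some stage. -/
theorem nhd_iff_stage (hc : IsLimit c) (P : MorphismProperty Scheme.{u})
    [P.IsStableUnderBaseChange] [P.IsStableUnderComposition]
    (hP : ∀ ⦃A B : Scheme.{u}⦄ (a : A ⟶ B) [IsOpenImmersion a], P a)
    (H : Descends P @LocallyOfFinitePresentation) (x : X) :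
    (∃ U : X.Opens, x ∈ U ∧ P (U.ι ≫ f)) ↔
      ∃ (j : I) (φ : j ⟶ i₀) (Xj Yj : Scheme.{u}) (fj : Xj ⟶ Yj) (gj : Yj ⟶ D.obj j) (pY : Yj ⟶ Y₀)
        (pX : Xj ⟶ X₀) (rX : X ⟶ Xj), IsPullback pY gj g₀ (D.map φ) ∧ IsPullback pX fj f₀ pY ∧
          rX ≫ pX = qX ∧ rX ≫ fj ≫ gj = f ≫ g ≫ c.π.app j ∧
          ∃ V : Xj.Opens, rX x ∈ V ∧ P (V.ι ≫ fj) := by
  constructor
  swap
  · rintro ⟨j, φ, Xj, Yj, fj, gj, pY, pX, rX, h1, h2, h3, h4, V, hxV, hV⟩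
    let rY : Y ⟶ Yj := h1.lift qY (g ≫ c.π.app j) (by rw [Category.assoc, c.w, hY.w])
    have sq : IsPullback rX f fj rY := by
      refine IsPullback.of_right ?_ ?_ h2
      · rw [h3, show rY ≫ pY = qY from h1.lift_fst _ _ _]; exact hX
      · refine h1.hom_ext ?_ ?_
        · rw [Category.assoc, ← h2.w, reassoc_of% h3, hX.w, Category.assoc, h1.lift_fst]
        · rw [Category.assoc, h4, Category.assoc, h1.lift_snd]
    exact ⟨rX ⁻¹ᵁ V, hxV, P.of_isPullback ((isPullback_morphismRestrict rX V).paste_vert sq) hV⟩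
  rintro ⟨U, hxU, hU⟩
  have hA : ∀ {i j : I} (g : i ⟶ j), IsAffineHom (D.map g) := fun g => inferInstance
  have hXS : IsPullback qX (f ≫ g) (f₀ ≫ g₀) (c.π.app i₀) := hX.paste_vert hY
  have : LocallyOfFinitePresentation f₀ := Lib.Lim.OpenImm.lfp_of_comp f₀ g₀
  -- affine pieces of the given stage
  obtain ⟨_, ⟨V₀, hV₀, rfl⟩, hxV₀, -⟩ :=
    Y₀.isBasis_affineOpens.exists_subset_of_mem_open (Set.mem_univ (f₀ (qX x))) isOpen_univ
  obtain ⟨_, ⟨U₀, hU₀, rfl⟩, hxU₀, hUV₀ : U₀ ≤ f₀ ⁻¹ᵁ V₀⟩ :=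
    X₀.isBasis_affineOpens.exists_subset_of_mem_open (show qX x ∈ f₀ ⁻¹ᵁ V₀ from hxV₀)
      (f₀ ⁻¹ᵁ V₀).2
  let o : Over i₀ := Over.mk (𝟙 i₀)
  let A₁ : ((bcDiagram D (f₀ ≫ g₀)).obj o).Opens := pullback.fst (f₀ ≫ g₀) (D.map o.hom) ⁻¹ᵁ U₀
  have hA₁ : IsAffineOpen A₁ :=
    have := isAffineHom_fst D (f₀ ≫ g₀) o
    hU₀.preimage _
  have hxA₁ : (bcCone hXS.w).π.app o x ∈ A₁ := by
    have e : pullback.fst (f₀ ≫ g₀) (D.map o.hom) ((bcCone hXS.w).π.app o x) = qX x :=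
      congrArg (fun φ : X ⟶ X₀ => φ x) (bcCone_π_fst hXS.w o)
    exact (congrArg (· ∈ U₀) e).mpr hxU₀
  have hl := isLimitBcCone hc hXS
  let W : (opensCone (bcDiagram D (f₀ ≫ g₀)) (bcCone hXS.w) o A₁).pt.Opens :=
    ((bcCone hXS.w).π.app o ⁻¹ᵁ A₁).ι ⁻¹ᵁ U
  obtain ⟨_, ⟨jj, A', hA', rfl⟩, hxA', hA'W⟩ := TopologicalSpace.Opens.isBasis_iff_nbhd.mp
    (isBasis_preimage_isAffineOpen _ _ (isLimitOpensCone _ _ hl o A₁))
    (show (⟨x, hxA₁⟩ : ((bcCone hXS.w).π.app o ⁻¹ᵁ A₁)) ∈ W from hxU)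
  let j : Over i₀ := jj.left
  let A : ((bcDiagram D (f₀ ≫ g₀)).obj j).Opens :=
    ((bcDiagram D (f₀ ≫ g₀)).map jj.hom ⁻¹ᵁ A₁).ι ''ᵁ A'
  let B : ((bcDiagram D g₀).obj j).Opens := pullback.fst g₀ (D.map j.hom) ⁻¹ᵁ V₀
  have hAaff : IsAffineOpen A := hA'.image_of_isOpenImmersion _
  have hBaff : IsAffineOpen B :=
    have := isAffineHom_fst D g₀ j
    hV₀.preimage _
  have hAB : A ≤ stageHom D i₀ f₀ g₀ j ⁻¹ᵁ B := by
    rintro _ ⟨a, -, rfl⟩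
    show pullback.fst g₀ (D.map j.hom) (stageHom D i₀ f₀ g₀ j a.1) ∈ V₀
    rw [← Scheme.Hom.comp_apply, ← (isPullback_stageHom D i₀ f₀ g₀ j).w, Scheme.Hom.comp_apply]
    refine hUV₀ ?_
    have e : pullback.fst (f₀ ≫ g₀) (D.map j.hom) a.1 =
        pullback.fst (f₀ ≫ g₀) (D.map o.hom) ((bcDiagram D (f₀ ≫ g₀)).map jj.hom a.1) :=
      (congrArg (fun φ : _ ⟶ X₀ => φ a.1) (bcDiagram_map_fst D (f₀ ≫ g₀) jj.hom)).symm
    exact (congrArg (· ∈ U₀) e).mpr a.2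
  let rXj : X ⟶ (bcDiagram D (f₀ ≫ g₀)).obj j := (bcCone hXS.w).π.app j
  let rYj : Y ⟶ (bcDiagram D g₀).obj j := (bcCone hY.w).π.app j
  have hsq : IsPullback rXj f (stageHom D i₀ f₀ g₀ j) rYj := isPullback_limit hY hX hXS j
  have hxA : rXj x ∈ A :=
    ⟨_, hxA', congrArg Subtype.val rfl |>.trans (Scheme.Hom.coe_resLE_apply _ _ _)⟩
  have hAU : rXj ⁻¹ᵁ A ≤ U := by
    rintro w ⟨a, ha, haw⟩
    have hw : w ∈ (bcCone hXS.w).π.app o ⁻¹ᵁ A₁ := by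
      show (bcCone hXS.w).π.app o w ∈ A₁
      rw [← (bcCone hXS.w).w jj.hom, Scheme.Hom.comp_apply]
      exact (congrArg (fun z => (bcDiagram D (f₀ ≫ g₀)).map jj.hom z ∈ A₁) haw).mp a.2
    refine hA'W (x := (⟨w, hw⟩ : ((bcCone hXS.w).π.app o ⁻¹ᵁ A₁))) ?_
    show (opensCone (bcDiagram D (f₀ ≫ g₀)) (bcCone hXS.w) o A₁).π.app jj ⟨w, hw⟩ ∈ A'
    have : (opensCone (bcDiagram D (f₀ ≫ g₀)) (bcCone hXS.w) o A₁).π.app jj ⟨w, hw⟩ = a :=
      Subtype.ext ((Scheme.Hom.coe_resLE_apply _ _ _).trans haw.symm)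
    exact this ▸ ha
  have hcA : CompactSpace (A : Scheme.{u}) := isCompact_iff_compactSpace.mp hAaff.isCompact
  have hcB : CompactSpace (B : Scheme.{u}) := isCompact_iff_compactSpace.mp hBaff.isCompact
  have : IsAffine (A : Scheme.{u}) := hAaff
  have : IsAffine (B : Scheme.{u}) := hBaff
  have e' : rXj ⁻¹ᵁ A ≤ f ⁻¹ᵁ (rYj ⁻¹ᵁ B) := fun w hw => by
    show rYj (f w) ∈ B
    rw [← Scheme.Hom.comp_apply, ← hsq.w]
    exact hAB hw
  have hres := isPullback_resLE hsq A B hAB e'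
  have hPres : P (f.resLE (rYj ⁻¹ᵁ B) (rXj ⁻¹ᵁ A) e') := by
    have h1 : P ((rXj ⁻¹ᵁ A).ι ≫ f) := by
      rw [← Scheme.homOfLE_ι _ hAU, Category.assoc]
      exact P.comp_mem _ _ (hP _) hU
    refine P.of_isPullback (IsPullback.of_horiz_isIso_mono (fst := 𝟙 _) (g := (rYj ⁻¹ᵁ B).ι) ?_) h1
    exact ⟨by rw [Category.id_comp]; exact (Scheme.Hom.resLE_comp_ι _ _).symm⟩
  have hflp : LocallyOfFinitePresentation (stageHom D i₀ f₀ g₀ j) :=
    MorphismProperty.of_isPullback (isPullback_stageHom D i₀ f₀ g₀ j) inferInstance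
  have : LocallyOfFinitePresentation ((stageHom D i₀ f₀ g₀ j).resLE B A hAB ≫ B.ι) := by
    rw [Scheme.Hom.resLE_comp_ι]; infer_instance
  have hQ : LocallyOfFinitePresentation ((stageHom D i₀ f₀ g₀ j).resLE B A hAB) :=
    Lib.Lim.OpenImm.lfp_of_comp _ B.ι
  have : MorphismProperty.RespectsIso (C := Scheme.{u}) @LocallyOfFinitePresentation :=
    MorphismProperty.IsStableUnderBaseChange.respectsIso
  obtain ⟨i, φ', Xi, Yi, fi, gi, pY, pX, h1, h2, h3⟩ := descend_over H D c hc j.left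
    ((stageHom D i₀ f₀ g₀ j).resLE B A hAB) (B.ι ≫ pullback.snd g₀ (D.map j.hom))
    (f.resLE (rYj ⁻¹ᵁ B) (rXj ⁻¹ᵁ A) e') ((rYj ⁻¹ᵁ B).ι ≫ g) (rYj ∣_ B) (rXj ∣_ A)
    ((isPullback_morphismRestrict rYj B).paste_vert (isPullback_bcCone_π hY j)) hres hQ hPres
  let k : Over i₀ := Over.mk (φ' ≫ j.hom)
  let ψ : k ⟶ j := Over.homMk φ'
  let t := (bcDiagram D (f₀ ≫ g₀)).map ψ
  let b := (bcDiagram D g₀).map ψ
  have hk := isPullback_trans D i₀ f₀ g₀ ψ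
  have ek : t ⁻¹ᵁ A ≤ stageHom D i₀ f₀ g₀ k ⁻¹ᵁ (b ⁻¹ᵁ B) := fun w hw => by
    show b (stageHom D i₀ f₀ g₀ k w) ∈ B
    exact (congrArg (· ∈ B) (congrArg (fun φ : _ ⟶ (bcDiagram D g₀).obj j => φ w) hk.w)).mp (hAB hw)
  have hk' := isPullback_resLE hk A B hAB ek
  have hBk : IsPullback (b ∣_ B) ((b ⁻¹ᵁ B).ι ≫ pullback.snd g₀ (D.map k.hom))
      (B.ι ≫ pullback.snd g₀ (D.map j.hom)) (D.map φ') :=
    (isPullback_morphismRestrict b B).paste_vert (isPullback_bcDiagram_map D g₀ ψ)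
  let e : ((b ⁻¹ᵁ B : Scheme.Opens _) : Scheme.{u}) ⟶ Yi := h1.lift (b ∣_ B) _ hBk.w
  have he : e ≫ pY = b ∣_ B := h1.lift_fst _ _ _
  have hPk : P ((stageHom D i₀ f₀ g₀ k).resLE (b ⁻¹ᵁ B) (t ⁻¹ᵁ A) ek) :=
    P.of_isPullback (IsPullback.of_right
      (show IsPullback (h2.lift (t ∣_ A) ((stageHom D i₀ f₀ g₀ k).resLE (b ⁻¹ᵁ B) (t ⁻¹ᵁ A) ek ≫ e)
          (by rw [Category.assoc, he]; exact hk'.w) ≫ pX)
        ((stageHom D i₀ f₀ g₀ k).resLE (b ⁻¹ᵁ B) (t ⁻¹ᵁ A) ek)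
        ((stageHom D i₀ f₀ g₀ j).resLE B A hAB) (e ≫ pY) by
          rw [h2.lift_fst, he]; exact hk')
      (h2.lift_snd _ _ _) h2) h3
  refine ⟨k.left, k.hom, _, _, stageHom D i₀ f₀ g₀ k, pullback.snd _ _, pullback.fst _ _,
    pullback.fst _ _, (bcCone hXS.w).π.app k, IsPullback.of_hasPullback _ _,
    isPullback_stageHom D i₀ f₀ g₀ k, bcCone_π_fst hXS.w k, ?_, t ⁻¹ᵁ A, ?_, ?_⟩
  · rw [stageHom, pullback.lift_snd]
    exact (bcCone_π_snd hXS.w k).trans (Category.assoc _ _ _)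
  · show t ((bcCone hXS.w).π.app k x) ∈ A
    have e'' : t ((bcCone hXS.w).π.app k x) = rXj x :=
      congrArg (fun φ : X ⟶ _ => φ x) ((bcCone hXS.w).w ψ)
    exact (congrArg (· ∈ A) e'').mpr hxA
  · rw [← Scheme.Hom.resLE_comp_ι (e := ek)]
    exact P.comp_mem _ _ hPk (hP _)

end Groth.Agent.H69.NhdStage
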