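import Groth.Prelude.Def_ActBC
import Groth.Prelude.Def_NonAbH2

/-!
Laws of an action read after a monoidal base change, and transported along isomorphisms.
-/

set_option autoImplicit false
set_option backward.isDefEq.respectTransparency false
set_option backward.isDefEq.respectTransparency.types false
set_option linter.style.haveILetI false

universe u

open CategoryTheory CategoryTheory.Limits MonoidalCategory CartesianMonoidalCategory MonObj AlgebraicGeometry

namespace Groth.Agent.H69.ActModel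

variable {S S' : Scheme.{u}}

/-- The unit law. -/
def One {G X : Over S} [GrpObj G] (act : G ⊗ X ⟶ X) : Prop := (η[G] ▷ X) ≫ act = (λ_ X).hom

/-- The multiplication law. -/
def Mul {G X : Over S} [GrpObj G] (act : G ⊗ X ⟶ X) : Prop :=
  (μ[G] ▷ X) ≫ act = (α_ G G X).hom ≫ (G ◁ act) ≫ act

section Transport

variable {G₁ G₂ X₁ X₂ : Over S} [GrpObj G₁] [GrpObj G₂] (u : G₁ ⟶ G₂) [IsMonHom u] (v : X₁ ≅ X₂)
  {act₁ : G₁ ⊗ X₁ ⟶ X₁} {act₂ : G₂ ⊗ X₂ ⟶ X₂}

theorem one_of_transport (h : act₁ ≫ v.hom = (u ⊗ₘ v.hom) ≫ act₂) (h₂ : One act₂) : One act₁ := by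
  unfold One at *
  rw [← cancel_mono v.hom, Category.assoc, h, ← Category.assoc,
    show (η[G₁] ▷ X₁) ≫ (u ⊗ₘ v.hom) = ((𝟙_ (Over S)) ◁ v.hom) ≫ (η[G₂] ▷ X₂) by
      rw [MonoidalCategory.tensorHom_def, ← Category.assoc, ← comp_whiskerRight, IsMonHom.one_hom,
        ← MonoidalCategory.tensorHom_def, MonoidalCategory.tensorHom_def'],
    Category.assoc, h₂, leftUnitor_naturality]

theorem mul_of_transport (h : act₁ ≫ v.hom = (u ⊗ₘ v.hom) ≫ act₂) (h₂ : Mul act₂) : Mul act₁ := by
  unfold Mul at *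
  rw [← cancel_mono v.hom, Category.assoc, h, ← Category.assoc,
    show (μ[G₁] ▷ X₁) ≫ (u ⊗ₘ v.hom) = ((u ⊗ₘ u) ⊗ₘ v.hom) ≫ (μ[G₂] ▷ X₂) by
      rw [← tensorHom_id, ← tensorHom_id, tensorHom_comp_tensorHom, tensorHom_comp_tensorHom,
        IsMonHom.mul_hom, Category.id_comp, Category.comp_id],
    Category.assoc, h₂, associator_naturality_assoc]
  simp only [Category.assoc, h]
  rw [← id_tensorHom, ← id_tensorHom, tensorHom_comp_tensorHom_assoc, tensorHom_comp_tensorHom_assoc,
    Category.id_comp, Category.comp_id, h]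

theorem shear_of_transport [IsIso u] (h : act₁ ≫ v.hom = (u ⊗ₘ v.hom) ≫ act₂)
    (h₂ : IsIso (lift act₂ (snd G₂ X₂))) : IsIso (lift act₁ (snd G₁ X₁)) := by
  have key : lift act₁ (snd G₁ X₁) ≫ (v.hom ⊗ₘ v.hom) = (u ⊗ₘ v.hom) ≫ lift act₂ (snd G₂ X₂) := by
    rw [lift_map, comp_lift, tensorHom_snd, h]
  have : IsIso (lift act₁ (snd G₁ X₁) ≫ (v.hom ⊗ₘ v.hom)) := by rw [key]; infer_instance
  exact IsIso.of_isIso_comp_right _ (v.hom ⊗ₘ v.hom)

end Transport

section BaseChange

variable (f : S' ⟶ S) {G X : Over S} [GrpObj G] (act : G ⊗ X ⟶ X)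

/-- The action morphism after base change. -/
noncomputable def bcAct : Red.bc f G ⊗ Red.bc f X ⟶ Red.bc f X :=
  Functor.LaxMonoidal.μ (Over.pullback f) G X ≫ (Over.pullback f).map act

theorem map_one_iff : (Over.pullback f).map ((η[G] ▷ X) ≫ act) = (Over.pullback f).map (λ_ X).hom ↔
    One (bcAct f act) := by
  unfold One bcAct
  have e1 : (η[Red.bc f G] ▷ Red.bc f X) ≫ Functor.LaxMonoidal.μ (Over.pullback f) G X ≫ (Over.pullback f).map act =
      (Functor.LaxMonoidal.ε (Over.pullback f) ▷ Red.bc f X) ≫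
        Functor.LaxMonoidal.μ (Over.pullback f) (𝟙_ _) X ≫ (Over.pullback f).map ((η[G] ▷ X) ≫ act) := by
    rw [Functor.obj.η_def, comp_whiskerRight, Category.assoc, Functor.LaxMonoidal.μ_natural_left_assoc,
      ← Functor.map_comp]
  have e2 : (λ_ (Red.bc f X)).hom = (Functor.LaxMonoidal.ε (Over.pullback f) ▷ Red.bc f X) ≫
        Functor.LaxMonoidal.μ (Over.pullback f) (𝟙_ _) X ≫ (Over.pullback f).map (λ_ X).hom :=
    Functor.LaxMonoidal.left_unitality (Over.pullback f) X
  rw [e1, e2, cancel_epi, cancel_epi]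

theorem map_mul_iff :
    (Over.pullback f).map ((μ[G] ▷ X) ≫ act) = (Over.pullback f).map ((α_ G G X).hom ≫ (G ◁ act) ≫ act) ↔
      Mul (bcAct f act) := by
  unfold Mul bcAct
  have e1 : (μ[Red.bc f G] ▷ Red.bc f X) ≫ Functor.LaxMonoidal.μ (Over.pullback f) G X ≫ (Over.pullback f).map act =
      (Functor.LaxMonoidal.μ (Over.pullback f) G G ▷ Red.bc f X) ≫
        Functor.LaxMonoidal.μ (Over.pullback f) (G ⊗ G) X ≫ (Over.pullback f).map ((μ[G] ▷ X) ≫ act) := by
    rw [Functor.obj.μ_def, comp_whiskerRight, Category.assoc, Functor.LaxMonoidal.μ_natural_left_assoc,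
      ← Functor.map_comp]
  have e2 : (α_ (Red.bc f G) (Red.bc f G) (Red.bc f X)).hom ≫
      (Red.bc f G ◁ (Functor.LaxMonoidal.μ (Over.pullback f) G X ≫ (Over.pullback f).map act)) ≫
        Functor.LaxMonoidal.μ (Over.pullback f) G X ≫ (Over.pullback f).map act =
      (Functor.LaxMonoidal.μ (Over.pullback f) G G ▷ Red.bc f X) ≫
        Functor.LaxMonoidal.μ (Over.pullback f) (G ⊗ G) X ≫
          (Over.pullback f).map ((α_ G G X).hom ≫ (G ◁ act) ≫ act) := by
    rw [Functor.map_comp, Functor.map_comp, Functor.LaxMonoidal.associativity_assoc,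
      ← Functor.LaxMonoidal.μ_natural_right_assoc, MonoidalCategory.whiskerLeft_comp, Category.assoc]
  rw [e1, e2, cancel_epi, cancel_epi]

theorem map_shear :
    lift (bcAct f act) (snd _ _) ≫ Functor.LaxMonoidal.μ (Over.pullback f) X X =
      Functor.LaxMonoidal.μ (Over.pullback f) G X ≫ (Over.pullback f).map (lift act (snd G X)) := by
  rw [bcAct, ← Functor.Monoidal.lift_μ, comp_lift_assoc, Functor.Monoidal.μ_snd]

theorem map_shear_iff : IsIso ((Over.pullback f).map (lift act (snd G X))) ↔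
    IsIso (lift (bcAct f act) (snd _ _)) := by
  constructor
  · intro h
    have : IsIso (lift (bcAct f act) (snd _ _) ≫ Functor.LaxMonoidal.μ (Over.pullback f) X X) := by
      rw [map_shear]; infer_instance
    exact IsIso.of_isIso_comp_right _ (Functor.LaxMonoidal.μ (Over.pullback f) X X)
  · intro h
    have : IsIso (Functor.LaxMonoidal.μ (Over.pullback f) G X ≫ (Over.pullback f).map (lift act (snd G X))) := by
      rw [← map_shear]; infer_instance
    exact IsIso.of_isIso_comp_left (Functor.LaxMonoidal.μ (Over.pullback f) G X) _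

end BaseChange

/-- Coherence of the identifications of iterated base changes with products. -/
theorem μ_comp {S'' : Scheme.{u}} (f : S'' ⟶ S') (g : S' ⟶ S) {d : S'' ⟶ S} (h : f ≫ g = d) (A B : Over S) :
    Functor.LaxMonoidal.μ (Over.pullback f) (Red.bc g A) (Red.bc g B) ≫
        (Over.pullback f).map (Functor.LaxMonoidal.μ (Over.pullback g) A B) ≫ (ActBC.bcCompIso f g (A ⊗ B) h).hom =
      ((ActBC.bcCompIso f g A h).hom ⊗ₘ (ActBC.bcCompIso f g B h).hom) ≫
        Functor.LaxMonoidal.μ (Over.pullback d) A B := by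
  ext
  apply pullback.hom_ext
  · simp only [Over.comp_left, Category.assoc, ActBC.bcCompIso_hom_left_fst, ActBC.pullback_map_left_fst,
      ActBC.pullback_map_left_fst_assoc]
    apply pullback.hom_ext
    · simp only [Category.assoc]
      rw [ActBC.μ_left_fst_fst, ActBC.μ_left_fst_fst_assoc, ActBC.μ_left_fst_fst, ActBC.tensorHom_left_fst'_assoc,
        ActBC.bcCompIso_hom_left_fst]
    · simp only [Category.assoc]
      rw [ActBC.μ_left_fst_snd, ActBC.μ_left_fst_snd_assoc, ActBC.μ_left_fst_snd, ActBC.tensorHom_left_snd'_assoc,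
        ActBC.bcCompIso_hom_left_fst]
  · exact (Over.w _).trans (Over.w _).symm

/-- The comparison of iterated base changes is compatible with a third step. -/
theorem comp_assoc {A B C : Scheme.{u}} (π : A ⟶ B) (φ : B ⟶ C) (g : C ⟶ S) {π' : A ⟶ C} {sB : B ⟶ S}
    {s : A ⟶ S} (X : Over S) (h₁ : π ≫ φ = π') (h₂ : φ ≫ g = sB) (h₃ : π' ≫ g = s) (h₄ : π ≫ sB = s) :
    (Over.pullback π).map (ActBC.bcCompIso φ g X h₂).inv ≫ (ActBC.bcCompIso π φ (Red.bc g X) h₁).hom ≫
        (ActBC.bcCompIso π' g X h₃).hom = (ActBC.bcCompIso π sB X h₄).hom := by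
  rw [← cancel_epi ((Over.pullback π).map (ActBC.bcCompIso φ g X h₂).hom), ← Functor.map_comp_assoc,
    Iso.hom_inv_id, CategoryTheory.Functor.map_id, Category.id_comp]
  ext
  apply pullback.hom_ext
  · simp only [Over.comp_left, Category.assoc, ActBC.bcCompIso_hom_left_fst, ActBC.bcCompIso_hom_left_fst_assoc,
      ActBC.pullback_map_left_fst_assoc]
  · exact (Over.w _).trans (Over.w _).symm

end Groth.Agent.H69.ActModel
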