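import Mathlib.AlgebraicGeometry.AffineTransitionLimit
import Mathlib.AlgebraicGeometry.Noetherian
import Mathlib.Topology.Constructible

/-!
# A constructible subset of a Noetherian stage missing the limit misses a later stage
-/

universe u

open CategoryTheory CategoryTheory.Limits AlgebraicGeometry TopologicalSpace Topology

namespace Groth.Agent.H69.ConsStage

theorem exists_preimage_eq_empty {I : Type u} [SmallCategory I] [IsCofiltered I]
    (D : I ⥤ Scheme.{u}) (c : Cone D) (hc : IsLimit c)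
    [∀ {i j : I} (f : i ⟶ j), IsAffineHom (D.map f)] (i : I) [NoetherianSpace (D.obj i)]
    {s : Set (D.obj i)} (hs : IsConstructible s) (h : c.π.app i ⁻¹' s = ∅) :
    ∃ (j : I) (f : j ⟶ i), D.map f ⁻¹' s = ∅ := by
  revert h
  refine IsConstructible.induction_of_isTopologicalBasis
    (P := fun s _ => c.π.app i ⁻¹' s = ∅ → ∃ (j : I) (f : j ⟶ i), D.map f ⁻¹' s = ∅)
    (fun U : Opens (D.obj i) => (U : Set (D.obj i))) ?_ (fun U => NoetherianSpace.isCompact _) ?_ ?_ s hs
  · refine isTopologicalBasis_of_isOpen_of_nhds ?_ fun a U ha hU => ⟨U, ⟨⟨U, hU⟩, rfl⟩, ha, le_rfl⟩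
    rintro _ ⟨U, rfl⟩
    exact U.2
  · intro U t ht h
    let V : Opens (D.obj i) := ⟨⋃ j ∈ t, (j : Set (D.obj i)), isOpen_biUnion fun j _ => j.2⟩
    obtain ⟨j, f, hf⟩ := exists_map_preimage_le_map_preimage D c hc (U := U) (V := V)
      (NoetherianSpace.isCompact _) (fun z hz => by
        by_contra hzV
        exact (Set.eq_empty_iff_forall_notMem.mp h z) ⟨hz, hzV⟩)
    refine ⟨j, f, Set.eq_empty_iff_forall_notMem.mpr fun z hz => hz.2 (hf hz.1)⟩
  · intro s _ t _ ihs iht h
    rw [Set.preimage_union, Set.union_empty_iff] at h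
    obtain ⟨j₁, f₁, h₁⟩ := ihs h.1
    obtain ⟨j₂, f₂, h₂⟩ := iht h.2
    obtain ⟨k, g₁, g₂, e⟩ := IsCofiltered.cospan f₁ f₂
    refine ⟨k, g₁ ≫ f₁, Set.eq_empty_iff_forall_notMem.mpr ?_⟩
    rintro z (hz | hz)
    · rw [Functor.map_comp] at hz
      exact Set.eq_empty_iff_forall_notMem.mp h₁ (D.map g₁ z) hz
    · rw [e, Functor.map_comp] at hz
      exact Set.eq_empty_iff_forall_notMem.mp h₂ (D.map g₂ z) hz

end Groth.Agent.H69.ConsStage
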