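import Groth.Agent.Lib.Lim.FPDescend
import Groth.Agent.Lib.LimTop.Points

/-!
# Coverings of finite presentation descend along limits
-/

set_option autoImplicit false
set_option backward.isDefEq.respectTransparency false
set_option linter.unusedVariables false

universe u

open CategoryTheory CategoryTheory.Limits AlgebraicGeometry
open Groth.Agent.Lib.Lim Groth.Agent.Lib.Lim.Basic Groth.Agent.Lib.Lim.Descend

namespace Groth.Agent.H69.CoverDescend

variable {P : MorphismProperty Scheme.{u}} [P.IsStableUnderBaseChange]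

/-- A covering family descends, all stages qcqs. -/
theorem exists_descend_cover' (H : Descends P @LocallyOfFinitePresentation)
    (hlfp : ∀ ⦃X Y : Scheme.{u}⦄ (f : X ⟶ Y), P f → LocallyOfFinitePresentation f)
    (hopen : ∀ ⦃X Y : Scheme.{u}⦄ (f : X ⟶ Y), P f → IsOpenMap f.base)
    {I : Type u} [SmallCategory I] [IsCofiltered I]
    (D : I ⥤ Scheme.{u}) (c : Cone D) (hc : IsLimit c)
    [∀ (i j : I) (t : i ⟶ j), IsAffineHom (D.map t)] [∀ i, CompactSpace (D.obj i)]
    [∀ i, QuasiSeparatedSpace (D.obj i)]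
    {ι : Type u} (U : ι → Scheme.{u}) (u : ∀ a, U a ⟶ c.pt) (hu : ∀ a, P (u a))
    [∀ a, QuasiCompact (u a)] [∀ a, QuasiSeparated (u a)]
    (hcov : ∀ x : c.pt, ∃ (a : ι) (y : U a), (u a).base y = x) :
    ∃ (i : I) (n : ℕ) (V : Fin n → Scheme.{u}) (v : ∀ j, V j ⟶ D.obj i) (a : Fin n → ι)
      (e : ∀ j, U (a j) ⟶ V j),
      (∀ j, P (v j) ∧ QuasiCompact (v j) ∧ QuasiSeparated (v j)) ∧
      (∀ x : D.obj i, ∃ (j : Fin n) (y : V j), (v j).base y = x) ∧
      ∀ j, IsPullback (e j) (u (a j)) (v j) (c.π.app i) := by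
  classical
  have hA : ∀ {i j : I} (g : i ⟶ j), IsAffineHom (D.map g) := fun g => inferInstance
  obtain ⟨i₁⟩ := IsCofiltered.nonempty (C := I)
  have : CompactSpace c.pt := compactSpace_pt hc i₁
  have : QuasiSeparatedSpace c.pt := quasiSeparatedSpace_pt hc i₁
  obtain ⟨T, hT⟩ := isCompact_univ.elim_finite_subcover (fun a => Set.range (u a).base)
    (fun a => (hopen _ (hu a)).isOpen_range) (fun x _ => by
      obtain ⟨a, y, h⟩ := hcov x
      exact Set.mem_iUnion.mpr ⟨a, y, h⟩)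
  let a : Fin T.card → ι := fun m => (T.equivFin.symm m).1
  have hdesc : ∀ m, ∃ (i : I) (Xi : Scheme.{u}) (fi : Xi ⟶ D.obj i) (g : U (a m) ⟶ Xi),
      (CompactSpace Xi ∧ QuasiSeparatedSpace Xi) ∧ P fi ∧ IsPullback g (u (a m)) fi (c.π.app i) := by
    intro m
    have := hlfp _ (hu (a m))
    have : CompactSpace (U (a m)) := QuasiCompact.compactSpace_of_compactSpace (u (a m))
    have : QuasiSeparatedSpace (U (a m)) := quasiSeparatedSpace_of_quasiSeparated (u (a m))
    obtain ⟨i, Xi, fi, g, hXc, hXq, hfi, hpb⟩ := FPDescend.exists_descent hc (u (a m))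
    obtain ⟨j, φ, hφ⟩ := H D c hc (fun _ _ _ => inferInstance) i inferInstance inferInstance fi
      hXc hXq hfi (u (a m)) g hpb (hu (a m))
    exact ⟨j, _, pullback.snd fi (D.map φ), _, ⟨FPDescend.compactSpace_stage fi φ,
      FPDescend.quasiSeparatedSpace_stage fi φ⟩, hφ, FPDescend.move hpb φ⟩
  choose i X fX g hXcq hP hpb using hdesc
  obtain ⟨k, hk⟩ := IsCofiltered.inf_objs_exists (Finset.univ.image i)
  let ψ : ∀ m, k ⟶ i m := fun m => (hk (Finset.mem_image_of_mem i (Finset.mem_univ m))).some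
  let v : ∀ m, pullback (fX m) (D.map (ψ m)) ⟶ D.obj k := fun m =>
    pullback.snd (fX m) (D.map (ψ m))
  let e : ∀ m, U (a m) ⟶ pullback (fX m) (D.map (ψ m)) := fun m =>
    pullback.lift (g m) (u (a m) ≫ c.π.app k) (by rw [Category.assoc, c.w, (hpb m).w])
  have hv : ∀ m, IsPullback (e m) (u (a m)) (v m) (c.π.app k) := fun m =>
    FPDescend.move (hpb m) (ψ m)
  have hPv : ∀ m, P (v m) := fun m => MorphismProperty.pullback_snd (P := P) _ _ (hP m)
  have hqv : ∀ m, QuasiCompact (v m) ∧ QuasiSeparated (v m) := fun m => by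
    obtain ⟨h1, h2⟩ := hXcq m
    exact ⟨MorphismProperty.pullback_snd (P := @QuasiCompact) _ _ inferInstance,
      MorphismProperty.pullback_snd (P := @QuasiSeparated) _ _ inferInstance⟩
  let W : Set (D.obj k) := ⋃ m, Set.range (v m).base
  have hW : Topology.IsConstructible W := by
    refine Topology.IsConstructible.iUnion fun m => ?_
    obtain ⟨h1, h2⟩ := hqv m
    have := hlfp _ (hPv m)
    rw [← Set.image_univ]
    exact (v m).isConstructible_image .univ
  obtain ⟨l, φ, hl⟩ := Groth.Agent.Lib.LimTop.Points.exists_map_preimage_eq_empty hc k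
    (Groth.Agent.Lib.LimTop.PC.IsPC.compl_of_isConstructible hW) (by
      rw [Set.eq_empty_iff_forall_notMem]
      intro s hs
      obtain ⟨b, hb, y, hy⟩ := Set.mem_iUnion₂.mp (hT (Set.mem_univ s))
      obtain ⟨m, rfl⟩ : ∃ m, a m = b := ⟨T.equivFin ⟨b, hb⟩, by simp [a]⟩
      refine hs (Set.mem_iUnion.mpr ⟨m, e m y, ?_⟩)
      rw [← Scheme.Hom.comp_apply, (hv m).w, Scheme.Hom.comp_apply]
      exact congrArg _ hy)
  refine ⟨l, T.card, fun m => pullback (v m) (D.map φ), fun m => pullback.snd _ _, a,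
    fun m => pullback.lift (e m) (u (a m) ≫ c.π.app l) (by rw [Category.assoc, c.w, (hv m).w]),
    fun m => ⟨MorphismProperty.pullback_snd (P := P) _ _ (hPv m),
      MorphismProperty.pullback_snd (P := @QuasiCompact) _ _ (hqv m).1,
      MorphismProperty.pullback_snd (P := @QuasiSeparated) _ _ (hqv m).2⟩,
    fun x => ?_, fun m => FPDescend.move (hv m) φ⟩
  by_contra hx
  push Not at hx
  refine Set.eq_empty_iff_forall_notMem.1 hl x fun hxW => ?_
  obtain ⟨m, hm⟩ := Set.mem_iUnion.mp hxW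
  have : x ∈ Set.range (pullback.snd (v m) (D.map φ)).base := by
    rw [Scheme.Pullback.range_snd]
    exact hm
  obtain ⟨y, hy⟩ := this
  exact hx m y hy

/-- A covering family descends. -/
theorem exists_descend_cover (H : Descends P @LocallyOfFinitePresentation)
    (hlfp : ∀ ⦃X Y : Scheme.{u}⦄ (f : X ⟶ Y), P f → LocallyOfFinitePresentation f)
    (hopen : ∀ ⦃X Y : Scheme.{u}⦄ (f : X ⟶ Y), P f → IsOpenMap f.base)
    {I : Type u} [SmallCategory I] [IsCofiltered I]
    (D : I ⥤ Scheme.{u}) (c : Cone D) (hc : IsLimit c)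
    [∀ (i j : I) (t : i ⟶ j), IsAffineHom (D.map t)] (i₀ : I) [CompactSpace (D.obj i₀)]
    [QuasiSeparatedSpace (D.obj i₀)]
    {ι : Type u} (U : ι → Scheme.{u}) (u : ∀ a, U a ⟶ c.pt) (hu : ∀ a, P (u a))
    [∀ a, QuasiCompact (u a)] [∀ a, QuasiSeparated (u a)]
    (hcov : ∀ x : c.pt, ∃ (a : ι) (y : U a), (u a).base y = x) :
    ∃ (i : I) (n : ℕ) (V : Fin n → Scheme.{u}) (v : ∀ j, V j ⟶ D.obj i) (a : Fin n → ι)
      (e : ∀ j, U (a j) ⟶ V j),
      (∀ j, P (v j) ∧ QuasiCompact (v j) ∧ QuasiSeparated (v j)) ∧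
      (∀ x : D.obj i, ∃ (j : Fin n) (y : V j), (v j).base y = x) ∧
      ∀ j, IsPullback (e j) (u (a j)) (v j) (c.π.app i) := by
  have hA : ∀ {i j : I} (g : i ⟶ j), IsAffineHom (D.map g) := fun g => inferInstance
  have : ∀ (i j : Over i₀) (t : i ⟶ j), IsAffineHom ((Over.forget i₀ ⋙ D).map t) := fun _ _ t =>
    hA t.left
  have : ∀ j : Over i₀, CompactSpace ((Over.forget i₀ ⋙ D).obj j) := fun j =>
    have := hA j.hom
    QuasiCompact.compactSpace_of_compactSpace (D.map j.hom)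
  have : ∀ j : Over i₀, QuasiSeparatedSpace ((Over.forget i₀ ⋙ D).obj j) := fun j =>
    have := hA j.hom
    quasiSeparatedSpace_of_quasiSeparated (D.map j.hom)
  obtain ⟨l, n, V, v, a, e, h1, h2, h3⟩ := exists_descend_cover' H hlfp hopen
    (Over.forget i₀ ⋙ D) (c.whisker (Over.forget i₀))
    ((Functor.Initial.isLimitWhiskerEquiv (Over.forget i₀) c).symm hc) U u hu hcov
  exact ⟨l.left, n, V, v, a, e, h1, h2, h3⟩

end Groth.Agent.H69.CoverDescend
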