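import Groth.Prelude.Def_W4stkflatp2Cpct
import Groth.Agent.Lib.ModPair.Basic
import Mathlib.CategoryTheory.Localization.CalculusOfFractions

/-!
# Calculus of fractions in the category of compactifications
-/

set_option autoImplicit false
set_option backward.isDefEq.respectTransparency false

universe u

open CategoryTheory CategoryTheory.Limits AlgebraicGeometry Cpct

namespace Groth.Agent.H69.CpctCalculus

variable {S : Scheme.{u}}

@[reassoc]
theorem restr_ι {A B : Pair S} (f : A ⟶ B) :
    restr f ≫ B.U.ι = A.U.ι ≫ f.bar.left := Scheme.Hom.resLE_comp_ι _ _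

theorem restr_id (A : Pair S) : restr (𝟙 A) = 𝟙 _ := by
  rw [← cancel_mono A.U.ι, restr_ι]
  simp

theorem restr_comp {A B C : Pair S} (f : A ⟶ B) (g : B ⟶ C) :
    restr (f ≫ g) = restr f ≫ restr g := by
  rw [← cancel_mono C.U.ι, restr_ι, Category.assoc, restr_ι, restr_ι_assoc]
  simp

instance isMultiplicative : (isoOpen S).IsMultiplicative where
  id_mem A := by
    show IsIso (restr (𝟙 A))
    rw [restr_id]; infer_instance
  comp_mem f g hf hg := by
    have : IsIso (restr f) := hf
    have : IsIso (restr g) := hg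
    show IsIso (restr (f ≫ g))
    rw [restr_comp]; infer_instance

/-- Morphisms agreeing on the open parts agree after precomposing with a morphism inverted on
open parts. -/
theorem exists_equalizing {A B : Pair S} (f g : A ⟶ B) (h : restr f = restr g) :
    ∃ (C : Pair S) (t : C ⟶ A), isoOpen S t ∧ t ≫ f = t ≫ g := by
  have := A.isProper
  have := B.isProper
  let m : A.bar.left ⟶ pullback B.bar.hom B.bar.hom :=
    pullback.lift f.bar.left g.bar.left ((Over.w f.bar).trans (Over.w g.bar).symm)
  let e := pullback.fst m (pullback.diagonal B.bar.hom)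
  have : IsClosedImmersion (pullback.diagonal B.bar.hom) :=
    IsSeparated.isClosedImmersion_diagonal
  have hcl : IsClosedImmersion e :=
    MorphismProperty.pullback_fst (P := @IsClosedImmersion) _ _ inferInstance
  have he : e ≫ f.bar.left = e ≫ g.bar.left := by
    have h1 := congrArg (· ≫ pullback.fst B.bar.hom B.bar.hom)
      (pullback.condition (f := m) (g := pullback.diagonal B.bar.hom))
    have h2 := congrArg (· ≫ pullback.snd B.bar.hom B.bar.hom)
      (pullback.condition (f := m) (g := pullback.diagonal B.bar.hom))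
    simp only [m, Category.assoc, pullback.lift_fst, pullback.lift_snd, pullback.diagonal_fst,
      pullback.diagonal_snd, Category.comp_id] at h1 h2
    exact h1.trans h2.symm
  let C : Pair S :=
    { bar := Over.mk (e ≫ A.bar.hom)
      U := e ⁻¹ᵁ A.U
      isProper := (inferInstance : IsProper (e ≫ A.bar.hom))
      isCompact := QuasiCompact.isCompact_preimage _ A.U.2 A.isCompact }
  let t : C ⟶ A := ⟨Over.homMk e rfl, fun x hx => hx⟩
  refine ⟨C, t, ?_, ?_⟩
  · show IsIso (restr t)
    have hA : A.U.ι ≫ f.bar.left = A.U.ι ≫ g.bar.left := by rw [← restr_ι, ← restr_ι, h]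
    let l : (A.U : Scheme.{u}) ⟶ pullback m (pullback.diagonal B.bar.hom) :=
      pullback.lift A.U.ι (A.U.ι ≫ f.bar.left) (by
        apply pullback.hom_ext
        · simp [m]
        · simp [m, hA])
    have hl : l ≫ e = A.U.ι := pullback.lift_fst _ _ _
    let l' : (A.U : Scheme.{u}) ⟶ (C.U : Scheme.{u}) :=
      IsOpenImmersion.lift C.U.ι l (by
        rw [Scheme.Opens.range_ι]
        rintro _ ⟨x, rfl⟩
        show e (l x) ∈ A.U
        rw [← Scheme.Hom.comp_apply, hl]
        exact x.2)
    have hs : l' ≫ restr t = 𝟙 _ := by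
      rw [← cancel_mono A.U.ι, Category.assoc, restr_ι, Category.id_comp]
      show l' ≫ C.U.ι ≫ e = _
      rw [IsOpenImmersion.lift_fac_assoc, hl]
    have : IsSplitEpi (restr t) := IsSplitEpi.mk' ⟨l', hs⟩
    have : Mono (restr t) := by
      have : Mono (restr t ≫ A.U.ι) := by
        rw [restr_ι]
        show Mono (C.U.ι ≫ e)
        infer_instance
      exact mono_of_mono (restr t) A.U.ι
    exact isIso_of_mono_of_isSplitEpi _
  · apply Pair.Hom.ext
    apply Over.OverMorphism.ext
    exact he

/-- Every morphism of open parts is given by a roof. -/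
theorem exists_roof [QuasiSeparatedSpace S] [CompactSpace S] {A B : Pair S}
    (u : (A.U : Scheme.{u}) ⟶ (B.U : Scheme.{u}))
    (hu : u ≫ B.U.ι ≫ B.bar.hom = A.U.ι ≫ A.bar.hom) :
    ∃ (C : Pair S) (s : C ⟶ A) (f : C ⟶ B), isoOpen S s ∧ restr s ≫ u = restr f := by
  have := A.isProper
  have := B.isProper
  let γ : (A.U : Scheme.{u}) ⟶ pullback A.bar.hom B.bar.hom :=
    pullback.lift A.U.ι (u ≫ B.U.ι) (by rw [Category.assoc, hu])
  have : CompactSpace (A.U : Scheme.{u}) := isCompact_iff_compactSpace.mp A.isCompact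
  have hPr : IsProper (pullback.fst A.bar.hom B.bar.hom) :=
    MorphismProperty.pullback_fst (P := @IsProper) _ _ inferInstance
  have : QuasiSeparatedSpace A.bar.left := quasiSeparatedSpace_of_quasiSeparated A.bar.hom
  have : QuasiSeparatedSpace ↥(pullback A.bar.hom B.bar.hom) :=
    quasiSeparatedSpace_of_quasiSeparated (pullback.fst A.bar.hom B.bar.hom)
  let p : γ.image ⟶ A.bar.left := γ.imageι ≫ pullback.fst _ _
  let q : γ.image ⟶ B.bar.left := γ.imageι ≫ pullback.snd _ _
  have hk₁ : γ.toImage ≫ p = A.U.ι := by simp [p, γ]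
  have hk₂ : γ.toImage ≫ q = u ≫ B.U.ι := by simp [q, γ]
  have : IsProper p := inferInstance
  let V : γ.image.Opens := p ⁻¹ᵁ A.U
  have hV : γ.toImage ⁻¹ᵁ V = ⊤ := by
    rw [← top_le_iff]
    intro x _
    show p (γ.toImage x) ∈ A.U
    rw [← Scheme.Hom.comp_apply, hk₁]
    exact x.2
  let k : (A.U : Scheme.{u}) ⟶ (V : Scheme.{u}) :=
    IsOpenImmersion.lift V.ι γ.toImage (by
      rw [Scheme.Opens.range_ι]
      rintro _ ⟨x, rfl⟩
      exact (hV.ge (Set.mem_univ x)))
  have hk : k ≫ V.ι = γ.toImage := IsOpenImmersion.lift_fac _ _ _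
  -- the projection of the open part has a section, which is an isomorphism
  let r : (V : Scheme.{u}) ⟶ (A.U : Scheme.{u}) := p ∣_ A.U
  have hkr : k ≫ r = 𝟙 _ := by
    rw [← cancel_mono A.U.ι, Category.assoc, morphismRestrict_ι, ← Category.assoc, hk, hk₁,
      Category.id_comp]
  have : IsProper r := IsZariskiLocalAtTarget.restrict (P := @IsProper) inferInstance _
  have : IsClosedImmersion (k ≫ r) := by rw [hkr]; infer_instance
  have : IsClosedImmersion k := IsClosedImmersion.of_comp k r
  have hkiso : IsIso k := by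
    have h1 : IsSchemeTheoreticallyDominant (γ.toImage ∣_ V) := by
      have := Groth.Agent.Lib.ModPair.std_toImage γ
      exact IsSchemeTheoreticallyDominant.of_isPullback (isPullback_morphismRestrict γ.toImage V).flip
    have e : k = (A.U.toScheme.topIso.inv ≫ (A.U.toScheme.isoOfEq hV).inv) ≫ γ.toImage ∣_ V := by
      rw [← cancel_mono V.ι, hk, Category.assoc, morphismRestrict_ι, Category.assoc,
        Scheme.isoOfEq_inv_ι_assoc, Scheme.toIso_inv_ι_assoc]
    have hbot : k.ker = ⊥ := by
      rw [e, Scheme.Hom.ker_comp_of_isIso, h1.ker_eq_bot]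
    exact IsClosedImmersion.isIso_of_ker_eq k (𝟙 _) k (Category.comp_id _) (hbot.trans (by simp))
  have hr : IsIso r := by
    have : IsIso (k ≫ r) := by rw [hkr]; infer_instance
    exact IsIso.of_isIso_comp_left k r
  have hbar : q ≫ B.bar.hom = p ≫ A.bar.hom := by
    simp [p, q, pullback.condition]
  let C : Pair S :=
    { bar := Over.mk (p ≫ A.bar.hom)
      U := V
      isProper := (inferInstance : IsProper (p ≫ A.bar.hom))
      isCompact := QuasiCompact.isCompact_preimage _ A.U.2 A.isCompact }
  let s : C ⟶ A := ⟨Over.homMk p rfl, fun x hx => hx⟩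
  have hq : ∀ x, x ∈ V → q x ∈ B.U := by
    intro x hx
    obtain ⟨y, hy⟩ := k.surjective ⟨x, hx⟩
    have : γ.toImage y = x := by
      rw [← hk, Scheme.Hom.comp_apply, hy]
      rfl
    rw [← this, ← Scheme.Hom.comp_apply, hk₂]
    exact (u y).2
  let f : C ⟶ B := ⟨Over.homMk q hbar, fun x hx => hq x hx⟩
  have hs : restr s = r := by
    rw [← cancel_mono A.U.ι, restr_ι, morphismRestrict_ι]
    rfl
  refine ⟨C, s, f, show IsIso (restr s) by rw [hs]; exact hr, ?_⟩
  rw [hs, ← cancel_epi k, ← Category.assoc, hkr, Category.id_comp, ← cancel_mono B.U.ι,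
    Category.assoc, restr_ι]
  show u ≫ B.U.ι = k ≫ V.ι ≫ q
  rw [reassoc_of% hk, hk₂]

theorem hasRightCalculusOfFractions [QuasiSeparatedSpace S] [CompactSpace S] :
    (isoOpen S).HasRightCalculusOfFractions where
  exists_rightFraction X Y φ := by
    have hs : IsIso (restr φ.s) := φ.hs
    have hover : ∀ {A B : Pair S} (h : A ⟶ B),
        restr h ≫ B.U.ι ≫ B.bar.hom = A.U.ι ≫ A.bar.hom := fun h => by
      rw [restr_ι_assoc, Over.w]
    obtain ⟨C, v, g, hv, hvg⟩ := exists_roof (A := X) (B := Y) (restr φ.f ≫ inv (restr φ.s)) (by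
      rw [Category.assoc, ← hover φ.s, IsIso.inv_hom_id_assoc, hover])
    obtain ⟨C', t, ht, e⟩ := exists_equalizing (v ≫ φ.f) (g ≫ φ.s) (by
      rw [restr_comp, restr_comp, ← hvg, Category.assoc, Category.assoc, IsIso.inv_hom_id,
        Category.comp_id])
    exact ⟨⟨t ≫ v, (isoOpen S).comp_mem _ _ ht hv, t ≫ g⟩, by
      simp only [Category.assoc]; exact e⟩
  ext X Y Y' f₁ f₂ s hs h := by
    have hs' : IsIso (restr s) := hs
    obtain ⟨C, t, ht, e⟩ := exists_equalizing f₁ f₂ (by
      rw [← cancel_mono (restr s), ← restr_comp, ← restr_comp, h])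
    exact ⟨C, t, ht, e⟩

end Groth.Agent.H69.CpctCalculus
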