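import Groth.Agent.Lib.Lim.Descend

/-!
# Descent for a morphism to a quasi-compact scheme over an arbitrary stage

`descend_over_compact`: as `descend_over`, but the target is only quasi-compact and the morphism
quasi-compact and quasi-separated.
-/

set_option autoImplicit false
set_option backward.isDefEq.respectTransparency false
set_option linter.unusedVariables false

universe u

open CategoryTheory CategoryTheory.Limits AlgebraicGeometry
open Groth.Agent.Lib.Lim.Descend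

namespace Groth.Agent.H69.DescendCompact

/-- Descent over a quasi-compact target, for properties local on the target. -/
theorem descend_over_compact {P Q : MorphismProperty Scheme.{u}} [IsZariskiLocalAtTarget P]
    [P.IsStableUnderBaseChange] [Q.IsStableUnderBaseChange] (H : Descends P Q)
    {I : Type u} [SmallCategory I] [IsCofiltered I] (D : I ⥤ Scheme.{u}) (c : Cone D)
    (hc : IsLimit c) [∀ (i j : I) (f : i ⟶ j), IsAffineHom (D.map f)] (i₀ : I)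
    {X₀ Y₀ : Scheme.{u}} (f₀ : X₀ ⟶ Y₀) (g₀ : Y₀ ⟶ D.obj i₀)
    [CompactSpace Y₀] [QuasiCompact f₀] [QuasiSeparated f₀]
    {X Y : Scheme.{u}} (f : X ⟶ Y) (g : Y ⟶ c.pt) (qY : Y ⟶ Y₀) (qX : X ⟶ X₀)
    (hY : IsPullback qY g g₀ (c.π.app i₀)) (hX : IsPullback qX f f₀ qY) (hQ : Q f₀) (hP : P f) :
    ∃ (i : I) (φ : i ⟶ i₀), P (pullback.snd f₀ (pullback.fst g₀ (D.map φ))) := by
  let 𝒰 := Y₀.affineCover.finiteSubcover
  let V : 𝒰.I₀ → Y₀.Opens := fun k => (𝒰.f k).opensRange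
  have hV : ∀ k, IsAffineOpen (V k) := fun k =>
    have : IsAffine (𝒰.X k) := inferInstanceAs (IsAffine (Spec _))
    isAffineOpen_opensRange _
  have : Q.RespectsIso := MorphismProperty.IsStableUnderBaseChange.respectsIso
  have hk : ∀ k, ∃ (i : I) (φ : i ⟶ i₀) (Xi Yi : Scheme.{u}) (fi : Xi ⟶ Yi) (gi : Yi ⟶ D.obj i)
      (pY : Yi ⟶ V k) (pX : Xi ⟶ f₀ ⁻¹ᵁ V k), IsPullback pY gi ((V k).ι ≫ g₀) (D.map φ) ∧
        IsPullback pX fi (f₀ ∣_ V k) pY ∧ P fi := by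
    intro k
    have hcV : CompactSpace (V k : Scheme.{u}) := isCompact_iff_compactSpace.mp (hV k).isCompact
    have : IsAffine (V k : Scheme.{u}) := hV k
    have : QuasiCompact (f₀ ∣_ V k) := IsZariskiLocalAtTarget.restrict ‹QuasiCompact f₀› _
    have : QuasiSeparated (f₀ ∣_ V k) := IsZariskiLocalAtTarget.restrict ‹QuasiSeparated f₀› _
    have : CompactSpace (f₀ ⁻¹ᵁ V k : Scheme.{u}) :=
      QuasiCompact.compactSpace_of_compactSpace (f₀ ∣_ V k)
    have : QuasiSeparatedSpace (f₀ ⁻¹ᵁ V k : Scheme.{u}) :=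
      quasiSeparatedSpace_of_quasiSeparated (f₀ ∣_ V k)
    have sq : IsPullback (qX ∣_ (f₀ ⁻¹ᵁ V k))
        (f.resLE (qY ⁻¹ᵁ V k) (qX ⁻¹ᵁ (f₀ ⁻¹ᵁ V k))
          (by rw [← Scheme.Hom.comp_preimage, hX.w, Scheme.Hom.comp_preimage])) (f₀ ∣_ V k)
        (qY ∣_ V k) := by
      refine IsPullback.of_bot ?_ ?_ (isPullback_morphismRestrict qY (V k))
      · rw [Scheme.Hom.resLE_comp_ι, morphismRestrict_ι]
        exact (isPullback_morphismRestrict qX (f₀ ⁻¹ᵁ V k)).paste_vert hX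
      · rw [← cancel_mono (V k).ι, Category.assoc, Category.assoc, morphismRestrict_ι,
          morphismRestrict_ι, morphismRestrict_ι_assoc, Scheme.Hom.resLE_comp_ι_assoc, hX.w]
    have hP' : P (f.resLE (qY ⁻¹ᵁ V k) (qX ⁻¹ᵁ (f₀ ⁻¹ᵁ V k))
          (by rw [← Scheme.Hom.comp_preimage, hX.w, Scheme.Hom.comp_preimage])) := by
      have hle : qX ⁻¹ᵁ (f₀ ⁻¹ᵁ V k) = f ⁻¹ᵁ (qY ⁻¹ᵁ V k) := by
        rw [← Scheme.Hom.comp_preimage, hX.w, Scheme.Hom.comp_preimage]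
      refine (Scheme.Hom.resLE_congr f _ rfl hle P).mpr ?_
      rw [Scheme.Hom.resLE_eq_morphismRestrict]
      exact IsZariskiLocalAtTarget.restrict hP _
    exact descend_over H D c hc i₀ (f₀ ∣_ V k) ((V k).ι ≫ g₀) _ ((qY ⁻¹ᵁ V k).ι ≫ g) (qY ∣_ V k)
      (qX ∣_ (f₀ ⁻¹ᵁ V k)) ((isPullback_morphismRestrict qY (V k)).paste_vert hY) sq
      (Q.of_isPullback (isPullback_morphismRestrict f₀ (V k)).flip hQ) hP'
  choose i φ Xi Yi fi gi pY pX h1 h2 h3 using hk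
  obtain ⟨j, ψ, χ, hχ⟩ := IsCofiltered.wideCospan φ
  refine ⟨j, ψ, IsZariskiLocalAtTarget.of_iSup_eq_top
    (fun k => pullback.fst g₀ (D.map ψ) ⁻¹ᵁ V k) ?_ fun k => ?_⟩
  · rw [← Scheme.Hom.preimage_iSup, 𝒰.iSup_opensRange]
    rfl
  · let b := pullback.fst g₀ (D.map ψ)
    let pk := pullback.fst f₀ b
    let fk := pullback.snd f₀ b
    have hsq : IsPullback pk fk f₀ b := IsPullback.of_hasPullback _ _
    have hW : IsPullback (b ∣_ V k) ((b ⁻¹ᵁ V k).ι ≫ pullback.snd g₀ (D.map ψ))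
        ((V k).ι ≫ g₀) (D.map ψ) :=
      (isPullback_morphismRestrict b (V k)).paste_vert (IsPullback.of_hasPullback g₀ (D.map ψ))
    let e : ((b ⁻¹ᵁ V k : Scheme.Opens _) : Scheme.{u}) ⟶ Yi k :=
      (h1 k).lift (b ∣_ V k) ((b ⁻¹ᵁ V k).ι ≫ pullback.snd g₀ (D.map ψ) ≫ D.map (χ k)) (by
        rw [hW.w, Category.assoc, Category.assoc, Category.assoc, ← D.map_comp, hχ])
    have he : e ≫ pY k = b ∣_ V k := (h1 k).lift_fst _ _ _
    let l : ((fk ⁻¹ᵁ (b ⁻¹ᵁ V k) : Scheme.Opens _) : Scheme.{u}) ⟶ (f₀ ⁻¹ᵁ V k : Scheme.Opens _) :=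
      pk.resLE (f₀ ⁻¹ᵁ V k) (fk ⁻¹ᵁ (b ⁻¹ᵁ V k))
        (by rw [← Scheme.Hom.comp_preimage, ← hsq.w, Scheme.Hom.comp_preimage])
    have sql : IsPullback l (fk ∣_ (b ⁻¹ᵁ V k)) (f₀ ∣_ V k) (b ∣_ V k) := by
      refine IsPullback.of_right ?_ ?_ (isPullback_morphismRestrict f₀ (V k)).flip
      · rw [Scheme.Hom.resLE_comp_ι, morphismRestrict_ι]
        exact (isPullback_morphismRestrict fk (b ⁻¹ᵁ V k)).flip.paste_horiz hsq
      · rw [← cancel_mono (V k).ι, Category.assoc, Category.assoc, morphismRestrict_ι,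
          morphismRestrict_ι, morphismRestrict_ι_assoc, Scheme.Hom.resLE_comp_ι_assoc, hsq.w]
    refine P.of_isPullback (IsPullback.of_right (h₁₂ := pX k) ?_ ((h2 k).lift_snd l
      ((fk ∣_ (b ⁻¹ᵁ V k)) ≫ e) ?_) (h2 k)) (h3 k)
    · rw [(h2 k).lift_fst, he]
      exact sql
    · rw [Category.assoc, he]
      exact sql.w

end Groth.Agent.H69.DescendCompact
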