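import Mathlib.AlgebraicGeometry.AffineTransitionLimit
import Mathlib.AlgebraicGeometry.Morphisms.SchemeTheoreticallyDominant
import Groth.Agent.Lib.Ferrand.Affine

/-!
# Morphisms from a limit into a scheme locally of finite type

If the projections of a cofiltered limit are schematically dominant, then a morphism from the
limit to a scheme locally of finite type factors through some stage (no finite presentation).
-/

set_option autoImplicit false
set_option backward.defeqAttrib.useBackward true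
set_option backward.isDefEq.respectTransparency false

universe u

open CategoryTheory CategoryTheory.Limits AlgebraicGeometry TopologicalSpace

namespace Groth.Agent.H69.DominantLimit

variable {I : Type u} [SmallCategory I] {S X : Scheme.{u}} (D : I ⥤ Scheme.{u})
  (t : D ⟶ (Functor.const I).obj S) (f : X ⟶ S) (c : Cone D) (hc : IsLimit c)

include hc in
theorem exists_comp_eq_of_isAffine [IsCofiltered I] [LocallyOfFiniteType f] [IsAffine S] [IsAffine X]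
    [∀ i, IsAffine (D.obj i)] [∀ i, IsSchemeTheoreticallyDominant (c.π.app i)]
    (a : c.pt ⟶ X) (ha : c.π ≫ t = (Functor.const _).map (a ≫ f)) :
    ∃ (i : I) (g : D.obj i ⟶ X), c.π.app i ≫ g = a ∧ g ≫ f = t.app i := by
  classical
  have : ∀ {i j : I} (g : i ⟶ j), IsAffineHom (D.map g) := fun g => isAffineHom_of_isAffine _
  have hπ := fun i => isAffineHom_π_app D c hc i
  have hinj : ∀ i, Function.Injective (c.π.app i).appTop := fun i =>
    Scheme.Hom.app_injective (c.π.app i) ⊤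
  have hft : f.appTop.hom.FiniteType :=
    (HasRingHomProperty.iff_of_isAffine (P := @LocallyOfFiniteType)).mp ‹LocallyOfFiniteType f›
  algebraize [f.appTop.hom]
  obtain ⟨G, hG⟩ := hft.out
  have : ∀ x : G, ∃ (i : I) (y : Γ(D.obj i, ⊤)), (c.π.app i).appTop y = a.appTop x.1 :=
    fun x => by
      obtain ⟨i, y, h⟩ := exists_appTop_π_eq_of_isLimit D c hc (a.appTop x.1)
      exact ⟨i, y, h.symm⟩
  choose j y hy using this
  obtain ⟨i, hi⟩ := IsCofiltered.inf_objs_exists (Finset.univ.image j)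
  have hmem : ∀ x, a.appTop x ∈ (c.π.app i).appTop.hom.range := by
    intro x
    have hx : x ∈ Algebra.adjoin Γ(S, ⊤) (G : Set Γ(X, ⊤)) := hG ▸ Algebra.mem_top
    induction hx using Algebra.adjoin_induction with
    | mem z hz =>
      obtain ⟨φ⟩ := hi (Finset.mem_image_of_mem j (Finset.mem_univ ⟨z, hz⟩))
      refine ⟨(D.map φ).appTop (y ⟨z, hz⟩), ?_⟩
      exact (ConcreteCategory.congr_hom ((Scheme.Hom.comp_appTop _ _).symm.trans
        (congrArg Scheme.Hom.appTop (c.w φ))) (y ⟨z, hz⟩)).trans (hy ⟨z, hz⟩)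
    | algebraMap r =>
      refine ⟨(t.app i).appTop r, ?_⟩
      exact ConcreteCategory.congr_hom ((Scheme.Hom.comp_appTop _ _).symm.trans
        ((congrArg Scheme.Hom.appTop (congr($(ha).app i))).trans (Scheme.Hom.comp_appTop _ _))) r
    | add z w _ _ hz hw => rw [map_add]; exact add_mem hz hw
    | mul z w _ _ hz hw => rw [map_mul]; exact mul_mem hz hw
  choose ψ hψ using hmem
  let Ψ : Γ(X, ⊤) →+* Γ(D.obj i, ⊤) :=
    { toFun := ψ
      map_one' := hinj i ((hψ 1).trans ((map_one _).trans (map_one _).symm))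
      map_mul' := fun z w => hinj i (by
        refine (hψ (z * w)).trans ?_
        rw [map_mul, map_mul]; exact congrArg₂ (· * ·) (hψ z).symm (hψ w).symm)
      map_zero' := hinj i ((hψ 0).trans ((map_zero _).trans (map_zero _).symm))
      map_add' := fun z w => hinj i (by
        refine (hψ (z + w)).trans ?_
        rw [map_add, map_add]; exact congrArg₂ (· + ·) (hψ z).symm (hψ w).symm) }
  obtain ⟨g, hg⟩ := Groth.Agent.Lib.Ferrand.exists_hom_appTop (X := D.obj i) (CommRingCat.ofHom Ψ)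
  have h1 : c.π.app i ≫ g = a := ext_of_isAffine (by
    rw [Scheme.Hom.comp_appTop, hg]; ext z; exact hψ z)
  refine ⟨i, g, h1, ext_of_isAffine ?_⟩
  rw [Scheme.Hom.comp_appTop, hg]
  ext r
  apply hinj i
  refine (hψ (f.appTop r)).trans ?_
  exact (ConcreteCategory.congr_hom ((Scheme.Hom.comp_appTop _ _).symm.trans
    ((congrArg Scheme.Hom.appTop (congr($(ha).app i))).trans (Scheme.Hom.comp_appTop _ _))) r).symm

lemma dominant_opensCone [IsCofiltered I] [∀ {i j : I} (g : i ⟶ j), IsAffineHom (D.map g)]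
    (hc : IsLimit c) [∀ i, IsSchemeTheoreticallyDominant (c.π.app i)]
    (i : I) (U : (D.obj i).Opens) (k : Over i) :
    IsSchemeTheoreticallyDominant ((opensCone D c i U).π.app k) := by
  have := isAffineHom_π_app D c hc k.left
  refine IsSchemeTheoreticallyDominant.of_isPullback (f := c.π.app k.left)
    (g := (D.map k.hom ⁻¹ᵁ U).ι) (pX := (c.π.app i ⁻¹ᵁ U).ι) ?_
  refine (IsOpenImmersion.isPullback _ _ _ _ ?_ ?_).flip
  · simp [opensCone]
  · simp [← Scheme.Hom.comp_preimage]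

include hc in
/-- A morphism from a limit with schematically dominant projections to a scheme locally of finite
type factors through a stage. -/
theorem exists_comp_eq [IsCofiltered I] [LocallyOfFiniteType f]
    [∀ {i j : I} (g : i ⟶ j), IsAffineHom (D.map g)]
    [∀ i, CompactSpace (D.obj i)] [∀ i, QuasiSeparatedSpace (D.obj i)]
    [∀ i, IsSchemeTheoreticallyDominant (c.π.app i)]
    (a : c.pt ⟶ X) (ha : c.π ≫ t = (Functor.const _).map (a ≫ f)) :
    ∃ (i : I) (g : D.obj i ⟶ X), c.π.app i ≫ g = a ∧ g ≫ f = t.app i := by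
  -- `U ⊆ c`, `V ⊆ X`, `W ⊆ S` such that `U` maps to `V` maps to `W`.
  have 𝒰 := (c.pt.isBasis_affineOpens).isOpenCover_mem_and_le
    (((X.isBasis_affineOpens).isOpenCover_mem_and_le
    ((S.isBasis_affineOpens).isOpenCover.comap f.base.hom)).comap a.base.hom)
  -- By qcqs, this cover descends to some finite affine open cover `𝒱` of `Dᵢ`.
  obtain ⟨i, s, 𝒱, h𝒱, h𝒱𝒰⟩ := Scheme.exists_isOpenCover_and_isAffine D c hc _ 𝒰 fun U ↦ U.2.1
  obtain ⟨i', fi'i, hi'⟩ : ∃ (i' : I) (fi'i : i' ⟶ i),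
      ∀ j, D.map fi'i ⁻¹ᵁ 𝒱 j ≤ t.app i' ⁻¹ᵁ j.1.1.2.1.2.1 := by
    choose k fk hk using fun j ↦ exists_map_preimage_le_map_preimage D c hc (h𝒱𝒰 j).1.isCompact
      (V := t.app i ⁻¹ᵁ j.1.1.2.1.2.1) (by
      rw [← Scheme.Hom.comp_preimage, ← NatTrans.comp_app, ha]
      exact (h𝒱𝒰 j).2.symm.trans_le (j.1.prop.2.trans (a.preimage_mono j.1.1.2.prop.2)))
    obtain ⟨i', fi'i, fi', hfi'⟩ := IsCofiltered.wideCospan fk
    refine ⟨i', fi'i, fun j ↦ ?_⟩
    rw [← hfi', Functor.map_comp, Scheme.Hom.comp_preimage]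
    refine (Scheme.Hom.preimage_mono _ (hk _)).trans ?_
    simp only [← Scheme.Hom.comp_preimage, t.naturality, Functor.const_obj_obj,
      Functor.const_obj_map, Category.comp_id, le_refl]
  -- Using the affine version `exists_π_app_comp_eq_of_locallyOfFinitePresentation_of_isAffine`,
  -- one can now factor `Dⱼ ⁻¹ 𝒱ⱼ ⟶ lim Dᵢ ⟶ X` through some `Dⱼₖ ⁻¹ 𝒱ⱼ` for each `𝒱ⱼ`,
  -- and by finite-ness we may chose a fixed `k` that works for every `j`.
  have : ∃ k, ∃ (fk : k ⟶ i), ∀ j, ∃ (ak : ↑(D.map fk ⁻¹ᵁ 𝒱 j) ⟶ X),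
      ak ≫ f = Scheme.Opens.ι _ ≫ t.app k ∧ c.π.app _ ∣_ _ ≫ ak = Scheme.Opens.ι _ ≫ a := by
    let 𝒱' := (D.map fi'i ⁻¹ᵁ 𝒱 ·)
    have h𝒱'𝒰 (j : s) : c.π.app i' ⁻¹ᵁ 𝒱' j = j.1.1.1 := by
      rw [← Scheme.Hom.comp_preimage, c.w fi'i]; exact (h𝒱𝒰 j).2.symm
    have _ (j k) : IsAffine ((opensDiagram D i' (𝒱' j)).obj k) := ((h𝒱𝒰 _).1.preimage _).preimage _
    let t𝒱 (j : _) : opensDiagram D i' (𝒱' j) ⟶ (Functor.const (Over i')).obj j.1.1.2.1.2 :=
    { app k := (t.app k.left).resLE _ _ <| by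
        refine (Scheme.Hom.preimage_mono _ (hi' _)).trans ?_
        simp only [Functor.const_obj_obj, ← Scheme.Hom.comp_preimage, t.naturality,
          Functor.const_obj_map, Category.comp_id, le_refl]
      naturality {k₁ k₂} f₁₂ := by simp [Scheme.Hom.resLE_comp_resLE] }
    have (j : s) : IsAffine j.1.1.2.1.1 := j.1.1.2.prop.1
    choose k ak hk hk' using fun j ↦ @exists_comp_eq_of_isAffine
      _ _ _ _ _ (t𝒱 j) (f.resLE _ _ j.1.1.2.prop.2) _ (isLimitOpensCone D c hc i' (𝒱' j)) _ _ _ _ _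
      (fun k => dominant_opensCone D c hc i' (𝒱' j) k)
      (a.resLE _ _ ((h𝒱'𝒰 _).trans_le j.1.prop.2)) (by
      ext k
      simp [t𝒱, Scheme.Hom.resLE_comp_resLE, show c.π.app k.left ≫ t.app k.left = a ≫ f from
        congr(($ha).app k.left)])
    obtain ⟨i'', fi''i', fi'', hi''⟩ := IsCofiltered.wideCospan fun j ↦ (k j).hom
    refine ⟨i'', fi''i' ≫ fi'i, fun j ↦
      ⟨Scheme.homOfLE _ ?_ ≫ D.map (fi'' _) ∣_ _ ≫ ak j ≫ Scheme.Opens.ι _, ?_, ?_⟩⟩
    · simp only [← Scheme.Hom.comp_preimage, ← Functor.map_comp, 𝒱', reassoc_of% hi'']; rfl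
    · have : ak j ≫ Scheme.Opens.ι _ ≫ f = Scheme.Opens.ι _ ≫ t.app (k j).left := by
        simpa [t𝒱] using! congr($(hk' j) ≫ Scheme.Opens.ι _)
      simp [this]
    · have e : c.π.app i'' ⁻¹ᵁ D.map (fi''i' ≫ fi'i) ⁻¹ᵁ 𝒱 j ≤ c.π.app i' ⁻¹ᵁ 𝒱' j := by
        simp only [← Scheme.Hom.comp_preimage, Cone.w, 𝒱']; rfl
      simpa [← AlgebraicGeometry.Scheme.Hom.resLE_eq_morphismRestrict,
        Scheme.Hom.resLE_comp_resLE_assoc] using! congr(Scheme.homOfLE _ e ≫ $(hk j) ≫ Scheme.Opens.ι _)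
  choose k fki ak hak hak' using this
  -- We may then find an `l` for each `j₁` and `j₂` such that the map `Dⱼ₁ₗ ⁻¹ 𝒱ⱼ₁ ⟶ X` and
  -- `Dⱼ₂ₗ ⁻¹ 𝒱ⱼ₂ ⟶ X` agrees on the intersection in `Dₗ`.
  -- And again by finiteness we may choose a global `l`.
  obtain ⟨l, flk, hl⟩ : ∃ (l : I) (flk : l ⟶ k), ∀ j₁ j₂, Scheme.homOfLE _ inf_le_left ≫
      D.map flk ∣_ _ ≫ ak j₁ = Scheme.homOfLE _ inf_le_right ≫ D.map flk ∣_ _ ≫ ak j₂ := by
    let 𝒱' := (D.map fki ⁻¹ᵁ 𝒱 ·)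
    have (j₁ j₂ : s) : ∃ (l : I) (flk : l ⟶ k), Scheme.homOfLE _ inf_le_left ≫ D.map flk ∣_ _ ≫
        ak j₁ = Scheme.homOfLE _ inf_le_right ≫ D.map flk ∣_ _ ≫ ak j₂ := by
      have _ (x) : CompactSpace ↥((opensDiagram D k (𝒱' j₁ ⊓ 𝒱' j₂)).obj x) :=
        isCompact_iff_compactSpace.mp (QuasiCompact.isCompact_preimage _ (𝒱' j₁ ⊓ 𝒱' j₂).isOpen
          (((h𝒱𝒰 _).1.preimage _).isCompact.inter_of_isOpen ((h𝒱𝒰 _).1.preimage _).isCompact
            (D.map fki ⁻¹ᵁ 𝒱 j₁).2 (D.map fki ⁻¹ᵁ 𝒱 j₂).2))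
      obtain ⟨⟨l, ⟨⟨⟩⟩, flk⟩, ⟨flk', ⟨⟨⟨⟩⟩⟩, h⟩, e⟩ :=
        Scheme.exists_hom_comp_eq_comp_of_locallyOfFiniteType _
          (opensDiagramι .. ≫ (Over.forget k).whiskerLeft t) f _
          (isLimitOpensCone D c hc k (𝒱' j₁ ⊓ 𝒱' j₂)) (i := .mk (𝟙 k))
          (Scheme.homOfLE _ (by simp [𝒱']) ≫ ak j₁) (Scheme.homOfLE _ (by simp [𝒱']) ≫ ak j₂)
          (by simp [hak]) (by simp [hak]) (by simp; simp [Scheme.Hom.resLE, hak'])
      obtain rfl : flk = flk' := by simpa using! h.symm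
      refine ⟨l, flk, by simpa [← Scheme.Hom.resLE_eq_morphismRestrict] using! e⟩
    choose l flk hflk using this
    obtain ⟨l', fl'k, fl'l, hl'⟩ := IsCofiltered.wideCospan (I := s × s) fun x ↦ flk x.1 x.2
    refine ⟨l', fl'k, fun j₁ j₂ ↦ ?_⟩
    have H : (D.map fl'k ≫ D.map fki) ⁻¹ᵁ (𝒱 j₁ ⊓ 𝒱 j₂) ≤
        (D.map (fl'l (j₁, j₂)) ≫ D.map (flk j₁ j₂) ≫ D.map fki) ⁻¹ᵁ (𝒱 j₁ ⊓ 𝒱 j₂) := by
      simp only [← Functor.map_comp, reassoc_of% hl']; rfl
    simpa [← Scheme.Hom.resLE_eq_morphismRestrict, Scheme.Hom.resLE_comp_resLE_assoc,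
      ← Functor.map_comp, hl'] using! congr((D.map (fl'l (j₁, j₂))).resLE _ _ H ≫ $(hflk j₁ j₂))
  -- We may glue the morphisms into `Dₗ ⟶ X` and verify that it indeed satisfies the hypothesis.
  let h𝒲 := (h𝒱.comap (D.map fki).base.hom).comap (D.map flk).base.hom
  let 𝒲 := Scheme.openCoverOfIsOpenCover _ (D.map flk ⁻¹ᵁ D.map fki ⁻¹ᵁ 𝒱 ·) h𝒲
  let F := 𝒲.glueMorphisms (fun j ↦ D.map flk ∣_ D.map fki ⁻¹ᵁ 𝒱 j ≫ ak j) (fun j₁ j₂ ↦ by
      rw [← cancel_epi (isPullback_opens_inf _ _).isoPullback.hom]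
      simpa [𝒲] using! hl j₁ j₂)
  have hF (j : s) : (D.map flk ⁻¹ᵁ D.map fki ⁻¹ᵁ 𝒱 j).ι ≫ F = D.map flk ∣_ _ ≫ ak j :=
    Scheme.Cover.ι_glueMorphisms ..
  refine ⟨l, F, ?_, ?_⟩
  · refine Scheme.Cover.hom_ext (𝒲.pullback₁ (c.π.app l)) _ _ fun j ↦ ?_
    rw [← cancel_epi (isPullback_morphismRestrict _ _).flip.isoPullback.hom]
    dsimp [𝒲]
    simp only [pullback.condition_assoc, IsPullback.isoPullback_hom_snd_assoc,
      IsPullback.isoPullback_hom_fst_assoc, hF]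
    have h : c.π.app l ⁻¹ᵁ D.map flk ⁻¹ᵁ D.map fki ⁻¹ᵁ 𝒱 j ≤ c.π.app k ⁻¹ᵁ D.map fki ⁻¹ᵁ 𝒱 j := by
      simp only [← Scheme.Hom.comp_preimage, c.w_assoc, c.w]; rfl
    simpa [← Scheme.Hom.resLE_eq_morphismRestrict, Scheme.Hom.resLE_comp_resLE_assoc] using!
      congr(Scheme.homOfLE _ h ≫ $(hak' j))
  · refine 𝒲.hom_ext _ _ fun j ↦ ?_
    simp [F, Scheme.Cover.ι_glueMorphisms_assoc, hak]; rfl

end Groth.Agent.H69.DominantLimit
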