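import Mathlib.AlgebraicGeometry.AffineTransitionLimit
import Mathlib.AlgebraicGeometry.Morphisms.SchemeTheoreticallyDominant

/-!
# Projections of a limit with schematically dominant transition maps
-/

set_option autoImplicit false
set_option backward.isDefEq.respectTransparency false

universe u

open CategoryTheory CategoryTheory.Limits AlgebraicGeometry

namespace Groth.Agent.H69.DominantProj

variable {I : Type u} [SmallCategory I] [IsCofiltered I] {D : I ⥤ Scheme.{u}} {c : Cone D}

/-- The projections of a limit with schematically dominant affine transition maps are schematically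
dominant. -/
theorem isSchemeTheoreticallyDominant_π [∀ {i j : I} (g : i ⟶ j), IsAffineHom (D.map g)]
    (hdom : ∀ (i j : I) (g : i ⟶ j), IsSchemeTheoreticallyDominant (D.map g))
    (hc : IsLimit c) (i : I) : IsSchemeTheoreticallyDominant (c.π.app i) := by
  have := isAffineHom_π_app D c hc i
  constructor
  ext U : 2
  rw [Scheme.Hom.ker_apply, Scheme.IdealSheafData.ideal_bot, Pi.bot_apply]
  refine (RingHom.injective_iff_ker_eq_bot _).mp ((injective_iff_map_eq_zero _).mpr fun s hs => ?_)
  obtain ⟨j, f, hf⟩ := exists_app_map_eq_zero_of_isLimit D c hc U.2.isCompact s hs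
  have := hdom j i f
  exact (injective_iff_map_eq_zero _).mp (Scheme.Hom.app_injective (D.map f) _) s hf

end Groth.Agent.H69.DominantProj
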