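import Mathlib.Algebra.MvPolynomial.Supported
import Mathlib.RingTheory.FinitePresentation
import Mathlib.Algebra.Category.Ring.FilteredColimits
import Mathlib.Algebra.Category.Ring.Colimits
import Mathlib.Algebra.Category.Ring.Under.Basic
import Mathlib.RingTheory.IntegralClosure.Algebra.Basic
import Mathlib.CategoryTheory.Limits.Types.Filtered
import Mathlib.CategoryTheory.Limits.Constructions.Over.Connected

/-!
Finitely presented approximations of algebras: `Q a = R[X_x | x ∈ a.s] / (a.rel)`, the functorial maps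
between them, and a bijectivity criterion for colimits in `Under (CommRingCat.of R)`.
-/

set_option autoImplicit false
set_option backward.isDefEq.respectTransparency false
set_option backward.isDefEq.respectTransparency.types false
set_option linter.style.haveILetI false

universe u

open CategoryTheory CategoryTheory.Limits MvPolynomial

namespace Groth.Agent.H69.FPApprox

variable {R : Type u} [CommRing R]

/-- A finite piece of a presentation with variables in `σ`. -/
structure Pt (R : Type u) [CommRing R] (σ : Type u) where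
  s : Finset σ
  rel : Finset (MvPolynomial σ R)
  sup : ∀ p ∈ rel, p ∈ supported R (↑s : Set σ)

variable {σ τ υ : Type u}

noncomputable abbrev Pt.I (a : Pt R σ) : Ideal (supported R (↑a.s : Set σ)) :=
  Ideal.span {x | x.1 ∈ a.rel}

def Q (a : Pt R σ) : Type u := supported R (↑a.s : Set σ) ⧸ a.I

noncomputable instance commRingQ (a : Pt R σ) : CommRing (Q a) := Ideal.Quotient.commRing a.I

noncomputable instance algebraQ (a : Pt R σ) : Algebra R (Q a) := Ideal.Quotient.algebra R

noncomputable def cls (a : Pt R σ) : supported R (↑a.s : Set σ) →ₐ[R] Q a := Ideal.Quotient.mkₐ R a.I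

theorem cls_surjective (a : Pt R σ) : Function.Surjective (cls a) := Ideal.Quotient.mkₐ_surjective R a.I

theorem cls_eq_zero_iff (a : Pt R σ) (x : supported R (↑a.s : Set σ)) : cls a x = 0 ↔ x ∈ a.I :=
  Ideal.Quotient.eq_zero_iff_mem

theorem cls_eq_zero (a : Pt R σ) {x : supported R (↑a.s : Set σ)} (h : x.1 ∈ a.rel) : cls a x = 0 :=
  Ideal.Quotient.eq_zero_iff_mem.2 (Ideal.subset_span h)

theorem X_mem (a : Pt R σ) {x : σ} (hx : x ∈ a.s) : (X x : MvPolynomial σ R) ∈ supported R (↑a.s : Set σ) :=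
  Algebra.subset_adjoin (Set.mem_image_of_mem X hx)

noncomputable def gen (a : Pt R σ) (x : σ) (hx : x ∈ a.s) : Q a := cls a ⟨X x, X_mem a hx⟩

instance finitePresentation_supported (s : Finset σ) :
    Algebra.FinitePresentation R (supported R (↑s : Set σ)) :=
  Algebra.FinitePresentation.equiv (supportedEquivMvPolynomial (R := R) (↑s : Set σ)).symm

theorem finitePresentation_Q (a : Pt R σ) : Algebra.FinitePresentation R (Q a) := by
  show Algebra.FinitePresentation R (supported R (↑a.s : Set σ) ⧸ a.I)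
  refine Algebra.FinitePresentation.quotient (Submodule.fg_span ?_)
  exact a.rel.finite_toSet.preimage (fun x _ y _ h => Subtype.ext h)

theorem rename_mem (g : σ → τ) {s : Finset σ} {t : Finset τ} (hs : ∀ x ∈ s, g x ∈ t)
    {p : MvPolynomial σ R} (hp : p ∈ supported R (↑s : Set σ)) :
    rename g p ∈ supported R (↑t : Set τ) := by
  classical
  rw [mem_supported] at hp ⊢
  intro y hy
  obtain ⟨x, hx, rfl⟩ := Finset.mem_image.1 (vars_rename g p hy)
  exact hs x (hp hx)

/-- The map on the polynomial rings. -/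
noncomputable def ren (g : σ → τ) (a : Pt R σ) (b : Pt R τ) (hs : ∀ x ∈ a.s, g x ∈ b.s) :
    supported R (↑a.s : Set σ) →ₐ[R] supported R (↑b.s : Set τ) :=
  ((rename g).comp (supported R (↑a.s : Set σ)).val).codRestrict _ fun x => rename_mem g hs x.2

theorem ren_val (g : σ → τ) (a : Pt R σ) (b : Pt R τ) (hs : ∀ x ∈ a.s, g x ∈ b.s)
    (x : supported R (↑a.s : Set σ)) : (ren g a b hs x).1 = rename g x.1 := rfl

noncomputable def mapQ (g : σ → τ) (a : Pt R σ) (b : Pt R τ) (hs : ∀ x ∈ a.s, g x ∈ b.s)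
    (hr : ∀ p ∈ a.rel, rename g p ∈ b.rel) : Q a →ₐ[R] Q b :=
  Ideal.Quotient.liftₐ a.I ((cls b).comp (ren g a b hs)) fun x hx => by
    have : a.I ≤ RingHom.ker ((cls b).comp (ren g a b hs)) :=
      Ideal.span_le.2 fun y hy => cls_eq_zero b (hr _ hy)
    exact this hx

theorem mapQ_cls (g : σ → τ) (a : Pt R σ) (b : Pt R τ) (hs : ∀ x ∈ a.s, g x ∈ b.s)
    (hr : ∀ p ∈ a.rel, rename g p ∈ b.rel) (x : supported R (↑a.s : Set σ)) :
    mapQ g a b hs hr (cls a x) = cls b (ren g a b hs x) := rfl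

theorem mapQ_gen (g : σ → τ) (a : Pt R σ) (b : Pt R τ) (hs : ∀ x ∈ a.s, g x ∈ b.s)
    (hr : ∀ p ∈ a.rel, rename g p ∈ b.rel) {x : σ} (hx : x ∈ a.s) :
    mapQ g a b hs hr (gen a x hx) = gen b (g x) (hs x hx) := by
  refine congrArg (cls b) (Subtype.ext ?_)
  exact rename_X g x

theorem mapQ_mapQ (g : σ → τ) (g' : τ → υ) (g'' : σ → υ) (hgg : ∀ x, g' (g x) = g'' x)
    (a : Pt R σ) (b : Pt R τ) (c : Pt R υ) (hs : ∀ x ∈ a.s, g x ∈ b.s) (hr : ∀ p ∈ a.rel, rename g p ∈ b.rel)
    (hs' : ∀ x ∈ b.s, g' x ∈ c.s) (hr' : ∀ p ∈ b.rel, rename g' p ∈ c.rel)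
    (hs'' : ∀ x ∈ a.s, g'' x ∈ c.s) (hr'' : ∀ p ∈ a.rel, rename g'' p ∈ c.rel) (y : Q a) :
    mapQ g' b c hs' hr' (mapQ g a b hs hr y) = mapQ g'' a c hs'' hr'' y := by
  obtain ⟨x, rfl⟩ := cls_surjective a y
  refine congrArg (cls c) (Subtype.ext ?_)
  show rename g' (rename g x.1) = rename g'' x.1
  rw [rename_rename, show g' ∘ g = g'' from funext hgg]

theorem mapQ_self (a : Pt R σ) (hs : ∀ x ∈ a.s, id x ∈ a.s) (hr : ∀ p ∈ a.rel, rename id p ∈ a.rel)
    (y : Q a) : mapQ id a a hs hr y = y := by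
  obtain ⟨x, rfl⟩ := cls_surjective a y
  exact congrArg (cls a) (Subtype.ext (rename_id_apply x.1))

variable {A : Type u} [CommRing A] [Algebra R A]

/-- The map to the algebra being presented. -/
noncomputable def ev (v : σ → A) (a : Pt R σ) (h : ∀ p ∈ a.rel, aeval v p = 0) : Q a →ₐ[R] A :=
  Ideal.Quotient.liftₐ a.I ((aeval v).comp (supported R (↑a.s : Set σ)).val) fun x hx => by
    have : a.I ≤ RingHom.ker ((aeval v).comp (supported R (↑a.s : Set σ)).val) :=
      Ideal.span_le.2 fun y hy => h _ hy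
    exact this hx

theorem ev_cls (v : σ → A) (a : Pt R σ) (h : ∀ p ∈ a.rel, aeval v p = 0) (x : supported R (↑a.s : Set σ)) :
    ev v a h (cls a x) = aeval v x.1 := rfl

theorem ev_gen (v : σ → A) (a : Pt R σ) (h : ∀ p ∈ a.rel, aeval v p = 0) {x : σ} (hx : x ∈ a.s) :
    ev v a h (gen a x hx) = v x := aeval_X v x

theorem ev_mapQ {B : Type u} [CommRing B] [Algebra R B] (φ : A →ₐ[R] B) (g : σ → τ) (v : σ → A) (w : τ → B)
    (hvw : ∀ x, w (g x) = φ (v x)) (a : Pt R σ) (b : Pt R τ) (hs : ∀ x ∈ a.s, g x ∈ b.s)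
    (hr : ∀ p ∈ a.rel, rename g p ∈ b.rel) (ha : ∀ p ∈ a.rel, aeval v p = 0)
    (hb : ∀ p ∈ b.rel, aeval w p = 0) (y : Q a) :
    ev w b hb (mapQ g a b hs hr y) = φ (ev v a ha y) := by
  obtain ⟨x, rfl⟩ := cls_surjective a y
  show aeval w (rename g x.1) = φ (aeval v x.1)
  rw [aeval_rename, comp_aeval_apply]
  exact congrFun (congrArg DFunLike.coe (congrArg aeval (funext hvw : w ∘ g = fun x => φ (v x)))) x.1

/-- An algebra map into `Q b` hitting all generators is surjective. -/
theorem surjective_of_gens {S : Type u} [CommRing S] [Algebra R S] (b : Pt R τ) (φ : S →ₐ[R] Q b)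
    (h : ∀ x (hx : x ∈ b.s), gen b x hx ∈ φ.range) : Function.Surjective φ := by
  intro y
  obtain ⟨⟨p, hp⟩, rfl⟩ := cls_surjective b y
  change cls b ⟨p, hp⟩ ∈ φ.range
  induction hp using Algebra.adjoin_induction with
  | mem x hx =>
    obtain ⟨z, hz, rfl⟩ := hx
    exact h z hz
  | algebraMap r => exact Subalgebra.algebraMap_mem φ.range r
  | add x y hx hy px py =>
    have : cls b ⟨x + y, add_mem hx hy⟩ = cls b ⟨x, hx⟩ + cls b ⟨y, hy⟩ := rfl
    rw [this]; exact add_mem px py
  | mul x y hx hy px py =>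
    have : cls b ⟨x * y, mul_mem hx hy⟩ = cls b ⟨x, hx⟩ * cls b ⟨y, hy⟩ := rfl
    rw [this]; exact mul_mem px py

/-- An algebra map into `Q b` over which all generators are integral is integral. -/
theorem isIntegral_of_gens {S : Type u} [CommRing S] [Algebra R S] (b : Pt R τ) (φ : S →ₐ[R] Q b)
    (h : ∀ x (hx : x ∈ b.s), φ.toRingHom.IsIntegralElem (gen b x hx)) : φ.toRingHom.IsIntegral := by
  intro y
  obtain ⟨⟨p, hp⟩, rfl⟩ := cls_surjective b y
  induction hp using Algebra.adjoin_induction with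
  | mem x hx =>
    obtain ⟨z, hz, rfl⟩ := hx
    exact h z hz
  | algebraMap r =>
    have : cls b ⟨algebraMap R _ r, Subalgebra.algebraMap_mem _ r⟩ = φ.toRingHom (algebraMap R S r) :=
      (φ.commutes r).symm
    rw [this]; exact φ.toRingHom.isIntegralElem_map
  | add x y hx hy px py =>
    have : cls b ⟨x + y, add_mem hx hy⟩ = cls b ⟨x, hx⟩ + cls b ⟨y, hy⟩ := rfl
    rw [this]; exact @RingHom.IsIntegralElem.add S (Q b) _ _ φ.toRingHom _ _ px py
  | mul x y hx hy px py =>
    have : cls b ⟨x * y, mul_mem hx hy⟩ = cls b ⟨x, hx⟩ * cls b ⟨y, hy⟩ := rfl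
    rw [this]; exact @RingHom.IsIntegralElem.mul S (Q b) _ _ φ.toRingHom _ _ px py

/-- Pass from equality of images to vanishing of a difference. -/
theorem exists_rel_of_ev_eq (v : σ → A) (a : Pt R σ) (h : ∀ p ∈ a.rel, aeval v p = 0) {y z : Q a}
    (hyz : ev v a h y = ev v a h z) : ∃ d : supported R (↑a.s : Set σ), aeval v d.1 = 0 ∧ y = z + cls a d := by
  obtain ⟨d, hd⟩ := cls_surjective a (y - z)
  refine ⟨d, ?_, by rw [hd]; ring⟩
  rw [← ev_cls v a h, hd, map_sub, hyz, sub_self]

/-- Bundle an `R`-algebra as an object under `R`. -/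
noncomputable abbrev mkU (R : Type u) [CommRing R] (A : Type u) [CommRing A] [Algebra R A] :
    Under (CommRingCat.of R) :=
  Under.mk (CommRingCat.ofHom (algebraMap R A))

noncomputable def homU {A B : Type u} [CommRing A] [CommRing B] [Algebra R A] [Algebra R B]
    (f : A →ₐ[R] B) : mkU R A ⟶ mkU R B :=
  Under.homMk (CommRingCat.ofHom f.toRingHom) (by ext r; exact f.commutes r)

theorem homU_apply {A B : Type u} [CommRing A] [CommRing B] [Algebra R A] [Algebra R B]
    (f : A →ₐ[R] B) (x : A) : (homU f).right.hom x = f x := rfl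

theorem hom_ext {X Y : Under (CommRingCat.of R)} (f g : X ⟶ Y) (h : ∀ x, f.right.hom x = g.right.hom x) :
    f = g := Under.UnderMorphism.ext (CommRingCat.hom_ext (RingHom.ext h))

theorem finitePresentation_hom {A : Type u} [CommRing A] [Algebra R A]
    (h : Algebra.FinitePresentation R A) : (mkU R A).hom.hom.FinitePresentation :=
  show (algebraMap R A).FinitePresentation from RingHom.finitePresentation_algebraMap.2 h

/-- Bijectivity criterion for filtered colimits under `R`. -/
theorem isColimit_of_bijective {J : Type u} [SmallCategory J] [IsFiltered J]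
    (F : J ⥤ Under (CommRingCat.of R)) (c : Cocone F)
    (hsurj : ∀ x : c.pt.right, ∃ j y, (c.ι.app j).right.hom y = x)
    (hinj : ∀ j x y, (c.ι.app j).right.hom x = (c.ι.app j).right.hom y →
      ∃ (k : J) (h : j ⟶ k), (F.map h).right.hom x = (F.map h).right.hom y) :
    Nonempty (IsColimit c) := by
  haveI : IsConnected J := IsFiltered.isConnected J
  haveI : ReflectsColimitsOfShape J (forget CommRingCat.{u}) :=
    reflectsColimitsOfShape_of_reflectsIsomorphisms
  refine ⟨isColimitOfReflects (Under.forget _ ⋙ forget CommRingCat) ?_⟩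
  refine Types.FilteredColimit.isColimitOf' _ _ (fun x => ?_) (fun j x y h => hinj j x y h)
  obtain ⟨j, y, hy⟩ := hsurj x
  exact ⟨j, y, hy.symm⟩

end Groth.Agent.H69.FPApprox
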