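import Mathlib.CategoryTheory.Limits.Types.Filtered
import Mathlib.Algebra.Category.Ring.FilteredColimits
import Mathlib.CategoryTheory.Limits.Preserves.Over
import Groth.Agent.H69.PreservesLfp

/-!
# An algebra whose Hom preserves directed colimits is finitely presented
-/

set_option autoImplicit false
set_option linter.style.haveILetI false
set_option backward.isDefEq.respectTransparency false
universe u
open CategoryTheory CategoryTheory.Limits

namespace Groth.Agent.H69.FPOfPreserves

variable {A B : CommRingCat.{u}} (f : A ⟶ B)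

/-- A cocone in `Under A` on the underlying rings is colimiting by the usual criterion. -/
theorem factor (J : Type u) [Preorder J] [IsDirected J (· ≤ ·)] [Nonempty J] (F : J ⥤ Under A)
    (h : PreservesColimit F (coyoneda.obj (Opposite.op (Under.mk f))))
    (ι : F ⟶ (Functor.const J).obj (Under.mk f))
    (hs : ∀ b : B, ∃ j x, (ι.app j).right.hom x = b)
    (hi : ∀ j x y, (ι.app j).right.hom x = (ι.app j).right.hom y →
      ∃ (k : J) (a : j ⟶ k), (F.map a).right.hom x = (F.map a).right.hom y) :
    ∃ (j : J) (σ : Under.mk f ⟶ F.obj j), σ ≫ ι.app j = 𝟙 _ := by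
  haveI : ReflectsColimitsOfShape J (forget CommRingCat.{u}) :=
    reflectsColimitsOfShape_of_reflectsIsomorphisms
  haveI : ReflectsColimitsOfShape J (Under.forget A) :=
    reflectsColimitsOfShape_of_reflectsIsomorphisms
  let c : Cocone F := ⟨Under.mk f, ι⟩
  have hc : IsColimit c := by
    refine isColimitOfReflects (Under.forget A) (isColimitOfReflects (forget CommRingCat.{u})
      (Types.FilteredColimit.isColimitOf' _ _ (fun b => ?_) fun j x y e => ?_))
    · obtain ⟨j, x, hx⟩ := hs b
      exact ⟨j, x, hx.symm⟩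
    · obtain ⟨k, a, ha⟩ := hi j x y e
      exact ⟨k, a, ha⟩
  obtain ⟨j, σ, hσ⟩ := Types.jointly_surjective _
    (isColimitOfPreserves (coyoneda.obj (Opposite.op (Under.mk f))) hc) (𝟙 (Under.mk f))
  exact ⟨j, σ, hσ⟩

variable (A' B' : Type u) [CommRing A'] [CommRing B'] [Algebra A' B']

/-- The system of finitely generated subalgebras. -/
noncomputable def subDiag : Finset B' ⥤ Under (CommRingCat.of A') where
  obj s := Under.mk (CommRingCat.ofHom (algebraMap A' (Algebra.adjoin A' (s : Set B'))))
  map {s t} a := Under.homMk (CommRingCat.ofHom (Subalgebra.inclusion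
      (Algebra.adjoin_mono (Finset.coe_subset.mpr (leOfHom a)))).toRingHom)
    (CommRingCat.hom_ext (RingHom.ext fun _ => rfl))
  map_id _ := Under.UnderMorphism.ext (CommRingCat.hom_ext (RingHom.ext fun _ => rfl))
  map_comp _ _ := Under.UnderMorphism.ext (CommRingCat.hom_ext (RingHom.ext fun _ => rfl))

/-- The inclusions. -/
noncomputable def subι : subDiag A' B' ⟶
    (Functor.const _).obj (Under.mk (CommRingCat.ofHom (algebraMap A' B'))) where
  app s := Under.homMk (CommRingCat.ofHom (Algebra.adjoin A' (s : Set B')).val.toRingHom)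
    (CommRingCat.hom_ext (RingHom.ext fun _ => rfl))
  naturality _ _ _ := Under.UnderMorphism.ext (CommRingCat.hom_ext (RingHom.ext fun _ => rfl))

variable {A' B'} {P : Type u} [CommRing P] [Algebra A' P] (π : P →ₐ[A'] B')

/-- The system of quotients of `P` by finitely many relations in the kernel. -/
noncomputable def quotDiag : Finset (RingHom.ker π.toRingHom) ⥤ Under (CommRingCat.of A') where
  obj t := Under.mk (CommRingCat.ofHom (algebraMap A'
    (P ⧸ Ideal.span (Subtype.val '' (t : Set (RingHom.ker π.toRingHom))))))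
  map {t t'} a := Under.homMk (CommRingCat.ofHom (Ideal.Quotient.factor
      (Ideal.span_mono (Set.image_mono (Finset.coe_subset.mpr (leOfHom a))))))
    (CommRingCat.hom_ext (RingHom.ext fun _ => rfl))
  map_id t := Under.UnderMorphism.ext (CommRingCat.hom_ext (Ideal.Quotient.ringHom_ext
    (RingHom.ext fun _ => rfl)))
  map_comp a b := Under.UnderMorphism.ext (CommRingCat.hom_ext (Ideal.Quotient.ringHom_ext
    (RingHom.ext fun _ => rfl)))

/-- The map induced on a quotient by relations. -/
noncomputable def quotMap (t : Finset (RingHom.ker π.toRingHom)) :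
    (P ⧸ Ideal.span (Subtype.val '' (t : Set (RingHom.ker π.toRingHom)))) →ₐ[A'] B' :=
  Ideal.Quotient.liftₐ _ π fun x hx =>
    (Ideal.span_le.2 (by rintro _ ⟨z, -, rfl⟩; exact z.2) hx : x ∈ RingHom.ker π.toRingHom)

/-- The induced maps. -/
noncomputable def quotι : quotDiag π ⟶
    (Functor.const _).obj (Under.mk (CommRingCat.ofHom (algebraMap A' B'))) where
  app t := Under.homMk (CommRingCat.ofHom (quotMap π t).toRingHom)
    (CommRingCat.hom_ext (RingHom.ext fun a => (quotMap π t).commutes a))
  naturality _ _ _ := Under.UnderMorphism.ext (CommRingCat.hom_ext (Ideal.Quotient.ringHom_ext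
    (RingHom.ext fun _ => rfl)))

theorem finitePresentation
    (h : ∀ (J : Type u) [Preorder J] [IsDirected J (· ≤ ·)] [Nonempty J]
      (F : J ⥤ Under (CommRingCat.of A')),
      PreservesColimit F (coyoneda.obj
        (Opposite.op (Under.mk (CommRingCat.ofHom (algebraMap A' B')))))) :
    Algebra.FinitePresentation A' B' := by
  classical
  obtain ⟨s, σ, hσ⟩ := factor (CommRingCat.ofHom (algebraMap A' B')) (Finset B') (subDiag A' B')
    (h _ _) (subι A' B')
    (fun b => ⟨{b}, ⟨b, Algebra.subset_adjoin (Finset.mem_coe.mpr (Finset.mem_singleton_self _))⟩, rfl⟩)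
    (fun j x y e => ⟨j, 𝟙 _, by rw [show x = y from Subtype.ext e]⟩)
  have htop : Algebra.adjoin A' (s : Set B') = ⊤ := eq_top_iff.2 fun b _ => by
    let z : Algebra.adjoin A' (s : Set B') := σ.right.hom b
    have e : (z : B') = b := congrArg (fun φ => φ.right.hom b) hσ
    exact e ▸ z.2
  haveI : Algebra.FiniteType A' B' := ⟨⟨s, htop⟩⟩
  obtain ⟨n, π, hπ⟩ := Algebra.FiniteType.iff_quotient_mvPolynomial''.1 ‹Algebra.FiniteType A' B'›
  obtain ⟨t, τ, hτ⟩ := factor (CommRingCat.ofHom (algebraMap A' B')) _ (quotDiag π) (h _ _) (quotι π)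
    (fun b => by
      obtain ⟨x, hx⟩ := hπ b
      exact ⟨∅, Ideal.Quotient.mk _ x, hx⟩)
    (fun t x y e => by
      obtain ⟨x, rfl⟩ := Ideal.Quotient.mk_surjective x
      obtain ⟨y, rfl⟩ := Ideal.Quotient.mk_surjective y
      have hxy : x - y ∈ RingHom.ker π.toRingHom := by
        simp only [RingHom.mem_ker, map_sub, sub_eq_zero]
        exact e
      refine ⟨insert ⟨x - y, hxy⟩ t, homOfLE (Finset.subset_insert _ _), ?_⟩
      show Ideal.Quotient.mk _ x = Ideal.Quotient.mk _ y
      exact Ideal.Quotient.eq.2 (Ideal.subset_span ⟨⟨x - y, hxy⟩, by simp, rfl⟩))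
  let R := MvPolynomial (Fin n) A' ⧸
    Ideal.span (Subtype.val '' (t : Set (RingHom.ker π.toRingHom)))
  haveI : Algebra.FinitePresentation A' R :=
    Algebra.FinitePresentation.quotient (Submodule.fg_span (t.finite_toSet.image _))
  let σ' : B' →+* R := τ.right.hom
  exact Groth.Agent.H69.PreservesLfp.finitePresentation_of_retract
    (A := A') (B := B') (C := R) (quotMap π t)
    (AlgHom.mk σ' fun a => congrArg (fun φ : CommRingCat.of A' ⟶ _ => φ.hom a) (Under.w τ))
    (AlgHom.ext fun b => congrArg (fun φ => φ.right.hom b) hτ)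

end Groth.Agent.H69.FPOfPreserves
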