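import Groth.Agent.S1448
import Groth.Agent.Lib.FibreDeg.Basic

/-!
# The degree of a locally quasi-finite scheme over a field, computed on quasi-compact opens
-/

set_option autoImplicit false
set_option backward.isDefEq.respectTransparency false
universe u
open CategoryTheory CategoryTheory.Limits AlgebraicGeometry TopologicalSpace Opposite

namespace Groth.Agent.H69.FibreDegLQF

theorem res_surjective_of_isClosed {Z : Scheme.{u}} (V : Z.Opens) (hV : IsClosed (V : Set Z)) :
    Function.Surjective (Z.presheaf.map (homOfLE (x := V) le_top).op).hom := by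
  intro s
  let C : Z.Opens := ⟨(V : Set Z)ᶜ, hV.isOpen_compl⟩
  let U : Bool → Z.Opens := fun b => bif b then V else C
  let sf : ∀ b : Bool, Γ(Z, U b) := fun b => match b with
    | true => s
    | false => 0
  have hbot : ∀ (O : Z.Opens), O ≤ V → O ≤ C → Subsingleton Γ(Z, O) := fun O h1 h2 => by
    obtain rfl : O = ⊥ := eq_bot_iff.2 fun x hx => (h2 hx (h1 hx)).elim
    infer_instance
  have hcomp : TopCat.Presheaf.IsCompatible Z.sheaf.1 U sf := by
    rintro (_ | _) (_ | _)
    · rfl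
    · exact (hbot _ inf_le_right inf_le_left).elim _ _
    · exact (hbot _ inf_le_left inf_le_right).elim _ _
    · rfl
  obtain ⟨t, ht, -⟩ := Z.sheaf.existsUnique_gluing' U ⊤ (fun b => homOfLE le_top) (fun x _ => by
    refine Opens.mem_iSup.2 ?_
    by_cases hx : x ∈ V
    exacts [⟨true, hx⟩, ⟨false, hx⟩]) sf hcomp
  exact ⟨t, ht true⟩

theorem eq_zero_of_cover {Z : Scheme.{u}} {ι : Type*} (U : ι → Z.Opens) (hU : ∀ z, ∃ i, z ∈ U i)
    (t : Γ(Z, ⊤)) (h : ∀ i, (U i).ι.appTop.hom t = 0) : t = 0 := by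
  refine Z.sheaf.eq_of_locally_eq' (fun i => (U i).ι ''ᵁ ⊤) ⊤ (fun i => homOfLE le_top)
    (fun z _ => ?_) t 0 (fun i => ?_)
  · obtain ⟨i, hi⟩ := hU z
    exact Opens.mem_iSup.2 ⟨i, ⟨z, hi⟩, trivial, rfl⟩
  · rw [map_zero]
    exact h i

variable {K : Type u} [Field K] {Z : Scheme.{u}} (p : Z ⟶ Spec (CommRingCat.of K))

/-- The rank of the functions. -/
noncomputable def rank : Cardinal.{u} :=
  letI := BddFib.secAlgebra (CommRingCat.of K) p
  Module.rank K (Γ(Z, ⊤) : Type u)

theorem rank_eq_of_isFinite [IsFinite p] {r : ℕ} (hr : ∀ t, p.finrank t = r) : rank p = r := by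
  letI := BddFib.secAlgebra (CommRingCat.of K) p
  obtain ⟨-, hfin, hle⟩ := (Lib.FibreDeg.Basic.finiteOfDegLE_iff p r).2 ⟨‹_›, fun s => (hr s).le⟩
  have hge : r ≤ Module.finrank K Γ(Z, ⊤) := by
    obtain ⟨-, h⟩ := (Lib.FibreDeg.Basic.finiteOfDegLE_iff p (Module.finrank K Γ(Z, ⊤))).1
      ⟨isAffine_of_isAffineHom p, hfin, le_rfl⟩
    exact hr (IsLocalRing.closedPoint K) ▸ h _
  show Module.rank K (Γ(Z, ⊤) : Type u) = r
  rw [← le_antisymm hle hge]
  exact (Module.finrank_eq_rank K _).symm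

theorem isClosed_range_of_isFinite [IsSeparated p] (W : Z.Opens) [IsFinite (W.ι ≫ p)] :
    IsClosed (W : Set Z) := by
  haveI : UniversallyClosed W.ι := UniversallyClosed.of_comp_of_isSeparated W.ι p
  have := W.ι.isClosedMap.isClosed_range
  rwa [Scheme.Opens.range_ι] at this

/-- The restriction of functions to an open. -/
noncomputable def res (W : Z.Opens) :
    letI := BddFib.secAlgebra (CommRingCat.of K) p
    letI := BddFib.secAlgebra (CommRingCat.of K) (W.ι ≫ p)
    Γ(Z, ⊤) →ₗ[K] Γ(W, ⊤) :=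
  letI := BddFib.secAlgebra (CommRingCat.of K) p
  letI := BddFib.secAlgebra (CommRingCat.of K) (W.ι ≫ p)
  { toFun := W.ι.appTop.hom
    map_add' := map_add _
    map_smul' := fun r m => by
      rw [Algebra.smul_def, Algebra.smul_def, map_mul]
      rfl }

theorem rank_le_of_isFinite [IsSeparated p] (W : Z.Opens) [IsFinite (W.ι ≫ p)] :
    rank (W.ι ≫ p) ≤ rank p := by
  letI := BddFib.secAlgebra (CommRingCat.of K) p
  letI := BddFib.secAlgebra (CommRingCat.of K) (W.ι ≫ p)
  refine LinearMap.rank_le_of_surjective (res p W) ?_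
  refine res_surjective_of_isClosed (W.ι ''ᵁ ⊤) ?_
  rw [show ((W.ι ''ᵁ ⊤ : Z.Opens) : Set Z) = W by simp]
  exact isClosed_range_of_isFinite p W

/-- Finitely many independent functions stay independent on some member of a directed cover. -/
theorem exists_le_rank {ι : Type*} (U : ι → Z.Opens) (hU : ∀ z, ∃ i, z ∈ U i) [Nonempty ι]
    (hdir : ∀ i j, ∃ k, U i ≤ U k ∧ U j ≤ U k) {d : ℕ} (hd : (d : Cardinal.{u}) ≤ rank p) :
    ∃ i, (d : Cardinal.{u}) ≤ rank ((U i).ι ≫ p) := by
  classical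
  letI := BddFib.secAlgebra (CommRingCat.of K) p
  obtain ⟨v, hv⟩ := Module.le_rank_iff.1 hd
  let V := Submodule.span K (Set.range v)
  haveI : FiniteDimensional K V := FiniteDimensional.span_of_finite K (Set.finite_range v)
  let ker : ι → Submodule K V := fun i =>
    letI := BddFib.secAlgebra (CommRingCat.of K) ((U i).ι ≫ p)
    LinearMap.ker ((res p (U i)).comp V.subtype)
  have hex : ∃ n, ∃ i, Module.finrank K (ker i) = n := ⟨_, Classical.arbitrary ι, rfl⟩
  obtain ⟨i, hi⟩ := Nat.find_spec hex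
  have hmono : ∀ i k, U i ≤ U k → ker k ≤ ker i := fun i k hik x hx => by
    change (U i).ι.appTop.hom x.1 = 0
    change (U k).ι.appTop.hom x.1 = 0 at hx
    rw [← Z.homOfLE_ι hik, Scheme.Hom.comp_appTop, CommRingCat.hom_comp, RingHom.comp_apply, hx,
      map_zero]
  have hbot : ker i = ⊥ := by
    rw [eq_bot_iff]
    intro x hx
    rw [Submodule.mem_bot]
    refine Subtype.ext (eq_zero_of_cover U hU x.1 fun j => ?_)
    obtain ⟨k, hik, hjk⟩ := hdir i j
    have heq : ker k = ker i := Submodule.eq_of_le_of_finrank_le (hmono i k hik)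
      (hi.le.trans (Nat.find_min' hex ⟨k, rfl⟩))
    exact hmono j k hjk (heq.ge hx)
  refine ⟨i, ?_⟩
  letI := BddFib.secAlgebra (CommRingCat.of K) ((U i).ι ≫ p)
  refine Module.le_rank_iff.2 ⟨fun n => res p (U i) (v n), ?_⟩
  have h2 : LinearIndependent K (fun n => (⟨v n, Submodule.subset_span ⟨n, rfl⟩⟩ : V)) :=
    LinearIndependent.of_comp V.subtype hv
  exact h2.map' ((res p (U i)).comp V.subtype) hbot

variable {X S : Scheme.{u}} (f : X ⟶ S) [Flat f] [LocallyOfFinitePresentation f] [IsSeparated f]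
  [LocallyQuasiFinite f]

/-- A quasi-compact open of `X` over an affine open of `S`. -/
structure Chart where
  base : S.Opens
  hbase : IsAffineOpen base
  src : X.Opens
  le : src ≤ f ⁻¹ᵁ base
  compact : IsCompact (src : Set X)

/-- The morphism of a chart. -/
noncomputable def Chart.hom (c : Chart f) : (c.src : Scheme.{u}) ⟶ c.base :=
  X.homOfLE c.le ≫ (f ∣_ c.base)

theorem Chart.hom_ι (c : Chart f) : c.hom f ≫ c.base.ι = c.src.ι ≫ f := by
  rw [Chart.hom, Category.assoc, morphismRestrict_ι, ← Category.assoc, Scheme.homOfLE_ι]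

instance (c : Chart f) : Flat (c.hom f) := by unfold Chart.hom; infer_instance
instance (c : Chart f) : LocallyOfFinitePresentation (c.hom f) := by unfold Chart.hom; infer_instance
instance (c : Chart f) : IsSeparated (c.hom f) := by
  unfold Chart.hom
  haveI : IsSeparated (f ∣_ c.base) := IsZariskiLocalAtTarget.restrict ‹_› _
  infer_instance
instance (c : Chart f) : LocallyQuasiFinite (c.hom f) := by
  unfold Chart.hom
  haveI : LocallyQuasiFinite (f ∣_ c.base) := IsZariskiLocalAtTarget.restrict ‹_› _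
  infer_instance
instance (c : Chart f) : QuasiCompact (c.hom f) := by
  haveI : CompactSpace (c.src : Scheme.{u}) := isCompact_iff_compactSpace.1 c.compact
  haveI : IsAffine (c.base : Scheme.{u}) := c.hbase
  exact quasiCompact_of_compactSpace _

/-- The degree of a chart. -/
noncomputable def Chart.deg (c : Chart f) : ↥(c.base : Scheme.{u}) → ℕ :=
  (S1448.result (c.hom f)).choose

theorem Chart.isOpen_le_deg (c : Chart f) (d : ℕ) : IsOpen {b | d ≤ c.deg f b} := by
  cases d with
  | zero => simp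
  | succ n =>
    convert ((S1448.result (c.hom f)).choose_spec.1 n).isOpen_compl using 1
    ext b
    simp only [Set.mem_compl_iff, Set.mem_setOf_eq, Chart.deg]
    omega

theorem Chart.isFinite_and_rank (c : Chart f) {K : Type u} [Field K] (g : Spec (CommRingCat.of K) ⟶ S)
    (b : ↥(c.base : Scheme.{u})) (hb : c.base.ι b = g (IsLocalRing.closedPoint K)) :
    IsFinite ((pullback.fst f g ⁻¹ᵁ c.src).ι ≫ pullback.snd f g) ∧
      rank ((pullback.fst f g ⁻¹ᵁ c.src).ι ≫ pullback.snd f g) = c.deg f b := by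
  have hr : Set.range g ⊆ Set.range c.base.ι := by
    rintro _ ⟨t, rfl⟩
    rw [show t = IsLocalRing.closedPoint K from Subsingleton.elim (α := PrimeSpectrum K) _ _]
    exact ⟨b, hb⟩
  let g' := IsOpenImmersion.lift c.base.ι g hr
  have hg' : g' ≫ c.base.ι = g := IsOpenImmersion.lift_fac _ _ _
  let W := pullback.fst f g ⁻¹ᵁ c.src
  have hbig : IsPullback (pullback.fst f g ∣_ c.src) (W.ι ≫ pullback.snd f g) (c.hom f ≫ c.base.ι)
      (g' ≫ c.base.ι) := by
    rw [hg', c.hom_ι]
    exact (isPullback_morphismRestrict (pullback.fst f g) c.src).paste_vert (IsPullback.of_hasPullback f g)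
  have sq : IsPullback (pullback.fst f g ∣_ c.src) (W.ι ≫ pullback.snd f g) (c.hom f) g' := by
    have s1 : IsPullback (𝟙 _) (c.hom f) (c.hom f ≫ c.base.ι) c.base.ι :=
      (IsPullback.id_horiz (c.hom f)).paste_vert (IsKernelPair.id_of_mono c.base.ι)
    refine IsPullback.of_right ?_ ?_ s1
    · rw [Category.comp_id]; exact hbig
    · rw [← cancel_mono c.base.ι, Category.assoc, Category.assoc]; exact hbig.w
  obtain ⟨⟨hfin, -, -⟩, hdeg⟩ := ((S1448.result (c.hom f)).choose_spec.2.2 _ g' (c.deg f b)).2 fun t => by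
    show c.deg f (g' t) = c.deg f b
    congr 1
    apply c.base.ι.isEmbedding.injective
    rw [hb, ← Scheme.Hom.comp_apply, hg']
    exact congrArg _ (Subsingleton.elim (α := PrimeSpectrum K) _ _)
  have he : W.ι ≫ pullback.snd f g = sq.isoPullback.hom ≫ pullback.snd (c.hom f) g' :=
    sq.isoPullback_hom_snd.symm
  have hfin' : IsFinite (W.ι ≫ pullback.snd f g) := by
    rw [he, MorphismProperty.cancel_left_of_respectsIso @IsFinite]
    exact hfin
  refine ⟨hfin', ?_⟩
  haveI := Lib.FibreDeg.Basic.flat_of_field (pullback.snd (c.hom f) g')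
  refine rank_eq_of_isFinite _ fun t => ?_
  show (W.ι ≫ pullback.snd f g).finrank t = _
  rw [congrArg (fun m => Scheme.Hom.finrank m t) he]
  rw [congrFun (Scheme.Hom.finrank_comp_left_of_isIso sq.isoPullback.hom (pullback.snd (c.hom f) g')) t]
  exact hdeg t

/-- The points over which the fibre has degree at least `d`. -/
noncomputable def U (d : ℕ) : S.Opens :=
  ⨆ c : Chart f, c.base.ι ''ᵁ ⟨{b | d ≤ c.deg f b}, c.isOpen_le_deg f d⟩

theorem antitone_U : Antitone (U f) := fun d e hde => iSup_mono fun c => by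
  rintro _ ⟨b, hb, rfl⟩
  exact ⟨b, le_trans hde hb, rfl⟩

theorem U_zero : U f 0 = ⊤ := by
  refine eq_top_iff.2 fun s _ => ?_
  obtain ⟨A, hA, hsA, -⟩ := exists_isAffineOpen_mem_and_subset (X := S) (x := s) (U := ⊤) trivial
  exact Opens.mem_iSup.2 ⟨⟨A, hA, ⊥, bot_le, isCompact_empty⟩, ⟨s, hsA⟩, Nat.zero_le _, rfl⟩

theorem range_subset_U_iff {K : Type u} [Field K] (g : Spec (CommRingCat.of K) ⟶ S) (d : ℕ) :
    Set.range ⇑g ⊆ (U f d : Set S) ↔ (d : Cardinal.{u}) ≤ rank (pullback.snd f g) := by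
  haveI : IsSeparated (pullback.snd f g) := MorphismProperty.pullback_snd f g ‹_›
  let s := g (IsLocalRing.closedPoint K)
  constructor
  · intro h
    obtain ⟨c, b, hb, hbs⟩ := Opens.mem_iSup.1 (h ⟨IsLocalRing.closedPoint K, rfl⟩)
    obtain ⟨hfin, hrank⟩ := c.isFinite_and_rank f g b hbs
    haveI := hfin
    refine le_trans ?_ (rank_le_of_isFinite (pullback.snd f g) (pullback.fst f g ⁻¹ᵁ c.src))
    rw [hrank]
    exact Nat.cast_le.2 hb
  · intro h
    obtain ⟨A, hA, hsA, -⟩ := exists_isAffineOpen_mem_and_subset (X := S) (x := s) (U := ⊤) trivial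
    let J := {c : Chart f // c.base = A}
    haveI : Nonempty J := ⟨⟨⟨A, hA, ⊥, bot_le, isCompact_empty⟩, rfl⟩⟩
    obtain ⟨⟨c, hc⟩, hle⟩ := exists_le_rank (pullback.snd f g) (fun c : J => pullback.fst f g ⁻¹ᵁ c.1.src)
      (fun z => by
        have hz : pullback.fst f g z ∈ f ⁻¹ᵁ A := by
          show f (pullback.fst f g z) ∈ A
          rw [show f (pullback.fst f g z) = g (pullback.snd f g z) from congr($(pullback.condition (f := f) (g := g)) z),
            show pullback.snd f g z = IsLocalRing.closedPoint K from Subsingleton.elim (α := PrimeSpectrum K) _ _]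
          exact hsA
        obtain ⟨W, hW, hzW, hWA⟩ := exists_isAffineOpen_mem_and_subset hz
        exact ⟨⟨⟨A, hA, W, hWA, hW.isCompact⟩, rfl⟩, hzW⟩)
      (fun ⟨c, hc⟩ ⟨e, he⟩ => ⟨⟨⟨A, hA, c.src ⊔ e.src,
          sup_le (hc ▸ c.le) (he ▸ e.le), c.compact.union e.compact⟩, rfl⟩,
        fun z hz => Or.inl hz, fun z hz => Or.inr hz⟩) h
    have hsc : s ∈ c.base := hc.symm ▸ hsA
    obtain ⟨-, hrank⟩ := c.isFinite_and_rank f g ⟨s, hsc⟩ rfl
    rw [hrank, Nat.cast_le] at hle
    rintro _ ⟨t, rfl⟩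
    rw [show t = IsLocalRing.closedPoint K from Subsingleton.elim (α := PrimeSpectrum K) _ _]
    exact Opens.mem_iSup.2 ⟨c, ⟨s, hsc⟩, hle, rfl⟩

end Groth.Agent.H69.FibreDegLQF
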