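import Groth.Agent.Lib.FibreDim.Global
import Groth.Agent.H2.FibreDimPullback
import Groth.Agent.H75.RedSub
import Mathlib.AlgebraicGeometry.AffineTransitionLimit
import Mathlib.AlgebraicGeometry.Noetherian

/-!
# Fibre dimensions along a cofiltered system of morphisms of finite type
-/

set_option autoImplicit false
set_option backward.isDefEq.respectTransparency false

universe u

open CategoryTheory CategoryTheory.Limits AlgebraicGeometry TopologicalSpace Topology

namespace Groth.Agent.H69.FibreDimLimit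

open Groth.Agent.Lib

theorem localDim_le_of_isInducing {α β : Type*} [TopologicalSpace α] [TopologicalSpace β]
    {φ : α → β} (h : IsInducing φ) (a : α) : FlatMor.localDim α a ≤ FlatMor.localDim β (φ a) :=
  le_iInf fun V => iInf_le_of_le ⟨⟨φ ⁻¹' V.1, V.1.2.preimage h.continuous⟩, V.2⟩
    ((h.restrictPreimage (V.1 : Set β)).topologicalKrullDim_le)

theorem fibreDimAt_comp_le {X Y Z : Scheme.{u}} (g : X ⟶ Y) (p : Y ⟶ Z) [IsPreimmersion g]
    (x : X) : FlatMor.fibreDimAt (g ≫ p) x ≤ FlatMor.fibreDimAt p (g x) := by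
  let φ : ↥((g ≫ p).base ⁻¹' {p (g x)}) → ↥(p.base ⁻¹' {p (g x)}) := fun z =>
    ⟨g z.1, (Scheme.Hom.comp_apply g p z.1).symm.trans z.2⟩
  have hφ : IsInducing φ :=
    IsInducing.of_comp (g := Subtype.val)
      (continuous_induced_rng.mpr (g.continuous.comp continuous_subtype_val)) continuous_subtype_val
      (g.isEmbedding.isInducing.comp IsInducing.subtypeVal)
  rw [← FibreDim.Basic.localDim_preimage (g ≫ p)
      (⟨x, Scheme.Hom.comp_apply g p x⟩ : ↥((g ≫ p).base ⁻¹' {p (g x)})),
    ← FibreDim.Basic.localDim_preimage p (⟨g x, rfl⟩ : ↥(p.base ⁻¹' {p (g x)}))]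
  exact localDim_le_of_isInducing hφ _

variable {I : Type u} [SmallCategory I] {DX DS : I ⥤ Scheme.{u}} (φ : DX ⟶ DS)

theorem fibreDimAt_le_map [∀ i, LocallyOfFiniteType (φ.app i)]
    (hcl : ∀ (i j : I) (a : i ⟶ j),
      IsClosedImmersion (pullback.lift (DX.map a) (φ.app i) (φ.naturality a)))
    {i j : I} (a : i ⟶ j) (x : DX.obj i) :
    FlatMor.fibreDimAt (φ.app i) x ≤ FlatMor.fibreDimAt (φ.app j) (DX.map a x) := by
  have := hcl i j a
  let g := pullback.lift (DX.map a) (φ.app i) (φ.naturality a)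
  have h1 := fibreDimAt_comp_le g (pullback.snd (φ.app j) (DS.map a)) x
  rw [pullback.lift_snd,
    H2.FibreDimPullback.fibreDimAt_of_isPullback (IsPullback.of_hasPullback (φ.app j) (DS.map a))
      (g x), ← Scheme.Hom.comp_apply, pullback.lift_fst] at h1
  exact h1

variable {cX : Cone DX} {cS : Cone DS} [IsCofiltered I]

/-- The fibre of the limit over a point has at least the dimension of the base-changed fibre of some
stage. -/
theorem exists_stage_le_fiber (hX : IsLimit cX) (hS : IsLimit cS)
    [∀ i, LocallyOfFiniteType (φ.app i)] [∀ i, QuasiCompact (φ.app i)]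
    (hcl : ∀ (i j : I) (a : i ⟶ j),
      IsClosedImmersion (pullback.lift (DX.map a) (φ.app i) (φ.naturality a)))
    (f : cX.pt ⟶ cS.pt) (hf : ∀ i, f ≫ cS.π.app i = cX.π.app i ≫ φ.app i) (s : cS.pt) :
    ∃ k, topologicalKrullDim ↥(pullback (φ.app k) (cS.pt.fromSpecResidueField s ≫ cS.π.app k)) ≤
      topologicalKrullDim ↥(f.fiber s) := by
  let bs : ∀ j, Spec (cS.pt.residueField s) ⟶ DS.obj j := fun j =>
    cS.pt.fromSpecResidueField s ≫ cS.π.app j
  have hbs : ∀ {j k : I} (a : j ⟶ k), bs j ≫ DS.map a = bs k := fun a => by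
    simp [bs]
  let tr : ∀ {j k : I} (a : j ⟶ k), pullback (φ.app j) (bs j) ⟶ pullback (φ.app k) (bs k) :=
    fun {j k} a => pullback.lift (pullback.fst _ _ ≫ DX.map a) (pullback.snd _ _)
      (by rw [Category.assoc, φ.naturality, pullback.condition_assoc, hbs a])
  have htr : ∀ {j k : I} (a : j ⟶ k), IsClosedImmersion (tr a) := fun {j k} a => by
    let g := pullback.lift (DX.map a) (φ.app j) (φ.naturality a)
    let m : pullback (φ.app k) (bs k) ⟶ pullback (φ.app k) (DS.map a) :=
      pullback.lift (pullback.fst _ _) (pullback.snd _ _ ≫ bs j)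
        (by rw [Category.assoc, hbs a, pullback.condition])
    have h1 : IsPullback m (pullback.snd (φ.app k) (bs k)) (pullback.snd (φ.app k) (DS.map a))
        (bs j) := by
      refine IsPullback.of_right ?_ (pullback.lift_snd _ _ _)
        (IsPullback.of_hasPullback (φ.app k) (DS.map a))
      rw [pullback.lift_fst, hbs a]
      exact IsPullback.of_hasPullback _ _
    have h2 : IsPullback (pullback.fst (φ.app j) (bs j)) (tr a) g m := by
      refine IsPullback.of_bot ?_ ?_ h1
      · rw [pullback.lift_snd, pullback.lift_snd]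
        exact IsPullback.of_hasPullback _ _
      · apply pullback.hom_ext
        · simp [g, m, tr]
        · simp [g, m, tr, pullback.condition]
    exact MorphismProperty.of_isPullback (P := @IsClosedImmersion) h2 (hcl j k a)
  have htr_comp : ∀ {j k l : I} (a : j ⟶ k) (b : k ⟶ l), tr a ≫ tr b = tr (a ≫ b) := fun a b => by
    apply pullback.hom_ext <;> simp [tr]
  obtain ⟨i₀⟩ := IsCofiltered.nonempty (C := I)
  let A₀ := pullback (φ.app i₀) (bs i₀)
  have : IsLocallyNoetherian A₀ :=
    LocallyOfFiniteType.isLocallyNoetherian (pullback.snd (φ.app i₀) (bs i₀))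
  have : CompactSpace A₀ := QuasiCompact.compactSpace_of_compactSpace (pullback.snd (φ.app i₀) (bs i₀))
  have : IsNoetherian A₀ := {}
  let R : Over i₀ → Closeds A₀ := fun j => ⟨Set.range (tr j.hom),
    (htr j.hom).isClosedEmbedding.isClosed_range⟩
  obtain ⟨_, ⟨j₀, rfl⟩, hmin⟩ := wellFounded_lt.has_min (Set.range R) ⟨_, Over.mk (𝟙 i₀), rfl⟩
  let k := j₀.left
  have hsurj : ∀ j : Over k, Surjective (tr j.hom) := fun j => by
    have e : tr (j.hom ≫ j₀.hom) = tr j.hom ≫ tr j₀.hom := (htr_comp _ _).symm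
    have hle : R (Over.mk (j.hom ≫ j₀.hom)) ≤ R j₀ := by
      rintro _ ⟨z, rfl⟩
      exact ⟨tr j.hom z, by
        show _ = tr (j.hom ≫ j₀.hom) z
        rw [e, Scheme.Hom.comp_apply]⟩
    have heq : R (Over.mk (j.hom ≫ j₀.hom)) = R j₀ := hle.eq_or_lt.resolve_right (hmin _ ⟨_, rfl⟩)
    refine ⟨fun w => ?_⟩
    have hw : tr j₀.hom w ∈ R (Over.mk (j.hom ≫ j₀.hom)) := heq ▸ ⟨w, rfl⟩
    obtain ⟨z, hz⟩ := hw
    refine ⟨z, (htr j₀.hom).isClosedEmbedding.injective ?_⟩
    rw [← Scheme.Hom.comp_apply, ← e]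
    exact hz
  let A := pullback (φ.app k) (bs k)
  let T := A.nilradical.subscheme
  have : IsReduced T := by
    show IsReduced A.nilradical.subscheme
    rw [← Scheme.IdealSheafData.vanishingIdeal_top]
    exact H75.RedSub.isReduced_vanishingIdeal _
  let ι : T ⟶ A := A.nilradical.subschemeι
  have hι : Function.Surjective ι := Set.range_eq_univ.mp (by
    rw [Scheme.IdealSheafData.range_subschemeι, Scheme.support_nilradical]
    rfl)
  have hlift : ∀ j : Over k, ∃ l : T ⟶ pullback (φ.app j.left) (bs j.left), l ≫ tr j.hom = ι :=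
    fun j => by
      have := hsurj j
      have := htr j.hom
      have : IsIso (pullback.snd (tr j.hom) ι) := by
        exact isIso_of_isClosedImmersion_of_surjective _
      exact ⟨inv (pullback.snd (tr j.hom) ι) ≫ pullback.fst _ _, by
        rw [Category.assoc, pullback.condition, IsIso.inv_hom_id_assoc]⟩
  choose l hl using hlift
  have hnat : ∀ {j j' : Over k} (b : j ⟶ j'), l j ≫ tr b.left = l j' := fun {j j'} b => by
    have := htr j'.hom
    rw [← cancel_mono (tr j'.hom), Category.assoc, htr_comp, Over.w b, hl, hl]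
  let κ : T ⟶ Spec (cS.pt.residueField s) := ι ≫ pullback.snd _ _
  have hκ : ∀ j, l j ≫ pullback.snd _ _ = κ := fun j => by
    show _ = ι ≫ _
    rw [← hl j, Category.assoc, pullback.lift_snd]
  let sc : Cone (Over.forget k ⋙ DX) :=
    { pt := T
      π :=
        { app := fun j => l j ≫ pullback.fst _ _
          naturality := fun j j' b => by
            show 𝟙 T ≫ l j' ≫ _ = (l j ≫ _) ≫ DX.map b.left
            rw [Category.id_comp, ← hnat b, Category.assoc, Category.assoc, pullback.lift_fst] } }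
  let hX' := (Functor.Initial.isLimitWhiskerEquiv (Over.forget k) cX).symm hX
  let t : T ⟶ cX.pt := hX'.lift sc
  have ht : ∀ j : Over k, t ≫ cX.π.app j.left = l j ≫ pullback.fst _ _ := fun j => hX'.fac sc j
  have hts : t ≫ f = κ ≫ cS.pt.fromSpecResidueField s := by
    refine ((Functor.Initial.isLimitWhiskerEquiv (Over.forget k) cS).symm hS).hom_ext fun j => ?_
    show (t ≫ f) ≫ cS.π.app j.left = (κ ≫ _) ≫ cS.π.app j.left
    rw [Category.assoc, hf, ← Category.assoc, ht, Category.assoc, pullback.condition,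
      ← Category.assoc, hκ, Category.assoc]
    simp [κ, bs]
  let τ : T ⟶ f.fiber s := pullback.lift t κ hts
  let ρ : f.fiber s ⟶ A := pullback.lift (pullback.fst _ _ ≫ cX.π.app k) (pullback.snd _ _) (by
    rw [Category.assoc, ← hf, pullback.condition_assoc])
  have hτρ : τ ≫ ρ = ι := by
    have hid : l (Over.mk (𝟙 k)) = ι := by
      have := hl (Over.mk (𝟙 k))
      rwa [show tr (Over.mk (𝟙 k)).hom = 𝟙 _ by
        apply pullback.hom_ext <;> simp [tr], Category.comp_id] at this
    apply pullback.hom_ext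
    · rw [← hid]
      refine Eq.trans ?_ (ht (Over.mk (𝟙 k)))
      simp [τ, ρ]
    · simp [τ, ρ, κ]
  refine ⟨k, ?_⟩
  have h1 : IsInducing τ := IsInducing.of_comp (g := ρ) τ.continuous ρ.continuous (by
    have : ⇑ρ ∘ ⇑τ = ⇑ι := funext fun z => by
      rw [Function.comp_apply, ← Scheme.Hom.comp_apply, hτρ]
    rw [this]
    exact ι.isEmbedding.isInducing)
  have h2 : topologicalKrullDim A = topologicalKrullDim T :=
    (IsHomeomorph.topologicalKrullDim_eq _
      (isHomeomorph_iff_isEmbedding_surjective.mpr ⟨ι.isEmbedding, hι⟩)).symm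
  exact h2.le.trans h1.topologicalKrullDim_le

end Groth.Agent.H69.FibreDimLimit
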