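import Groth.Agent.Lib.Lim.Valuative
import Mathlib.AlgebraicGeometry.Morphisms.FinitePresentation

/-!
# Field valued points: lifts at the ultraproduct give lifts at almost all members
-/

set_option autoImplicit false
set_option backward.isDefEq.respectTransparency false

noncomputable section

universe u

open CategoryTheory CategoryTheory.Limits AlgebraicGeometry IsLocalRing Groth.Agent.Lib.Lim.Ultra

namespace Groth.Agent.H69.FieldLift

/-- A point has a rational preimage iff its canonical field valued point lifts. -/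
theorem exists_rational_iff {X Y : Scheme.{u}} (f : X ⟶ Y) (y : Y) :
    (∃ x, f x = y ∧ Function.Bijective (f.residueFieldMap x)) ↔
      ∃ s : Spec (Y.residueField y) ⟶ X, s ≫ f = Y.fromSpecResidueField y := by
  constructor
  · rintro ⟨x, rfl, hx⟩
    have : IsIso (f.residueFieldMap x) := (ConcreteCategory.isIso_iff_bijective _).mpr hx
    refine ⟨Spec.map (inv (f.residueFieldMap x)) ≫ X.fromSpecResidueField x, ?_⟩
    rw [Category.assoc, ← Scheme.Hom.SpecMap_residueFieldMap_fromSpecResidueField, ← Category.assoc,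
      ← Spec.map_comp, IsIso.hom_inv_id, Spec.map_id, Category.id_comp]
  · rintro ⟨s, hs⟩
    obtain ⟨x, φ, rfl⟩ : ∃ (x : X) (φ : X.residueField x ⟶ Y.residueField y),
        s = Spec.map φ ≫ X.fromSpecResidueField x :=
      ⟨_, _, ((Scheme.SpecToEquivOfField (Y.residueField y) X).left_inv s).symm⟩
    obtain rfl : f x = y := by
      have h1 := congrArg (fun g : Spec (Y.residueField y) ⟶ Y => g (closedPoint _)) hs
      simpa [Scheme.fromSpecResidueField_apply] using h1
    refine ⟨x, rfl, ?_⟩
    have h : f.residueFieldMap x ≫ φ = 𝟙 _ := by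
      refine Spec.map_injective ((cancel_mono (Y.fromSpecResidueField (f x))).mp ?_)
      rw [Spec.map_comp, Category.assoc, Scheme.Hom.SpecMap_residueFieldMap_fromSpecResidueField,
        Spec.map_id, Category.id_comp, ← Category.assoc]
      exact hs
    have h' : ∀ a, φ (f.residueFieldMap x a) = a := fun a => ConcreteCategory.congr_hom h a
    refine ⟨fun a b e => by rw [← h' a, e, h'], fun b => ⟨φ b, φ.hom.injective ?_⟩⟩
    exact h' (φ b)

variable {J : Type u} {U : Ultrafilter J} {K : J → Type u} [∀ j, Field (K j)]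

/-- For a morphism locally of finite presentation, a lift of the ultraproduct of a family of field
valued points gives lifts of almost all members. -/
theorem eventually_lift {T Y : Scheme.{u}} (f₀ : Y ⟶ T) [LocallyOfFinitePresentation f₀]
    {ys : ∀ j, Option (Spec (.of (K j)) ⟶ T)} {y : Spec (.of (fieldULim U K).Q) ⟶ T}
    (hy : IsULim (fieldULim U K) y ys) (l : Spec (.of (fieldULim U K).Q) ⟶ Y) (hl : l ≫ f₀ = y) :
    ∀ᶠ j in U, ∃ lj : Spec (.of (K j)) ⟶ Y, ys j = some (lj ≫ f₀) := by
  classical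
  obtain ⟨_, ⟨W', hW', rfl⟩, hclW', -⟩ := T.isBasis_affineOpens.exists_subset_of_mem_open
    (Set.mem_univ (f₀ (l (closedPoint _)))) isOpen_univ
  obtain ⟨_, ⟨W, hW, rfl⟩, hclW, hWle⟩ := Y.isBasis_affineOpens.exists_subset_of_mem_open
    (show l (closedPoint _) ∈ f₀ ⁻¹ᵁ W' from hclW') (f₀ ⁻¹ᵁ W').2
  obtain ⟨ψ, hψ⟩ := exists_chartHom hW hclW
  obtain ⟨hyW, hyeq⟩ := hy.chart hW' (V := W') (by
    rw [← hl]; exact (Scheme.Hom.comp_apply _ _ _).symm ▸ hclW')
  have hψK : f₀.appLE W' W hWle ≫ ψ = chartLim (fieldULim U K) hW' hyW := by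
    refine chartHom_unique hW' ?_
    rw [Spec.map_comp, Category.assoc, hW'.SpecMap_appLE_fromSpec f₀ hW hWle, ← Category.assoc,
      hψ, hl]
    exact hyeq
  have hfp : (f₀.appLE W' W hWle).hom.FinitePresentation :=
    HasRingHomProperty.appLE @LocallyOfFinitePresentation f₀ inferInstance ⟨W', hW'⟩ ⟨W, hW⟩ hWle
  algebraize [(f₀.appLE W' W hWle).hom]
  obtain ⟨n, π, hπ, S, hS⟩ := Algebra.FinitePresentation.out (R := Γ(T, W')) (A := Γ(Y, W))
  let ψ' : Γ(Y, W) →+* KK U K := ψ.hom
  have hb : ∀ i : Fin n, ∃ b : ∀ j, K j, mkK U K b = ψ' (π (MvPolynomial.X i)) :=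
    fun i => Ideal.Quotient.mk_surjective _
  choose b hb using hb
  let φ₀ : ∀ j (h : In (ys j) W'), Γ(T, W') →+* K j := fun j h => (exists_fac hW' h).choose.hom
  have hφ₀ : ∀ j (h : In (ys j) W') (s : Γ(T, W')), rep hW' ys s j = φ₀ j h s := fun j h s =>
    dif_pos h
  let V : MvPolynomial (Fin n) Γ(T, W') → ∀ j, K j := fun p j =>
    if h : In (ys j) W' then MvPolynomial.eval₂ (φ₀ j h) (fun i => b i j) p else 0
  have hV : ∀ p, mkK U K (V p) = ψ' (π p) := by
    intro p
    induction p using MvPolynomial.induction_on with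
    | C s =>
      rw [← MvPolynomial.algebraMap_eq, AlgHom.commutes, RingHom.algebraMap_toAlgebra]
      refine Eq.trans ?_ (ConcreteCategory.congr_hom hψK s).symm
      rw [chartLim_apply]
      refine (mkK_eq_iff U K).mpr (hyW.mono fun j hj => ?_)
      simp [V, dif_pos hj, hφ₀ j hj s]
    | add p q hp hq =>
      rw [map_add, map_add, ← hp, ← hq, ← map_add, mkK_eq_iff]
      exact Filter.Eventually.of_forall fun j => by
        by_cases hj : In (ys j) W' <;> simp [V, hj]
    | mul_X p i hp =>
      rw [map_mul, map_mul, ← hp, ← hb i, ← map_mul, mkK_eq_iff]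
      exact hyW.mono fun j hj => by simp [V, hj]
  have hzero : ∀ s ∈ S, ∀ᶠ j in (U : Filter J), V s j = 0 := fun s hs => by
    have hsker : π s = 0 := by
      have : s ∈ RingHom.ker π.toRingHom := hS ▸ Ideal.subset_span hs
      exact this
    refine (mkK_eq_zero_iff U K).mp ((hV s).trans ?_)
    rw [hsker, map_zero]
  filter_upwards [hyW, (Filter.eventually_all_finset S).mpr hzero] with j hj hjS
  have hker : RingHom.ker π.toRingHom ≤
      RingHom.ker (MvPolynomial.eval₂Hom (φ₀ j hj) (fun i => b i j)) := by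
    rw [← hS, Ideal.span_le]
    intro s hs
    have := hjS s hs
    simpa [V, hj] using this
  let φ : Γ(Y, W) →+* K j := RingHom.liftOfSurjective π.toRingHom hπ
    ⟨MvPolynomial.eval₂Hom (φ₀ j hj) (fun i => b i j), hker⟩
  refine ⟨Spec.map (CommRingCat.ofHom φ) ≫ hW.fromSpec, ?_⟩
  have hcomp : f₀.appLE W' W hWle ≫ CommRingCat.ofHom φ = CommRingCat.ofHom (φ₀ j hj) := by
    ext s
    show φ ((f₀.appLE W' W hWle).hom s) = φ₀ j hj s
    have : (f₀.appLE W' W hWle).hom s = π.toRingHom (MvPolynomial.C s) := by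
      show _ = π (MvPolynomial.C s)
      rw [← MvPolynomial.algebraMap_eq, AlgHom.commutes, RingHom.algebraMap_toAlgebra]
    rw [this]
    exact (RingHom.liftOfRightInverse_comp_apply _ _ _ _ _).trans (MvPolynomial.eval₂_C _ _ _)
  rw [Category.assoc, ← hW'.SpecMap_appLE_fromSpec f₀ hW hWle, ← Category.assoc, ← Spec.map_comp,
    hcomp]
  exact (exists_fac hW' hj).choose_spec

end Groth.Agent.H69.FieldLift
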