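import Mathlib.AlgebraicGeometry.Pullbacks
import Mathlib.AlgebraicGeometry.PullbackCarrier
import Mathlib.AlgebraicGeometry.AffineScheme
import Mathlib.LinearAlgebra.TensorProduct.Finiteness
import Mathlib.RingTheory.FiniteType

/-!
# Quasi-compact opens of a base change come from finitely generated subalgebras
-/

set_option autoImplicit false
set_option backward.isDefEq.respectTransparency false
universe u
open CategoryTheory CategoryTheory.Limits AlgebraicGeometry TensorProduct

namespace Groth.Agent.H69.FieldOpenStage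

variable {k : Type u} [CommRing k] {X : Scheme.{u}} (p : X ⟶ Spec (CommRingCat.of k))

/-- The base change of `p` to `A`. -/
noncomputable abbrev bc (A : Type u) [CommRing A] [Algebra k A] : Scheme.{u} :=
  pullback p (Spec.map (CommRingCat.ofHom (algebraMap k A)))

variable (R : Type u) [CommRing R] [Algebra k R] (i : Spec (CommRingCat.of R) ⟶ X)
  (hi : i ≫ p = Spec.map (CommRingCat.ofHom (algebraMap k R)))
  (A : Type u) [CommRing A] [Algebra k A]

/-- The chart of the base change. -/
noncomputable def chart : Spec (CommRingCat.of (R ⊗[k] A)) ⟶ bc p A :=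
  (pullbackSpecIso k R A).inv ≫ pullback.map _ _ _ _ i (𝟙 _) (𝟙 _) (by simp [hi]) (by simp)

instance [IsOpenImmersion i] : IsOpenImmersion (chart p R i hi A) := by
  unfold chart; infer_instance

theorem chart_fst : chart p R i hi A ≫ pullback.fst _ _ =
    Spec.map (CommRingCat.ofHom Algebra.TensorProduct.includeLeftRingHom) ≫ i := by
  rw [chart, Category.assoc, pullback.lift_fst, pullbackSpecIso_inv_fst_assoc]

theorem chart_snd : chart p R i hi A ≫ pullback.snd _ _ =
    Spec.map (CommRingCat.ofHom (Algebra.TensorProduct.includeRight : A →ₐ[k] R ⊗[k] A).toRingHom) := by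
  rw [chart, Category.assoc, pullback.lift_snd, pullbackSpecIso_inv_snd_assoc, Category.comp_id]; rfl

theorem range_chart : Set.range (chart p R i hi A) = pullback.fst p _ ⁻¹' Set.range i := by
  rw [chart, Scheme.Hom.comp_base, TopCat.coe_comp,
    (pullbackSpecIso k R A).inv.surjective.range_comp, Scheme.Pullback.range_map]
  simp

theorem exists_stage [IsOpenImmersion i] (e : R ⊗[k] A) (A' : Subalgebra k A) (e' : R ⊗[k] A')
    (he : Algebra.TensorProduct.map (AlgHom.id k R) A'.val e' = e) (π : bc p A ⟶ bc p A')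
    (h₁ : π ≫ pullback.fst _ _ = pullback.fst _ _)
    (h₂ : π ≫ pullback.snd _ _ = pullback.snd _ _ ≫ Spec.map (CommRingCat.ofHom A'.val.toRingHom)) :
    π ⁻¹' (chart p R i hi A' '' (PrimeSpectrum.basicOpen e' : Set (PrimeSpectrum (R ⊗[k] A')))) =
      chart p R i hi A '' (PrimeSpectrum.basicOpen e : Set (PrimeSpectrum (R ⊗[k] A))) := by
  let φ := Algebra.TensorProduct.map (AlgHom.id k R) A'.val
  let σ : Spec (CommRingCat.of (R ⊗[k] A)) ⟶ Spec (CommRingCat.of (R ⊗[k] A')) :=
    Spec.map (CommRingCat.ofHom φ.toRingHom)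
  have hc : chart p R i hi A ≫ π = σ ≫ chart p R i hi A' := by
    apply pullback.hom_ext
    · rw [Category.assoc, h₁, chart_fst, Category.assoc, chart_fst, ← Category.assoc, ← Spec.map_comp,
        ← CommRingCat.ofHom_comp]
      congr 3
    · rw [Category.assoc, h₂, ← Category.assoc, chart_snd, Category.assoc, chart_snd,
        ← Spec.map_comp, ← Spec.map_comp, ← CommRingCat.ofHom_comp, ← CommRingCat.ofHom_comp]
      congr 2
  ext y
  constructor
  · rintro ⟨z, hz, hzy⟩
    obtain ⟨w, rfl⟩ : y ∈ Set.range (chart p R i hi A) := by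
      rw [range_chart]
      have h : pullback.fst p _ (chart p R i hi A' z) ∈ Set.range i :=
        (range_chart p R i hi A').subset ⟨z, rfl⟩
      rw [hzy, ← Scheme.Hom.comp_apply, h₁] at h
      exact h
    rw [← Scheme.Hom.comp_apply, hc, Scheme.Hom.comp_apply] at hzy
    obtain rfl := (chart p R i hi A').isOpenEmbedding.injective hzy
    exact ⟨w, by rw [← he]; exact hz, rfl⟩
  · rintro ⟨w, hw, rfl⟩
    refine ⟨σ w, ?_, by rw [← Scheme.Hom.comp_apply, ← hc, Scheme.Hom.comp_apply]⟩
    rw [← he] at hw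
    exact hw

theorem exists_lift (e : R ⊗[k] A) : ∃ s : Finset A, ∀ A' : Subalgebra k A, (↑s : Set A) ⊆ A' →
    ∃ e' : R ⊗[k] A', Algebra.TensorProduct.map (AlgHom.id k R) A'.val e' = e := by
  classical
  obtain ⟨S, hS⟩ := TensorProduct.exists_finset e
  refine ⟨S.image Prod.snd, fun A' hA' => ?_⟩
  refine ⟨∑ m ∈ S.attach, m.1.1 ⊗ₜ[k] (⟨m.1.2, hA' (Finset.mem_image_of_mem _ m.2)⟩ : A'), ?_⟩
  rw [map_sum, hS, ← Finset.sum_attach S]
  rfl

end Groth.Agent.H69.FieldOpenStage
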