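import Mathlib.CategoryTheory.Localization.CalculusOfFractions
import Mathlib.CategoryTheory.Comma.Over.Basic
import Mathlib.CategoryTheory.ObjectProperty.FullSubcategory

/-!
# Localisation of full subcategories of slices

If `W` has a right calculus of fractions and a full subcategory `P` of `C/S` is stable under
precomposition by `W`, then the localisation of `P` embeds fully faithfully in the slice of the
localisation of `C`.
-/

set_option autoImplicit false
set_option linter.unusedVariables false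
set_option backward.isDefEq.respectTransparency false

universe v₁ u₁ v₂ u₂ v₃ u₃

open CategoryTheory

namespace Groth.Agent.H69.FullSubLoc

variable {C : Type u₁} [Category.{v₁} C] (W : MorphismProperty C) {S : C}
  (P : ObjectProperty (Over S))

/-- The class on the subcategory. -/
abbrev cls : MorphismProperty P.FullSubcategory :=
  (W.inverseImage (Over.forget S)).inverseImage P.ι

variable {W P} (hP : ∀ (X : Over S) (Z : C) (s : Z ⟶ X.left), P X → W s → P (Over.mk (s ≫ X.hom)))

include hP in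
theorem hasRightCalculusOfFractions [W.HasRightCalculusOfFractions] :
    (cls W P).HasRightCalculusOfFractions where
  id_mem X := W.id_mem _
  comp_mem f g hf hg := W.comp_mem _ _ hf hg
  exists_rightFraction X Y φ := by
    obtain ⟨ψ, hψ⟩ := MorphismProperty.HasRightCalculusOfFractions.exists_rightFraction
      (MorphismProperty.LeftFraction.mk φ.f.hom.left φ.s.hom.left φ.hs : W.LeftFraction X.obj.left
        Y.obj.left)
    let Z : P.FullSubcategory := ⟨Over.mk (ψ.s ≫ X.obj.hom), hP X.obj ψ.X' ψ.s X.property ψ.hs⟩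
    let s : Z ⟶ X := ObjectProperty.homMk (Over.homMk ψ.s rfl)
    let f : Z ⟶ Y := ObjectProperty.homMk (Over.homMk ψ.f (by
      show ψ.f ≫ Y.obj.hom = ψ.s ≫ X.obj.hom
      rw [← Over.w φ.s.hom, ← Over.w φ.f.hom, ← Category.assoc, ← Category.assoc]
      exact congrArg (· ≫ φ.Y'.obj.hom) hψ.symm))
    exact ⟨⟨s, ψ.hs, f⟩, ObjectProperty.hom_ext _ (Over.OverMorphism.ext hψ)⟩
  ext {X Y Y'} f₁ f₂ s hs h := by
    obtain ⟨Z, t, ht, e⟩ := MorphismProperty.HasRightCalculusOfFractions.ext f₁.hom.left f₂.hom.left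
      s.hom.left hs (congrArg (fun m => m.hom.left) h)
    let Z' : P.FullSubcategory := ⟨Over.mk (t ≫ X.obj.hom), hP X.obj Z t X.property ht⟩
    exact ⟨Z', ObjectProperty.homMk (Over.homMk t rfl), ht,
      ObjectProperty.hom_ext _ (Over.OverMorphism.ext e)⟩

variable {D : Type u₂} [Category.{v₂} D] (L : C ⥤ D) [L.IsLocalization W]
  {E : Type u₃} [Category.{v₃} E] (L' : P.FullSubcategory ⥤ E) [L'.IsLocalization (cls W P)]
  (Φ : E ⥤ Over (L.obj S)) (e : L' ⋙ Φ ≅ P.ι ⋙ Over.post L)

theorem map_left {A B : P.FullSubcategory} (c : A ⟶ B) :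
    (e.inv.app A ≫ Φ.map (L'.map c) ≫ e.hom.app B).left = L.map c.hom.left := by
  have := e.hom.naturality c
  simp only [Functor.comp_map] at this
  rw [this, Iso.inv_hom_id_app_assoc]
  rfl

include hP e in
theorem bijective [W.HasRightCalculusOfFractions] (A B : P.FullSubcategory) :
    Function.Bijective
      (fun m : L'.obj A ⟶ L'.obj B => e.inv.app A ≫ Φ.map m ≫ e.hom.app B) := by
  have := hasRightCalculusOfFractions (W := W) (P := P) hP
  refine ⟨fun m m' hm => ?_, fun ψ => ?_⟩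
  · obtain ⟨φ, rfl⟩ := Localization.exists_rightFraction L' (cls W P) m
    obtain ⟨ψ, hψ⟩ := Localization.exists_rightFraction L' (cls W P) (L'.map φ.s ≫ m')
    let k := ψ.s ≫ φ.s
    have hk : IsIso (L'.map k) := Localization.inverts L' (cls W P) _
      ((hasRightCalculusOfFractions (W := W) (P := P) hP).comp_mem _ _ ψ.hs φ.hs)
    have e₁ : L'.map k ≫ φ.map L' (Localization.inverts L' _) = L'.map (ψ.s ≫ φ.f) := by
      rw [L'.map_comp, Category.assoc, φ.map_s_comp_map, ← L'.map_comp]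
    have e₂ : L'.map k ≫ m' = L'.map ψ.f := by
      rw [L'.map_comp, Category.assoc, hψ, ψ.map_s_comp_map]
    rw [← cancel_epi (L'.map k), e₁, e₂]
    have h' := congrArg (fun r => e.inv.app _ ≫ Φ.map (L'.map k) ≫ e.hom.app A ≫ r) hm
    simp only [Iso.hom_inv_id_app_assoc, ← Φ.map_comp_assoc, e₁, e₂] at h'
    have h'' := congrArg CommaMorphism.left h'
    change (e.inv.app _ ≫ Φ.map (L'.map (ψ.s ≫ φ.f)) ≫ e.hom.app B).left =
      (e.inv.app _ ≫ Φ.map (L'.map ψ.f) ≫ e.hom.app B).left at h''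
    rw [map_left L L' Φ e, map_left L L' Φ e] at h''
    obtain ⟨Z, t, ht, het⟩ := (MorphismProperty.map_eq_iff_precomp L W _ _).1 h''
    let Z' : P.FullSubcategory :=
      ⟨Over.mk (t ≫ ψ.X'.obj.hom), hP ψ.X'.obj Z t ψ.X'.property ht⟩
    let t' : Z' ⟶ ψ.X' := ObjectProperty.homMk (Over.homMk t rfl)
    have := Localization.inverts L' (cls W P) t' ht
    rw [← cancel_epi (L'.map t'), ← L'.map_comp, ← L'.map_comp]
    exact congrArg L'.map (ObjectProperty.hom_ext _ (Over.OverMorphism.ext het))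
  · let ψl : L.obj A.obj.left ⟶ L.obj B.obj.left := ψ.left
    have hψl : ψl ≫ L.map B.obj.hom = L.map A.obj.hom := Over.w ψ
    obtain ⟨ρ, hρ⟩ := Localization.exists_rightFraction L W ψl
    have hc : L.map ρ.s ≫ ψl = L.map ρ.f := by rw [hρ]; exact ρ.map_s_comp_map L _
    have hw : L.map (ρ.f ≫ B.obj.hom) = L.map (ρ.s ≫ A.obj.hom) := by
      rw [L.map_comp, ← hc, L.map_comp, Category.assoc, hψl]
    obtain ⟨V, t, ht, het⟩ := (MorphismProperty.map_eq_iff_precomp L W _ _).1 hw
    have hW : W (t ≫ ρ.s) := W.comp_mem _ _ ht ρ.hs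
    let Z : P.FullSubcategory :=
      ⟨Over.mk ((t ≫ ρ.s) ≫ A.obj.hom), hP A.obj V (t ≫ ρ.s) A.property hW⟩
    let s' : Z ⟶ A := ObjectProperty.homMk (Over.homMk (t ≫ ρ.s) rfl)
    let c' : Z ⟶ B := ObjectProperty.homMk (Over.homMk (t ≫ ρ.f)
      ((Category.assoc _ _ _).trans (het.trans (Category.assoc _ _ _).symm)))
    have := Localization.inverts L' (cls W P) s' hW
    have : IsIso (L.map (t ≫ ρ.s)) := Localization.inverts L W _ hW
    refine ⟨inv (L'.map s') ≫ L'.map c', ?_⟩
    apply Over.OverMorphism.ext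
    rw [← cancel_epi (L.map (t ≫ ρ.s))]
    show L.map (t ≫ ρ.s) ≫ (e.inv.app A ≫ Φ.map (inv (L'.map s') ≫ L'.map c') ≫ e.hom.app B).left =
      L.map (t ≫ ρ.s) ≫ ψl
    have h1 := map_left L L' Φ e s'
    have h2 := map_left L L' Φ e c'
    change _ = L.map (t ≫ ρ.s) at h1
    change _ = L.map (t ≫ ρ.f) at h2
    rw [L.map_comp t ρ.s, Category.assoc (L.map t) (L.map ρ.s) ψl, hc, ← L.map_comp t ρ.f, ← h2,
      ← L.map_comp t ρ.s, ← h1, ← Over.comp_left]
    congr 1
    simp

include hP e in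
theorem full_faithful [W.HasRightCalculusOfFractions] : Φ.Full ∧ Φ.Faithful := by
  have := Localization.essSurj L' (cls W P)
  have key : ∀ X Y : E, Function.Bijective (Φ.map : (X ⟶ Y) → (Φ.obj X ⟶ Φ.obj Y)) := by
    intro X Y
    let a := L'.objObjPreimageIso X
    let b := L'.objObjPreimageIso Y
    obtain ⟨hi, hs⟩ := bijective hP L L' Φ e (L'.objPreimage X) (L'.objPreimage Y)
    refine ⟨fun f g h => ?_, fun g => ?_⟩
    · have : a.hom ≫ f ≫ b.inv = a.hom ≫ g ≫ b.inv := hi (by simp only [Functor.map_comp, h])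
      simpa using this
    · obtain ⟨m, hm⟩ := hs (e.inv.app _ ≫ Φ.map a.hom ≫ g ≫ Φ.map b.inv ≫ e.hom.app _)
      refine ⟨a.inv ≫ m ≫ b.hom, ?_⟩
      have hm' : Φ.map m = Φ.map a.hom ≫ g ≫ Φ.map b.inv := by
        have h2 := congrArg (fun r => e.hom.app _ ≫ r ≫ e.inv.app _) hm
        simpa using h2
      show Φ.map (a.inv ≫ m ≫ b.hom) = g
      rw [Φ.map_comp, Φ.map_comp, hm']
      simp [← Functor.map_comp_assoc, ← Functor.map_comp]
  exact ⟨⟨fun g => (key _ _).2 g⟩, ⟨fun h => (key _ _).1 h⟩⟩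

end Groth.Agent.H69.FullSubLoc
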