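import Groth.Agent.Lib.Lim.SmoothEtale
import Groth.Agent.Lib.H53.FinSub
import Mathlib.RingTheory.Jacobson.Ring

/-!
# Geometrically isomorphic schemes become isomorphic over a finite extension
-/

set_option autoImplicit false
set_option linter.style.haveILetI false
set_option backward.isDefEq.respectTransparency false

universe u

open CategoryTheory CategoryTheory.Limits AlgebraicGeometry Opposite

namespace Groth.Agent.H69.GeomIso

open Groth.Agent.Lib

/-- Transport of a pullback square along an isomorphism of the base. -/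
theorem isPullback_base {P A B C C' : Scheme.{u}} {fst : P ⟶ A} {snd : P ⟶ B} {a : A ⟶ C} {b : B ⟶ C}
    {a' : A ⟶ C'} {b' : B ⟶ C'} (e : C ⟶ C') [IsIso e] (ha : a ≫ e = a') (hb : b ≫ e = b')
    (h : IsPullback fst snd a b) : IsPullback fst snd a' b' :=
  h.of_iso (Iso.refl _) (Iso.refl _) (Iso.refl _) (asIso e) (by simp) (by simp) (by simp [ha]) (by simp [hb])

theorem exists_finite {k : Type u} [Field k] {X Y : Scheme.{u}}
    (p : X ⟶ Spec (CommRingCat.of k)) (q : Y ⟶ Spec (CommRingCat.of k))
    [CompactSpace X] [QuasiSeparatedSpace X] [LocallyOfFinitePresentation p]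
    [CompactSpace Y] [QuasiSeparatedSpace Y] [LocallyOfFinitePresentation q]
    (K : Type u) [Field K] [Algebra k K]
    (e : pullback p (Spec.map (CommRingCat.ofHom (algebraMap k K))) ≅ pullback q (Spec.map (CommRingCat.ofHom (algebraMap k K))))
    (he : e.hom ≫ pullback.snd q (Spec.map (CommRingCat.ofHom (algebraMap k K))) = pullback.snd p (Spec.map (CommRingCat.ofHom (algebraMap k K)))) :
    ∃ (k' : Type u) (_ : Field k') (_ : Algebra k k') (_ : Module.Finite k k')
      (e' : pullback p (Spec.map (CommRingCat.ofHom (algebraMap k k'))) ≅ pullback q (Spec.map (CommRingCat.ofHom (algebraMap k k')))),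
      e'.hom ≫ pullback.snd q (Spec.map (CommRingCat.ofHom (algebraMap k k'))) = pullback.snd p (Spec.map (CommRingCat.ofHom (algebraMap k k'))) := by
  classical
  let R := H53.FinSub.diag k K
  let D : (Finset K)ᵒᵖ ⥤ Scheme.{u} := R.op ⋙ Scheme.Spec
  let c : Cone D := Scheme.Spec.mapCone (H53.FinSub.cocone k K).op
  have hc : IsLimit c := H53.FinSub.isLimit k K
  haveI : ∀ (i j : (Finset K)ᵒᵖ) (h : i ⟶ j), IsAffineHom (D.map h) := fun i j h =>
    inferInstanceAs (IsAffineHom (Spec.map _))
  let i₀ : (Finset K)ᵒᵖ := op ∅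
  let ε : ∀ i, D.obj i ⟶ Spec (CommRingCat.of k) := fun i => Spec.map (H53.FinSub.str k K i.unop)
  have hεπ : ∀ i, c.π.app i ≫ ε i = Spec.map (CommRingCat.ofHom (algebraMap k K)) := fun i => by
    refine Eq.trans ?_ (congrArg Spec.map (show H53.FinSub.str k K i.unop ≫
      (H53.FinSub.cocone k K).ι.app i.unop = CommRingCat.ofHom (algebraMap k K) from rfl))
    exact (Spec.map_comp _ _).symm
  have hεD : ∀ {i j : (Finset K)ᵒᵖ} (h : i ⟶ j), D.map h ≫ ε j = ε i := fun {i j} h => by
    refine Eq.trans ?_ (congrArg Spec.map (show H53.FinSub.str k K j.unop ≫ R.map h.unop =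
      H53.FinSub.str k K i.unop from rfl))
    exact (Spec.map_comp _ _).symm
  haveI : IsIso (ε i₀) := by
    have hb : Function.Bijective (algebraMap k (Algebra.adjoin k ((∅ : Finset K) : Set K))) := by
      refine ⟨(algebraMap k _).injective, fun x => ?_⟩
      have hx : (x : K) ∈ (⊥ : Subalgebra k K) := by
        have e0 : Algebra.adjoin k ((∅ : Finset K) : Set K) = ⊥ := by rw [Finset.coe_empty, Algebra.adjoin_empty]
        exact e0.le x.2
      obtain ⟨a, ha⟩ := Algebra.mem_bot.1 hx
      exact ⟨a, Subtype.ext ha⟩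
    haveI : IsIso (H53.FinSub.str k K (∅ : Finset K)) := (ConcreteCategory.isIso_iff_bijective _).2 hb
    exact inferInstanceAs (IsIso (Spec.map (H53.FinSub.str k K (∅ : Finset K))))
  let a := p ≫ inv (ε i₀)
  let b := q ≫ inv (ε i₀)
  have hT : IsPullback (pullback.fst p (Spec.map (CommRingCat.ofHom (algebraMap k K))))
      (pullback.snd p _) a (c.π.app i₀) :=
    isPullback_base (inv (ε i₀)) rfl (by rw [← hεπ i₀, Category.assoc, IsIso.hom_inv_id, Category.comp_id])
      (IsPullback.of_hasPullback _ _)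
  have hY : IsPullback (e.hom ≫ pullback.fst q (Spec.map (CommRingCat.ofHom (algebraMap k K))))
      (pullback.snd p (Spec.map (CommRingCat.ofHom (algebraMap k K)))) b (c.π.app i₀) :=
    (isPullback_base (inv (ε i₀)) rfl (by rw [← hεπ i₀, Category.assoc, IsIso.hom_inv_id, Category.comp_id])
      (IsPullback.of_hasPullback q (Spec.map (CommRingCat.ofHom (algebraMap k K))))).of_iso e.symm
        (Iso.refl _) (Iso.refl _) (Iso.refl _) (by simp) (by simp [← he]) (by simp [b]) (by simp)
  obtain ⟨i, φ, eA, heA⟩ := Lim.SmoothEtale.exists_iso hc i₀ a b hT hY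
  -- a closed point of the stage
  let A := Algebra.adjoin k ((i.unop : Finset K) : Set K)
  haveI : Algebra.FiniteType k A := (Subalgebra.fg_iff_finiteType A).1 (Subalgebra.fg_adjoin_finset _)
  obtain ⟨M, hM⟩ := Ideal.exists_maximal A
  haveI := hM
  letI : Field (A ⧸ M) := Ideal.Quotient.field M
  haveI : Algebra.FiniteType k (A ⧸ M) :=
    Algebra.FiniteType.of_surjective (Ideal.Quotient.mkₐ k M) (Ideal.Quotient.mkₐ_surjective k M)
  have hfin : Module.Finite k (A ⧸ M) := finite_of_finite_type_of_isJacobsonRing k (A ⧸ M)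
  let t : Spec (CommRingCat.of (A ⧸ M)) ⟶ D.obj i :=
    Spec.map (CommRingCat.ofHom (Ideal.Quotient.mk M))
  have ht : t ≫ D.map φ ≫ ε i₀ = Spec.map (CommRingCat.ofHom (algebraMap k (A ⧸ M))) := by
    rw [hεD]
    exact (Spec.map_comp _ _).symm
  have sqa : IsPullback (pullback.fst (pullback.snd a (D.map φ)) t ≫ pullback.fst a (D.map φ))
      (pullback.snd (pullback.snd a (D.map φ)) t) p (Spec.map (CommRingCat.ofHom (algebraMap k (A ⧸ M)))) :=
    isPullback_base (ε i₀) (by simp [a]) (by rw [Category.assoc, ht])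
      ((IsPullback.of_hasPullback _ t).paste_horiz (IsPullback.of_hasPullback a (D.map φ)))
  have sqb : IsPullback (pullback.fst (pullback.snd b (D.map φ)) t ≫ pullback.fst b (D.map φ))
      (pullback.snd (pullback.snd b (D.map φ)) t) q (Spec.map (CommRingCat.ofHom (algebraMap k (A ⧸ M)))) :=
    isPullback_base (ε i₀) (by simp [b]) (by rw [Category.assoc, ht])
      ((IsPullback.of_hasPullback _ t).paste_horiz (IsPullback.of_hasPullback b (D.map φ)))
  let m : pullback (pullback.snd a (D.map φ)) t ≅ pullback (pullback.snd b (D.map φ)) t :=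
    asIso (pullback.map _ _ _ _ eA.hom (𝟙 _) (𝟙 _) (by rw [Category.comp_id, heA]) (by simp))
  refine ⟨A ⧸ M, inferInstance, inferInstance, hfin, sqa.isoPullback.symm ≪≫ m ≪≫ sqb.isoPullback, ?_⟩
  simp [m]

end Groth.Agent.H69.GeomIso
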