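import Groth.Agent.H75.Spread.Basic
import Mathlib.AlgebraicGeometry.Gluing
import Mathlib.RingTheory.Spectrum.Prime.Topology

/-!
# Glueing morphisms near a point

* `hom_ext_fromSpecStalk`: morphisms agreeing on all local schemes are equal;
* `exists_nhd_inter_le`: an open containing the generalizations of `x` in a quasi-compact open
  `W` contains `W ∩ N` for a neighbourhood `N` of `x`.
-/

set_option autoImplicit false
set_option backward.isDefEq.respectTransparency false

universe u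

open CategoryTheory AlgebraicGeometry TopologicalSpace

namespace Groth.Agent.H69.GlueClosedPoint

/-- Morphisms which agree on all local schemes are equal. -/
theorem hom_ext_fromSpecStalk {X Y : Scheme.{u}} {f g : X ⟶ Y}
    (h : ∀ z : X, X.fromSpecStalk z ≫ f = X.fromSpecStalk z ≫ g) : f = g := by
  have e : ∀ z, f z = g z := fun z => by
    simpa using congr($(h z) (IsLocalRing.closedPoint _))
  refine Scheme.Hom.ext (by ext z; exact e z) fun V => ?_
  ext s
  refine TopCat.Presheaf.section_ext X.sheaf _ _ _ fun w hw => ?_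
  have H : f.stalkMap w =
      Y.presheaf.stalkSpecializes (Inseparable.of_eq (e w).symm).specializes ≫ g.stalkMap w := by
    apply Spec.map_injective
    rw [← cancel_mono (Y.fromSpecStalk _)]
    simpa [Scheme.SpecMap_stalkSpecializes_fromSpecStalk] using h w
  show (f.app V ≫ X.presheaf.map _ ≫ X.presheaf.germ (g ⁻¹ᵁ V) w hw) s =
    (g.app V ≫ X.presheaf.germ (g ⁻¹ᵁ V) w hw) s
  congr 2
  simp only [X.presheaf.germ_res', ← Scheme.Hom.germ_stalkMap, H]
  simp only [TopCat.Presheaf.germ_stalkSpecializes_assoc, Scheme.Hom.germ_stalkMap]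

/-- An open containing the generalizations of `x` in a quasi-compact open `W` contains `W ∩ N`
for some neighbourhood `N` of `x`, inside an affine open. -/
theorem exists_nhd_inter_le {X : Scheme.{u}} {V : X.Opens} (hV : IsAffineOpen V) {x : X}
    (hxV : x ∈ V) (W E : X.Opens) (hWV : W ≤ V) (hW : IsCompact (W : Set X))
    (hE : ∀ z ∈ W, z ⤳ x → z ∈ E) :
    ∃ N : X.Opens, x ∈ N ∧ N ≤ V ∧ W ⊓ N ≤ E := by
  classical
  let φ := hV.fromSpec
  let p := hV.primeIdealOf ⟨x, hxV⟩
  have hp : φ p = x := hV.fromSpec_primeIdealOf ⟨x, hxV⟩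
  have hcpt : IsCompact (φ ⁻¹' (W : Set X) : Set (PrimeSpectrum Γ(X, V))) := by
    refine φ.isOpenEmbedding.isInducing.isCompact_preimage' hW ?_
    rw [show Set.range φ = (V : Set X) from hV.range_fromSpec]
    exact hWV
  obtain ⟨F, hF⟩ := PrimeSpectrum.isCompact_isOpen_iff.mp ⟨hcpt, (φ ⁻¹ᵁ W).2⟩
  obtain ⟨J, hJ⟩ := (PrimeSpectrum.isClosed_iff_zeroLocus_ideal _).mp (φ ⁻¹ᵁ E).2.isClosed_compl
  have key : ∀ f ∈ F, ∃ r, r ∉ p.asIdeal ∧ ∃ n : ℕ, r * f ^ n ∈ J := by
    intro f hf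
    by_contra! hcon
    let M : Submonoid Γ(X, V) := p.asIdeal.primeCompl ⊔ Submonoid.powers f
    have hdis : Disjoint (J : Set Γ(X, V)) M := by
      rw [Set.disjoint_left]
      rintro a ha hM
      obtain ⟨r, hr, y, hy, rfl⟩ := Submonoid.mem_sup.mp hM
      obtain ⟨n, rfl⟩ := Submonoid.mem_powers_iff _ _ |>.mp hy
      exact hcon r hr n ha
    obtain ⟨q, hq, hJq, hqM⟩ := Ideal.exists_le_prime_disjoint J M hdis
    have hqp : q ≤ p.asIdeal := fun a ha => by_contra fun hap =>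
      Set.disjoint_left.mp hqM ha (Submonoid.mem_sup_left hap)
    have hfq : f ∉ q := fun ha =>
      Set.disjoint_left.mp hqM ha (Submonoid.mem_sup_right (Submonoid.mem_powers f))
    let Q : PrimeSpectrum Γ(X, V) := ⟨q, hq⟩
    have hQW : Q ∈ (φ ⁻¹' (W : Set X) : Set (PrimeSpectrum Γ(X, V))) := by
      rw [← hF]
      exact fun hz => hfq (hz hf)
    have hspec : φ Q ⤳ x := hp ▸ ((PrimeSpectrum.le_iff_specializes Q p).mp hqp).map φ.continuous
    have : Q ∈ (φ ⁻¹' (E : Set X) : Set (PrimeSpectrum Γ(X, V))) :=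
      hE (φ Q) hQW hspec
    have hQJ : Q ∈ PrimeSpectrum.zeroLocus (J : Set Γ(X, V)) := hJq
    rw [← hJ] at hQJ
    exact hQJ this
  choose! r hr n hn using key
  refine ⟨φ ''ᵁ PrimeSpectrum.basicOpen (∏ f ∈ F, r f), ⟨p, ?_, hp⟩, ?_, ?_⟩
  · show ∏ f ∈ F, r f ∉ p.asIdeal
    rw [p.2.prod_mem_iff]
    exact fun ⟨f, hf, hf'⟩ => hr f hf hf'
  · exact (φ.image_le_opensRange _).trans hV.opensRange_fromSpec.le
  · rintro z ⟨hzW, y, hy, rfl⟩
    have hyW : y ∈ (φ ⁻¹' (W : Set X) : Set (PrimeSpectrum Γ(X, V))) := hzW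
    rw [← hF] at hyW
    obtain ⟨f, hf, hfy⟩ : ∃ f ∈ F, f ∉ y.asIdeal := Set.not_subset.mp hyW
    have hyJ : y ∉ PrimeSpectrum.zeroLocus (J : Set Γ(X, V)) := fun hz => by
      rcases y.2.mem_or_mem (hz (hn f hf)) with h' | h'
      · exact hy (Ideal.mem_of_dvd _ (Finset.dvd_prod_of_mem r hf) h')
      · exact hfy (y.2.mem_of_pow_mem _ h')
    rw [← hJ] at hyJ
    exact not_not.mp hyJ

end Groth.Agent.H69.GlueClosedPoint
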