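import Groth.Agent.H69.GrpDescend
import Mathlib.CategoryTheory.Monoidal.Cartesian.Grp
import Mathlib.Algebra.Group.MinimalAxioms

/-!
# Group laws on base changes and their descent along limits

A group scheme structure on `bc a G` is the same as three morphisms over the base satisfying the
group axioms on points (`IsGrp`); both the morphisms and the axioms descend along limits.
-/

set_option autoImplicit false
set_option backward.isDefEq.respectTransparency false
set_option linter.unusedVariables false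

universe u

open CategoryTheory CategoryTheory.Limits AlgebraicGeometry MonoidalCategory
open CartesianMonoidalCategory MonObj
open Groth.Agent.Lib.RedPts Groth.Agent.Lib.Lim.Basic Groth.Agent.H69.GrpDescend

namespace Groth.Agent.H69.GrpData

variable {S B : Scheme.{u}}

/-- The operation on points given by a morphism `T ⊗ (G ⊗ G) ⟶ G`. -/
noncomputable def op {T G : Over S} (mu : T ⊗ (G ⊗ G) ⟶ G) {X : Over S} (t : X ⟶ T)
    (x y : X ⟶ G) : X ⟶ G :=
  lift t (lift x y) ≫ mu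

@[reassoc]
theorem comp_op {T G : Over S} (mu : T ⊗ (G ⊗ G) ⟶ G) {X X' : Over S} (h : X' ⟶ X) (t : X ⟶ T)
    (x y : X ⟶ G) : h ≫ op mu t x y = op mu (h ≫ t) (h ≫ x) (h ≫ y) := by
  simp [op, comp_lift_assoc, comp_lift]

theorem op_whiskerRight {T T' G : Over S} (mu : T ⊗ (G ⊗ G) ⟶ G) (s : T' ⟶ T) {X : Over S}
    (t : X ⟶ T') (x y : X ⟶ G) : op (s ▷ (G ⊗ G) ≫ mu) t x y = op mu (t ≫ s) x y := by
  simp [op, lift_whiskerRight_assoc]

/-- The neutral point. -/
noncomputable def one {T G : Over S} (ep : T ⊗ 𝟙_ (Over S) ⟶ G) {X : Over S} (t : X ⟶ T) :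
    X ⟶ G :=
  lift t (toUnit X) ≫ ep

theorem comp_one {T G : Over S} (ep : T ⊗ 𝟙_ (Over S) ⟶ G) {X X' : Over S} (h : X' ⟶ X)
    (t : X ⟶ T) : h ≫ one ep t = one ep (h ≫ t) := by
  rw [one, one, comp_lift_assoc, toUnit_unique (h ≫ toUnit X) (toUnit X')]

theorem one_whiskerRight {T T' G : Over S} (ep : T ⊗ 𝟙_ (Over S) ⟶ G) (s : T' ⟶ T) {X : Over S}
    (t : X ⟶ T') : one (s ▷ (𝟙_ (Over S)) ≫ ep) t = one ep (t ≫ s) := by
  simp only [one, lift_whiskerRight_assoc]

/-- The axioms of a group on points. -/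
structure IsGrp {T G : Over S} (mu : T ⊗ (G ⊗ G) ⟶ G) (ep : T ⊗ 𝟙_ (Over S) ⟶ G)
    (io : T ⊗ G ⟶ G) : Prop where
  assoc : ∀ ⦃X : Over S⦄ (t : X ⟶ T) (x y z : X ⟶ G),
    op mu t (op mu t x y) z = op mu t x (op mu t y z)
  one_mul : ∀ ⦃X : Over S⦄ (t : X ⟶ T) (x : X ⟶ G), op mu t (one ep t) x = x
  inv_mul : ∀ ⦃X : Over S⦄ (t : X ⟶ T) (x : X ⟶ G),
    op mu t (lift t x ≫ io) x = one ep t

section Represent

variable (a : B ⟶ S) {G : Over S} {mu : Over.mk a ⊗ (G ⊗ G) ⟶ G}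
  {ep : Over.mk a ⊗ 𝟙_ (Over S) ⟶ G} {io : Over.mk a ⊗ G ⟶ G}

theorem map_str {X X' : Over B} (h : X' ⟶ X) :
    (Over.map a).map h ≫ str a X = str a X' := by
  apply Over.OverMorphism.ext
  exact Over.w h

/-- The group of points. -/
@[reducible] noncomputable def ptsGroup (h : IsGrp mu ep io) (X : Over B) :
    Group ((Over.map a).obj X ⟶ G) :=
  letI : Mul ((Over.map a).obj X ⟶ G) := ⟨fun x y => op mu (str a X) x y⟩
  letI : One ((Over.map a).obj X ⟶ G) := ⟨one ep (str a X)⟩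
  letI : Inv ((Over.map a).obj X ⟶ G) := ⟨fun x => lift (str a X) x ≫ io⟩
  Group.ofLeftAxioms (fun x y z => h.assoc _ x y z) (fun x => h.one_mul _ x)
    (fun x => h.inv_mul _ x)

/-- The functor of points with its groups. -/
noncomputable def ptsFunctor (h : IsGrp mu ep io) : (Over B)ᵒᵖ ⥤ GrpCat.{u} where
  obj X := @GrpCat.of ((Over.map a).obj X.unop ⟶ G) (ptsGroup a h X.unop)
  map {X Y} f :=
    letI := ptsGroup a h X.unop
    letI := ptsGroup a h Y.unop
    GrpCat.ofHom (MonoidHom.mk' (fun x => (Over.map a).map f.unop ≫ x) (fun x y => by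
      show (Over.map a).map f.unop ≫ op mu (str a X.unop) x y =
        op mu (str a Y.unop) _ _
      rw [comp_op, map_str]))
  map_id X := by
    letI := ptsGroup a h X.unop
    refine GrpCat.hom_ext (MonoidHom.ext fun x => ?_)
    show (Over.map a).map (𝟙 X.unop) ≫ x = x
    rw [CategoryTheory.Functor.map_id, Category.id_comp]
  map_comp {X Y Z} f g := by
    letI := ptsGroup a h X.unop
    letI := ptsGroup a h Y.unop
    letI := ptsGroup a h Z.unop
    refine GrpCat.hom_ext (MonoidHom.ext fun x => ?_)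
    show (Over.map a).map (g.unop ≫ f.unop) ≫ x = _
    rw [CategoryTheory.Functor.map_comp, Category.assoc]
    rfl

/-- The functor of points is represented by the base change. -/
noncomputable def ptsRepresentable (h : IsGrp mu ep io) :
    (ptsFunctor a h ⋙ forget _).RepresentableBy (Red.bc a G) where
  homEquiv {X} := ((Over.mapPullbackAdj a).homEquiv X G).symm
  homEquiv_comp f g := BC.down_comp f g

/-- The group scheme structure on a base change defined by group laws. -/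
@[reducible] noncomputable def grpObj (h : IsGrp mu ep io) : GrpObj (Red.bc a G) :=
  GrpObj.ofRepresentableBy (Red.bc a G) (ptsFunctor a h) (ptsRepresentable a h)

theorem down_mul (h : IsGrp mu ep io) {X : Over B} (p q : X ⟶ Red.bc a G) :
    letI := grpObj a h
    BC.down a (p * q) = op mu (str a X) (BC.down a p) (BC.down a q) := by
  letI := grpObj a h
  show BC.down a (lift p q ≫ BC.up a
    (op mu (str a _) (BC.down a (fst (Red.bc a G) (Red.bc a G)))
      (BC.down a (snd (Red.bc a G) (Red.bc a G))))) = _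
  rw [BC.down_comp, BC.down_up, comp_op, map_str, ← BC.down_comp, ← BC.down_comp, lift_fst,
    lift_snd]

end Represent

section Present

variable (a : B ⟶ S) {G : Over B} [GrpObj G] {H : Over S} (e : G ≅ Red.bc a H)

/-- A point over the base as a point of the base change. -/
noncomputable def pt {X : Over S} (t : X ⟶ Over.mk a) (x : X ⟶ H) :
    Over.mk t.left ⟶ Red.bc a H :=
  Over.homMk (pullback.lift x.left t.left ((Over.w x).trans (Over.w t).symm))
    (pullback.lift_snd _ _ _)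

/-- A point of the base change as a point over the base. -/
noncomputable def unpt {X : Over S} (t : X ⟶ Over.mk a) (p : Over.mk t.left ⟶ Red.bc a H) :
    X ⟶ H :=
  Over.homMk (p.left ≫ pullback.fst H.hom a) (by
    have h : p.left ≫ pullback.snd H.hom a = t.left := Over.w p
    rw [Category.assoc, pullback.condition, reassoc_of% h]
    exact Over.w t)

theorem unpt_pt {X : Over S} (t : X ⟶ Over.mk a) (x : X ⟶ H) : unpt a t (pt a t x) = x := by
  apply Over.OverMorphism.ext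
  exact pullback.lift_fst _ _ _

theorem pt_unpt {X : Over S} (t : X ⟶ Over.mk a) (p : Over.mk t.left ⟶ Red.bc a H) :
    pt a t (unpt a t p) = p := by
  apply Over.OverMorphism.ext
  apply pullback.hom_ext
  · exact pullback.lift_fst _ _ _
  · exact (pullback.lift_snd _ _ _).trans (Over.w p).symm

/-- Reparametrisation of test objects. -/
noncomputable def shift {X X' : Over S} (h : X' ⟶ X) (t : X ⟶ Over.mk a) :
    Over.mk (h ≫ t).left ⟶ Over.mk t.left :=
  Over.homMk h.left rfl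

theorem shift_pt {X X' : Over S} (h : X' ⟶ X) (t : X ⟶ Over.mk a) (x : X ⟶ H) :
    shift a h t ≫ pt a t x = pt a (h ≫ t) (h ≫ x) := by
  apply Over.OverMorphism.ext
  show h.left ≫ pullback.lift _ _ _ = pullback.lift _ _ _
  apply pullback.hom_ext <;> simp

theorem unpt_shift {X X' : Over S} (h : X' ⟶ X) (t : X ⟶ Over.mk a)
    (p : Over.mk t.left ⟶ Red.bc a H) :
    unpt a (h ≫ t) (shift a h t ≫ p) = h ≫ unpt a t p := by
  apply Over.OverMorphism.ext
  exact Category.assoc _ _ _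

/-- Multiplication on points over the base. -/
noncomputable def opG {X : Over S} (t : X ⟶ Over.mk a) (x y : X ⟶ H) : X ⟶ H :=
  unpt a t (((pt a t x ≫ e.inv) * (pt a t y ≫ e.inv)) ≫ e.hom)

/-- Neutral point over the base. -/
noncomputable def oneG {X : Over S} (t : X ⟶ Over.mk a) : X ⟶ H :=
  unpt a t ((1 : Over.mk t.left ⟶ G) ≫ e.hom)

/-- Inverse on points over the base. -/
noncomputable def invG {X : Over S} (t : X ⟶ Over.mk a) (x : X ⟶ H) : X ⟶ H :=
  unpt a t ((pt a t x ≫ e.inv)⁻¹ ≫ e.hom)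

/-- The multiplication. -/
noncomputable def mulHom : Over.mk a ⊗ (H ⊗ H) ⟶ H :=
  opG a e (fst _ _) (snd _ _ ≫ fst _ _) (snd _ _ ≫ snd _ _)

/-- The neutral element. -/
noncomputable def oneHom : Over.mk a ⊗ 𝟙_ (Over S) ⟶ H :=
  oneG a e (fst _ _)

/-- The inversion. -/
noncomputable def invHom : Over.mk a ⊗ H ⟶ H :=
  invG a e (fst _ _) (snd _ _)

set_option synthInstance.maxHeartbeats 400000 in
theorem comp_opG {X X' : Over S} (h : X' ⟶ X) (t : X ⟶ Over.mk a) (x y : X ⟶ H) :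
    h ≫ opG a e t x y = opG a e (h ≫ t) (h ≫ x) (h ≫ y) := by
  rw [opG, opG, ← unpt_shift, ← Category.assoc, MonObj.comp_mul, ← Category.assoc,
    ← Category.assoc, shift_pt, shift_pt]

set_option synthInstance.maxHeartbeats 400000 in
theorem comp_oneG {X X' : Over S} (h : X' ⟶ X) (t : X ⟶ Over.mk a) :
    h ≫ oneG a e t = oneG a e (h ≫ t) := by
  rw [oneG, oneG, ← unpt_shift, ← Category.assoc, MonObj.comp_one]

set_option synthInstance.maxHeartbeats 400000 in
theorem comp_invG {X X' : Over S} (h : X' ⟶ X) (t : X ⟶ Over.mk a) (x : X ⟶ H) :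
    h ≫ invG a e t x = invG a e (h ≫ t) (h ≫ x) := by
  rw [invG, invG, ← unpt_shift, ← Category.assoc, GrpObj.comp_inv, ← Category.assoc, shift_pt]

theorem op_mulHom {X : Over S} (t : X ⟶ Over.mk a) (x y : X ⟶ H) :
    op (mulHom a e) t x y = opG a e t x y := by
  rw [op, mulHom, comp_opG, lift_fst, lift_snd_assoc, lift_snd_assoc, lift_fst, lift_snd]

theorem one_oneHom {X : Over S} (t : X ⟶ Over.mk a) :
    one (oneHom a e) t = oneG a e t := by
  rw [one, oneHom, comp_oneG, lift_fst]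

theorem lift_invHom {X : Over S} (t : X ⟶ Over.mk a) (x : X ⟶ H) :
    lift t x ≫ invHom a e = invG a e t x := by
  rw [invHom, comp_invG, lift_fst, lift_snd]

set_option synthInstance.maxHeartbeats 400000 in
theorem isGrp : IsGrp (mulHom a e) (oneHom a e) (invHom a e) where
  assoc X t x y z := by
    simp only [op_mulHom]
    simp only [opG, pt_unpt, Category.assoc, Iso.hom_inv_id, Category.comp_id]
    exact congrArg (fun w => unpt a t (w ≫ e.hom)) (mul_assoc _ _ _)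
  one_mul X t x := by
    simp only [op_mulHom, one_oneHom]
    simp only [opG, oneG, pt_unpt, Category.assoc, Iso.hom_inv_id, Category.comp_id, _root_.one_mul,
      Iso.inv_hom_id, unpt_pt]
  inv_mul X t x := by
    simp only [op_mulHom, one_oneHom, lift_invHom]
    simp only [opG, invG, oneG, pt_unpt, Category.assoc, Iso.hom_inv_id, Category.comp_id,
      inv_mul_cancel]

theorem pt_str_down {X : Over B} (p : X ⟶ Red.bc a H) :
    pt a (str a X) (BC.down a p) = (Over.homMk (𝟙 X.left) : Over.mk (str a X).left ⟶ X) ≫ p := by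
  apply Over.OverMorphism.ext
  apply pullback.hom_ext
  · show pullback.lift _ _ _ ≫ _ = (𝟙 _ ≫ _) ≫ _
    rw [pullback.lift_fst, BC.down_left, Category.id_comp]
  · show pullback.lift _ _ _ ≫ _ = (𝟙 _ ≫ _) ≫ _
    rw [pullback.lift_snd, Category.id_comp]
    exact (Over.w p).symm

set_option synthInstance.maxHeartbeats 400000 in
theorem down_mul_eq {X : Over B} (p q : X ⟶ G) :
    BC.down a ((p * q) ≫ e.hom) =
      op (mulHom a e) (str a X) (BC.down a (p ≫ e.hom)) (BC.down a (q ≫ e.hom)) := by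
  rw [op_mulHom, opG, pt_str_down, pt_str_down]
  simp only [Category.assoc, Iso.hom_inv_id, Category.comp_id, ← MonObj.comp_mul]
  apply Over.OverMorphism.ext
  show _ = ((𝟙 X.left ≫ (p * q).left) ≫ e.hom.left) ≫ pullback.fst H.hom a
  rw [BC.down_left, Category.id_comp]
  rfl

end Present

section Limit

variable {I : Type u} [SmallCategory I] [IsCofiltered I] {D : I ⥤ Scheme.{u}} {c : Cone D}
  [∀ (i j : I) (f : i ⟶ j), IsAffineHom (D.map f)] {j : I}

/-- A transition between stages over stage `j`. -/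
noncomputable def tr (D : I ⥤ Scheme.{u}) {i k j : I} {f : i ⟶ j} {f' : k ⟶ j} (g : k ⟶ i)
    (e : g ≫ f = f') : Over.mk (D.map f') ⟶ Over.mk (D.map f) :=
  Over.homMk (D.map g) (by subst e; exact (D.map_comp g f).symm)

theorem proj_tr (c : Cone D) {i k j : I} {f : i ⟶ j} {f' : k ⟶ j} (g : k ⟶ i) (e : g ≫ f = f') :
    proj c f' ≫ tr D g e = proj c f := by
  apply Over.OverMorphism.ext
  exact c.w g

variable [∀ i, CompactSpace (D.obj i)] [∀ i, QuasiSeparatedSpace (D.obj i)]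

/-- Morphisms out of `Over.mk (c.π.app j) ⊗ W` descend to a stage. -/
theorem exists_proj_whiskerRight (hc : IsLimit c) {W H : Over (D.obj j)} [QuasiCompact W.hom]
    [QuasiSeparated W.hom] [LocallyOfFinitePresentation H.hom]
    (φ : Over.mk (c.π.app j) ⊗ W ⟶ H) :
    ∃ (k : I) (f : k ⟶ j) (φ' : Over.mk (D.map f) ⊗ W ⟶ H), proj c f ▷ W ≫ φ' = φ := by
  have hA : ∀ {i j : I} (g : i ⟶ j), IsAffineHom (D.map g) := fun g => inferInstance
  have : CompactSpace W.left := QuasiCompact.compactSpace_of_compactSpace W.hom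
  have : QuasiSeparatedSpace W.left := quasiSeparatedSpace_of_quasiSeparated W.hom
  have hP : IsPullback (pullback.snd (c.π.app j) W.hom) (pullback.fst (c.π.app j) W.hom) W.hom
      (c.π.app j) := (IsPullback.of_hasPullback _ _).flip
  have hw : φ.left ≫ H.hom = pullback.snd (c.π.app j) W.hom ≫ W.hom :=
    (Over.w φ).trans pullback.condition
  obtain ⟨k, f, g', hg', hgq⟩ := exists_bc_hom hc hP H.hom W.hom φ.left hw
  let φ' : Over.mk (D.map f) ⊗ W ⟶ H :=
    Over.homMk ((pullbackSymmetry (D.map f) W.hom).hom ≫ g') (by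
      show ((pullbackSymmetry (D.map f) W.hom).hom ≫ g') ≫ H.hom =
        pullback.fst (D.map f) W.hom ≫ D.map f
      rw [Category.assoc, hg', pullbackSymmetry_hom_comp_fst_assoc, pullback.condition])
  refine ⟨k, f, φ', ?_⟩
  apply Over.OverMorphism.ext
  show (proj c f ▷ W).left ≫ (pullbackSymmetry (D.map f) W.hom).hom ≫ g' = φ.left
  rw [← hgq, ← Category.assoc]
  congr 1
  apply pullback.hom_ext
  · rw [Category.assoc, pullbackSymmetry_hom_comp_fst, pullback.lift_fst]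
    exact congrArg Over.Hom.left (whiskerRight_snd (proj c f) W)
  · rw [Category.assoc, pullbackSymmetry_hom_comp_snd, pullback.lift_snd]
    exact congrArg Over.Hom.left (whiskerRight_fst (proj c f) W)

/-- Equalities of morphisms out of `Over.mk (D.map f) ⊗ W` descend. -/
theorem exists_tr_eq (hc : IsLimit c) {W H : Over (D.obj j)} [QuasiCompact W.hom]
    [LocallyOfFiniteType H.hom] {i : I} (f : i ⟶ j) (φ₁ φ₂ : Over.mk (D.map f) ⊗ W ⟶ H)
    (h : proj c f ▷ W ≫ φ₁ = proj c f ▷ W ≫ φ₂) :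
    ∃ (k : I) (g : k ⟶ i), tr D g (rfl : g ≫ f = g ≫ f) ▷ W ≫ φ₁ = tr D g rfl ▷ W ≫ φ₂ := by
  have hA : ∀ {i j : I} (g : i ⟶ j), IsAffineHom (D.map g) := fun g => inferInstance
  let T : Over (D.obj j) := Over.mk (D.map f) ⊗ W
  let t₀ : T ⟶ Over.mk (D.map f) := fst _ _
  have : QuasiCompact (pullback.fst (D.map f) W.hom) :=
    MorphismProperty.pullback_fst (P := @QuasiCompact) _ _ inferInstance
  have hT : CompactSpace T.left := QuasiCompact.compactSpace_of_compactSpace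
    (pullback.fst (D.map f) W.hom)
  have hP := IsPullback.of_hasPullback t₀.left (c.π.app i)
  let P : Over (D.obj j) := Over.mk (pullback.fst t₀.left (c.π.app i) ≫ T.hom)
  let q : P ⟶ T := Over.homMk (pullback.fst t₀.left (c.π.app i)) rfl
  let t' : P ⟶ Over.mk (c.π.app j) := Over.homMk (pullback.snd t₀.left (c.π.app i)) (by
    show pullback.snd t₀.left (c.π.app i) ≫ c.π.app j = _
    rw [← c.w f, ← pullback.condition_assoc]
    exact congrArg (pullback.fst t₀.left (c.π.app i) ≫ ·) (Over.w t₀))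
  have hq : q = lift t' (q ≫ snd _ _) ≫ proj c f ▷ W := by
    rw [lift_whiskerRight]
    refine CartesianMonoidalCategory.hom_ext _ _ ?_ (by rw [lift_snd])
    rw [lift_fst]
    apply Over.OverMorphism.ext
    exact pullback.condition
  have hq' : q ≫ φ₁ = q ≫ φ₂ := by
    rw [hq, Category.assoc, Category.assoc, h]
  obtain ⟨k, g, hk⟩ := exists_bc_comp_eq hc hP H.hom φ₁.left φ₂.left
    ((Over.w φ₁).trans (Over.w φ₂).symm) (congrArg Over.Hom.left hq')
  refine ⟨k, g, ?_⟩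
  apply Over.OverMorphism.ext
  let r := tr D g (rfl : g ≫ f = g ≫ f) ▷ W
  let t : Over.mk (D.map (g ≫ f)) ⊗ W ⟶ Over.mk (D.map (g ≫ f)) := fst _ _
  have hr : r ≫ t₀ = t ≫ tr D g rfl := whiskerRight_fst _ _
  let m : (Over.mk (D.map (g ≫ f)) ⊗ W).left ⟶ pullback t₀.left (D.map g) :=
    pullback.lift r.left t.left (congrArg Over.Hom.left hr)
  show r.left ≫ φ₁.left = r.left ≫ φ₂.left
  rw [show r.left = m ≫ pullback.fst t₀.left (D.map g) from (pullback.lift_fst _ _ _).symm,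
    Category.assoc, Category.assoc, hk]

omit [IsCofiltered I] [∀ (i j : I) (f : i ⟶ j), IsAffineHom (D.map f)]
  [∀ i, CompactSpace (D.obj i)] [∀ i, QuasiSeparatedSpace (D.obj i)] in
theorem qcqs_tensor {B : Scheme.{u}} (V W : Over B) [QuasiCompact V.hom] [QuasiSeparated V.hom]
    [QuasiCompact W.hom] [QuasiSeparated W.hom] :
    QuasiCompact (V ⊗ W).hom ∧ QuasiSeparated (V ⊗ W).hom := by
  have h1 : QuasiCompact (pullback.fst V.hom W.hom) :=
    MorphismProperty.pullback_fst (P := @QuasiCompact) _ _ inferInstance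
  have h2 : QuasiSeparated (pullback.fst V.hom W.hom) :=
    MorphismProperty.pullback_fst (P := @QuasiSeparated) _ _ inferInstance
  exact ⟨(inferInstance : QuasiCompact (pullback.fst V.hom W.hom ≫ V.hom)),
    (inferInstance : QuasiSeparated (pullback.fst V.hom W.hom ≫ V.hom))⟩

set_option maxHeartbeats 800000 in
/-- **Group laws descend.** -/
theorem exists_isGrp (hc : IsLimit c) {H : Over (D.obj j)} [QuasiCompact H.hom]
    [QuasiSeparated H.hom] [LocallyOfFinitePresentation H.hom]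
    {mu : Over.mk (c.π.app j) ⊗ (H ⊗ H) ⟶ H} {ep : Over.mk (c.π.app j) ⊗ 𝟙_ (Over (D.obj j)) ⟶ H}
    {io : Over.mk (c.π.app j) ⊗ H ⟶ H} (h : IsGrp mu ep io) :
    ∃ (k : I) (f : k ⟶ j) (mu' : Over.mk (D.map f) ⊗ (H ⊗ H) ⟶ H)
      (ep' : Over.mk (D.map f) ⊗ 𝟙_ (Over (D.obj j)) ⟶ H) (io' : Over.mk (D.map f) ⊗ H ⟶ H),
      IsGrp mu' ep' io' ∧ proj c f ▷ (H ⊗ H) ≫ mu' = mu := by
  obtain ⟨hHH, hHH'⟩ := qcqs_tensor H H
  obtain ⟨hH3, -⟩ := qcqs_tensor H (H ⊗ H)
  have : QuasiCompact (𝟙_ (Over (D.obj j))).hom :=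
    (inferInstance : QuasiCompact (𝟙 (D.obj j)))
  have : QuasiSeparated (𝟙_ (Over (D.obj j))).hom :=
    (inferInstance : QuasiSeparated (𝟙 (D.obj j)))
  obtain ⟨k₁, f₁, mu₁, hmu₁⟩ := exists_proj_whiskerRight hc mu
  obtain ⟨k₂, f₂, ep₂, hep₂⟩ := exists_proj_whiskerRight hc ep
  obtain ⟨k₃, f₃, io₃, hio₃⟩ := exists_proj_whiskerRight hc io
  obtain ⟨k₁₂, a₁, a₂, ea⟩ := IsCofiltered.cospan f₁ f₂
  obtain ⟨k₀, b₁₂, b₃, eb⟩ := IsCofiltered.cospan (a₁ ≫ f₁) f₃
  obtain ⟨f₀, hf₀⟩ : ∃ f₀ : k₀ ⟶ j, f₀ = b₃ ≫ f₃ := ⟨_, rfl⟩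
  have e₁ : (b₁₂ ≫ a₁) ≫ f₁ = f₀ := by rw [hf₀, Category.assoc, eb]
  have e₂ : (b₁₂ ≫ a₂) ≫ f₂ = f₀ := by rw [hf₀, Category.assoc, ← ea, eb]
  let mu₀ := tr D _ e₁ ▷ (H ⊗ H) ≫ mu₁
  let ep₀ := tr D _ e₂ ▷ 𝟙_ _ ≫ ep₂
  let io₀ := tr D _ hf₀.symm ▷ H ≫ io₃
  have hmu₀ : proj c f₀ ▷ (H ⊗ H) ≫ mu₀ = mu := by
    rw [← MonoidalCategory.comp_whiskerRight_assoc, proj_tr, hmu₁]
  have hep₀ : proj c f₀ ▷ 𝟙_ _ ≫ ep₀ = ep := by
    rw [← MonoidalCategory.comp_whiskerRight_assoc, proj_tr, hep₂]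
  have hio₀ : proj c f₀ ▷ H ≫ io₀ = io := by
    rw [← MonoidalCategory.comp_whiskerRight_assoc, proj_tr, hio₃]
  clear_value mu₀ ep₀ io₀
  have hop : ∀ {X : Over (D.obj j)} (t : X ⟶ Over.mk (c.π.app j)) (x y : X ⟶ H),
      op mu₀ (t ≫ proj c f₀) x y = op mu t x y := fun t x y => by
    rw [← hmu₀, op_whiskerRight]
  have hone : ∀ {X : Over (D.obj j)} (t : X ⟶ Over.mk (c.π.app j)),
      one ep₀ (t ≫ proj c f₀) = one ep t := fun t => by
    rw [← hep₀, one_whiskerRight]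
  have hinv : ∀ {X : Over (D.obj j)} (t : X ⟶ Over.mk (c.π.app j)) (x : X ⟶ H),
      lift (t ≫ proj c f₀) x ≫ io₀ = lift t x ≫ io := fun t x => by
    rw [← hio₀, lift_whiskerRight_assoc]
  -- associativity
  let t₃ : Over.mk (D.map f₀) ⊗ (H ⊗ (H ⊗ H)) ⟶ Over.mk (D.map f₀) := fst _ _
  let x₃ : Over.mk (D.map f₀) ⊗ (H ⊗ (H ⊗ H)) ⟶ H := snd _ _ ≫ fst _ _
  let y₃ : Over.mk (D.map f₀) ⊗ (H ⊗ (H ⊗ H)) ⟶ H := snd _ _ ≫ snd _ _ ≫ fst _ _
  let z₃ : Over.mk (D.map f₀) ⊗ (H ⊗ (H ⊗ H)) ⟶ H := snd _ _ ≫ snd _ _ ≫ snd _ _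
  obtain ⟨l₁, g₁, hg₁⟩ := exists_tr_eq hc f₀ (op mu₀ t₃ (op mu₀ t₃ x₃ y₃) z₃)
    (op mu₀ t₃ x₃ (op mu₀ t₃ y₃ z₃)) (by
      simp only [comp_op, t₃, x₃, y₃, z₃, whiskerRight_fst, whiskerRight_snd_assoc, hop]
      exact h.assoc _ _ _ _)
  -- neutral element
  let t₁ : Over.mk (D.map f₀) ⊗ H ⟶ Over.mk (D.map f₀) := fst _ _
  let x₁ : Over.mk (D.map f₀) ⊗ H ⟶ H := snd _ _
  obtain ⟨l₂, g₂, hg₂⟩ := exists_tr_eq hc f₀ (op mu₀ t₁ (one ep₀ t₁) x₁) x₁ (by
      simp only [comp_op, comp_one, t₁, x₁, whiskerRight_fst, whiskerRight_snd, hop, hone]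
      exact h.one_mul _ _)
  -- inverse
  obtain ⟨l₃, g₃, hg₃⟩ := exists_tr_eq hc f₀ (op mu₀ t₁ (lift t₁ x₁ ≫ io₀) x₁) (one ep₀ t₁) (by
      simp only [comp_op, comp_one, t₁, x₁, comp_lift_assoc, whiskerRight_fst, whiskerRight_snd,
        hop, hone, hinv]
      exact h.inv_mul _ _)
  obtain ⟨l₁₂, a₁', a₂', ea'⟩ := IsCofiltered.cospan g₁ g₂
  obtain ⟨k, b₁₂', b₃', eb'⟩ := IsCofiltered.cospan (a₁' ≫ g₁) g₃
  obtain ⟨g, hg⟩ : ∃ g : k ⟶ k₀, g = b₃' ≫ g₃ := ⟨_, rfl⟩
  have d₁ : (b₁₂' ≫ a₁') ≫ g₁ = g := by rw [hg, Category.assoc, eb']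
  have d₂ : (b₁₂' ≫ a₂') ≫ g₂ = g := by rw [hg, Category.assoc, ← ea', eb']
  let s := tr D g (rfl : g ≫ f₀ = g ≫ f₀)
  refine ⟨k, g ≫ f₀, s ▷ (H ⊗ H) ≫ mu₀, s ▷ 𝟙_ _ ≫ ep₀, s ▷ H ≫ io₀, ⟨?_, ?_, ?_⟩, ?_⟩
  · intro X t x y z
    have e₁' := congrArg (fun w =>
      lift (t ≫ tr D (b₁₂' ≫ a₁') (show (b₁₂' ≫ a₁') ≫ g₁ ≫ f₀ = g ≫ f₀ by
        rw [← Category.assoc, d₁])) (lift x (lift y z)) ≫ w) hg₁
    simp only [lift_whiskerRight_assoc, comp_op, t₃, x₃, y₃, z₃, lift_fst, lift_snd_assoc,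
      lift_snd] at e₁'
    have ht : (t ≫ tr D (b₁₂' ≫ a₁') (show (b₁₂' ≫ a₁') ≫ g₁ ≫ f₀ = g ≫ f₀ by
        rw [← Category.assoc, d₁])) ≫ tr D g₁ rfl = t ≫ s := by
      apply Over.OverMorphism.ext
      show (t.left ≫ D.map _) ≫ D.map g₁ = t.left ≫ D.map g
      rw [Category.assoc, ← D.map_comp, d₁]
    rw [ht] at e₁'
    simp only [op_whiskerRight]
    exact e₁'
  · intro X t x
    have e₂' := congrArg (fun w =>
      lift (t ≫ tr D (b₁₂' ≫ a₂') (show (b₁₂' ≫ a₂') ≫ g₂ ≫ f₀ = g ≫ f₀ by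
        rw [← Category.assoc, d₂])) x ≫ w) hg₂
    simp only [lift_whiskerRight_assoc, comp_op, comp_one, t₁, x₁, lift_fst, lift_snd] at e₂'
    have ht : (t ≫ tr D (b₁₂' ≫ a₂') (show (b₁₂' ≫ a₂') ≫ g₂ ≫ f₀ = g ≫ f₀ by
        rw [← Category.assoc, d₂])) ≫ tr D g₂ rfl = t ≫ s := by
      apply Over.OverMorphism.ext
      show (t.left ≫ D.map _) ≫ D.map g₂ = t.left ≫ D.map g
      rw [Category.assoc, ← D.map_comp, d₂]
    rw [ht] at e₂'
    simp only [op_whiskerRight, one_whiskerRight]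
    exact e₂'
  · intro X t x
    have e₃' := congrArg (fun w =>
      lift (t ≫ tr D b₃' (show b₃' ≫ g₃ ≫ f₀ = g ≫ f₀ by
        rw [← Category.assoc, ← hg])) x ≫ w) hg₃
    simp only [lift_whiskerRight_assoc, comp_op, comp_one, comp_lift_assoc, t₁, x₁, lift_fst,
      lift_snd] at e₃'
    have ht : (t ≫ tr D b₃' (show b₃' ≫ g₃ ≫ f₀ = g ≫ f₀ by
        rw [← Category.assoc, ← hg])) ≫ tr D g₃ rfl = t ≫ s := by
      apply Over.OverMorphism.ext
      show (t.left ≫ D.map _) ≫ D.map g₃ = t.left ≫ D.map g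
      rw [Category.assoc, ← D.map_comp, ← hg]
    rw [ht] at e₃'
    simp only [op_whiskerRight, one_whiskerRight, lift_whiskerRight_assoc]
    exact e₃'
  · rw [← MonoidalCategory.comp_whiskerRight_assoc, proj_tr, hmu₀]

end Limit

end Groth.Agent.H69.GrpData
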