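import Groth.Agent.H69.IdealStage
import Groth.Agent.Lib.Lim.IdealDescend
import Groth.Agent.Lib.Ideal.Comap

/-!
# Locally principal ideal sheaves descend to a stage
-/

set_option autoImplicit false
set_option backward.isDefEq.respectTransparency false

universe u

open CategoryTheory CategoryTheory.Limits AlgebraicGeometry TopologicalSpace
open Groth.Agent.Lib.Lim Groth.Agent.Lib.Ideal

namespace Groth.Agent.H69.IdealLP

variable {I : Type u} [SmallCategory I] [IsCofiltered I] {D : I ⥤ Scheme.{u}} {c : Cone D}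

theorem isFG_comap {X Y : Scheme.{u}} (g : X ⟶ Y) {J : Y.IdealSheafData}
    (hJ : IdealExt.IsFG J) : IdealExt.IsFG (J.comap g) := by
  have hex : ∀ x : X, ∃ V : X.affineOpens, x ∈ V.1 ∧ ∃ U : Y.affineOpens, V.1 ≤ g ⁻¹ᵁ U.1 := by
    intro x
    obtain ⟨U, hU, hxU, -⟩ := exists_isAffineOpen_mem_and_subset (U := ⊤) (x := g x) trivial
    obtain ⟨V, hV, hxV, hle⟩ := exists_isAffineOpen_mem_and_subset (U := g ⁻¹ᵁ U) (x := x) hxU
    exact ⟨⟨V, hV⟩, hxV, ⟨U, hU⟩, hle⟩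
  choose V hxV U hle using hex
  refine IdealExt.isFG_of_iSup_eq_top _ V
    (top_le_iff.mp fun x _ => Opens.mem_iSup.mpr ⟨x, hxV x⟩) fun x => ?_
  rw [Comap.ideal_comap g J (U x) (V x) (hle x)]
  exact (hJ (U x)).map _

/-- The affine case. -/
theorem exists_principal_affine [∀ i, IsAffine (D.obj i)] (hc : IsLimit c) [IsAffine c.pt] (i : I)
    (K : (D.obj i).IdealSheafData) (hK : IdealExt.IsFG K) (f : Γ(c.pt, ⊤))
    (h : (K.comap (c.π.app i)).ideal ⟨⊤, isAffineOpen_top c.pt⟩ = Ideal.span {f}) :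
    ∃ (j : I) (t : j ⟶ i) (g : Γ(D.obj j, ⊤)),
      (K.comap (D.map t)).ideal ⟨⊤, isAffineOpen_top _⟩ = Ideal.span {g} := by
  have hA : ∀ {i j : I} (g : i ⟶ j), IsAffineHom (D.map g) := fun g => isAffineHom_of_isAffine _
  have : ∀ k, IsAffine (((Functor.const I).obj c.pt).obj k) := fun _ => ‹IsAffine c.pt›
  obtain ⟨i', b', hb'⟩ := exists_appTop_π_eq_of_isLimit D c hc f
  obtain ⟨k, t, t', -⟩ := IsCofilteredOrEmpty.cone_objs i i'
  let b : Γ(D.obj k, ⊤) := (D.map t').appTop b'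
  have hb : (c.π.app k).appTop b = f := by
    rw [← ConcreteCategory.comp_apply, ← Scheme.Hom.comp_appTop, c.w]
    exact hb'.symm
  let P : (D.obj k).IdealSheafData := Scheme.IdealSheafData.ofIdealTop (Ideal.span {b})
  have hPtop : P.ideal ⟨⊤, isAffineOpen_top _⟩ = Ideal.span {b} :=
    Scheme.IdealSheafData.equivOfIsAffine.right_inv _
  have hPfg : IdealExt.IsFG P := by
    refine IdealExt.isFG_of_iSup_eq_top _ (fun _ : Unit => ⟨⊤, isAffineOpen_top _⟩) (by simp)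
      fun _ => ?_
    rw [hPtop]
    exact Submodule.fg_span_singleton b
  have heq : (K.comap (D.map t)).comap (c.π.app k) = P.comap (c.π.app k) := by
    apply Scheme.IdealSheafData.ext_of_isAffine
    rw [Comap.ideal_comap_top (X := c.pt) (c.π.app k) P, hPtop, Ideal.map_span, Set.image_singleton,
      ← Scheme.IdealSheafData.comap_comp, c.w, h]
    exact congrArg (fun z => Ideal.span {z}) hb.symm
  obtain ⟨m₁, s₁, hs₁⟩ := IdealStage.exists_comap_le_comap hc (K.comap (D.map t)) P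
    (isFG_comap _ hK) heq.le
  obtain ⟨m₂, s₂, hs₂⟩ := IdealStage.exists_comap_le_comap hc P (K.comap (D.map t)) hPfg heq.ge
  obtain ⟨m, a, a', ha⟩ := IsCofiltered.cospan s₁ s₂
  have e1 : (K.comap (D.map t)).comap (D.map (a ≫ s₁)) = P.comap (D.map (a ≫ s₁)) := by
    apply le_antisymm
    · rw [D.map_comp, Scheme.IdealSheafData.comap_comp, Scheme.IdealSheafData.comap_comp]
      exact Scheme.IdealSheafData.comap_mono _ hs₁
    · rw [ha, D.map_comp, Scheme.IdealSheafData.comap_comp, Scheme.IdealSheafData.comap_comp]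
      exact Scheme.IdealSheafData.comap_mono _ hs₂
  refine ⟨m, (a ≫ s₁) ≫ t, (D.map (a ≫ s₁)).appTop b, ?_⟩
  rw [D.map_comp (a ≫ s₁) t, Scheme.IdealSheafData.comap_comp, e1,
    Comap.ideal_comap_top (D.map (a ≫ s₁)) P, hPtop, Ideal.map_span, Set.image_singleton]

variable [∀ {i j : I} (g : i ⟶ j), IsAffineHom (D.map g)] [∀ i, CompactSpace (D.obj i)]
  [∀ i, QuasiSeparatedSpace (D.obj i)]

/-- An ideal sheaf on the limit which is locally generated by one section comes from such an ideal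
sheaf on a stage. -/
theorem exists_locPrincipal (hc : IsLimit c) (IX : c.pt.IdealSheafData)
    (hX : ∀ x : c.pt, ∃ U : c.pt.affineOpens, x ∈ U.1 ∧
      ∃ f : Γ(c.pt, U.1), IX.ideal U = Ideal.span {f}) :
    ∃ (i : I) (J : (D.obj i).IdealSheafData), IdealExt.IsFG J ∧
      (∀ x : D.obj i, ∃ U : (D.obj i).affineOpens, x ∈ U.1 ∧
        ∃ f : Γ(D.obj i, U.1), J.ideal U = Ideal.span {f}) ∧
      J.comap (c.π.app i) = IX := by
  classical
  choose U hU f hf using hX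
  have hfg : IdealExt.IsFG IX := IdealExt.isFG_of_iSup_eq_top _ U
    (top_le_iff.mp fun x _ => Opens.mem_iSup.mpr ⟨x, hU x⟩) fun x => by
      rw [hf x]; exact Submodule.fg_span_singleton (f x)
  obtain ⟨i, K, hK, hKX⟩ := IdealDescend.exists_comap_eq D c hc IX hfg
  obtain ⟨i₁, s, V, hV, hV'⟩ := Scheme.exists_isOpenCover_and_isAffine D c hc (fun x => (U x).1)
    (top_le_iff.mp fun x _ => Opens.mem_iSup.mpr ⟨x, hU x⟩) (fun x => (U x).2)
  obtain ⟨k, a, a₁, -⟩ := IsCofilteredOrEmpty.cone_objs i i₁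
  let K₀ := K.comap (D.map a)
  have hK₀ : IdealExt.IsFG K₀ := isFG_comap _ hK
  let W : s → (D.obj k).affineOpens := fun p => ⟨D.map a₁ ⁻¹ᵁ V p, (hV' p).1.preimage _⟩
  have hstage : ∀ p : s, ∃ (m : Over k) (g : Γ(D.obj m.left, D.map m.hom ⁻¹ᵁ (W p).1)),
      (K₀.comap (D.map m.hom)).ideal ⟨_, (W p).2.preimage (D.map m.hom)⟩ = Ideal.span {g} := by
    intro p
    let D' := opensDiagram D k (W p).1
    let c' := opensCone D c k (W p).1
    have : ∀ j, IsAffine (D'.obj j) := fun j => (W p).2.preimage (D.map j.hom)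
    have hπk : IsAffineHom (c.π.app k) := Basic.isAffineHom_π hc k
    have hUeq : c.π.app k ⁻¹ᵁ (W p).1 = (U p.1).1 := by
      show c.π.app k ⁻¹ᵁ (D.map a₁ ⁻¹ᵁ V p) = _
      rw [← Scheme.Hom.comp_preimage, c.w]
      exact (hV' p).2.symm
    have : IsAffine c'.pt := (W p).2.preimage (c.π.app k)
    let K' : (D'.obj (Over.mk (𝟙 k))).IdealSheafData :=
      K₀.comap ((D.map (𝟙 k) ⁻¹ᵁ (W p).1).ι ≫ D.map (𝟙 k))
    let Uc : c.pt.affineOpens := ⟨c.π.app k ⁻¹ᵁ (W p).1, (W p).2.preimage _⟩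
    obtain ⟨f', hf'⟩ : ∃ f', IX.ideal Uc = Ideal.span {f'} := by
      have : Uc = U p.1 := Subtype.ext hUeq
      rw [this]; exact ⟨_, hf p.1⟩
    have h1 : K'.comap (c'.π.app (Over.mk (𝟙 k))) = IX.comap Uc.1.ι := by
      rw [← Scheme.IdealSheafData.comap_comp, ← hKX]
      show (K.comap (D.map a)).comap _ = _
      rw [← Scheme.IdealSheafData.comap_comp, ← Scheme.IdealSheafData.comap_comp]
      congr 1
      show ((c.π.app k).resLE (D.map (𝟙 k) ⁻¹ᵁ (W p).1) (c.π.app k ⁻¹ᵁ (W p).1) _ ≫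
        (D.map (𝟙 k) ⁻¹ᵁ (W p).1).ι ≫ D.map (𝟙 k)) ≫ D.map a =
        (c.π.app k ⁻¹ᵁ (W p).1).ι ≫ c.π.app i
      simp only [Category.assoc, Scheme.Hom.resLE_comp_ι_assoc, ← D.map_comp, Category.id_comp,
        c.w]
    obtain ⟨m, t, g, hg⟩ := exists_principal_affine (isLimitOpensCone D c hc k (W p).1)
      (Over.mk (𝟙 k)) K' (isFG_comap _ hK₀) (Uc.1.topIso.inv f') (by
        rw [h1, Comap.ideal_comap_ι_top Uc IX, hf', Ideal.map_span, Set.image_singleton]
        rfl)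
    refine ⟨m, (D.map m.hom ⁻¹ᵁ (W p).1).topIso.hom g, ?_⟩
    let Wm : (D.obj m.left).affineOpens := ⟨_, (W p).2.preimage (D.map m.hom)⟩
    have h2 : K'.comap (D'.map t) = (K₀.comap (D.map m.hom)).comap Wm.1.ι := by
      have hw : D.map t.left ≫ D.map (𝟙 k) = D.map m.hom := by
        rw [← D.map_comp]; exact congrArg D.map (Over.w t)
      have hmor : D'.map t ≫ (D.map (𝟙 k) ⁻¹ᵁ (W p).1).ι ≫ D.map (𝟙 k) =
          Wm.1.ι ≫ D.map m.hom := by
        show (D.map t.left).resLE (D.map (𝟙 k) ⁻¹ᵁ (W p).1) (D.map m.hom ⁻¹ᵁ (W p).1) _ ≫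
          (D.map (𝟙 k) ⁻¹ᵁ (W p).1).ι ≫ D.map (𝟙 k) = (D.map m.hom ⁻¹ᵁ (W p).1).ι ≫ D.map m.hom
        rw [Scheme.Hom.resLE_comp_ι_assoc, hw]
      exact (Scheme.IdealSheafData.comap_comp K₀ (D'.map t) _).symm.trans
        ((congrArg K₀.comap hmor).trans (Scheme.IdealSheafData.comap_comp K₀ Wm.1.ι _))
    rw [h2, Comap.ideal_comap_ι_top Wm] at hg
    have h3 := congrArg (Ideal.map Wm.1.topIso.hom.hom) hg
    rw [Ideal.map_map, ← CommRingCat.hom_comp, Iso.inv_hom_id, CommRingCat.hom_id, Ideal.map_id,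
      Ideal.map_span, Set.image_singleton] at h3
    exact h3
  choose m g hg using hstage
  obtain ⟨n, hn⟩ := IsCofiltered.inf_objs_exists (Finset.univ.image m)
  have hmor : ∀ p, Nonempty (n ⟶ m p) := fun p =>
    hn (Finset.mem_image_of_mem m (Finset.mem_univ p))
  refine ⟨n.left, K₀.comap (D.map n.hom), isFG_comap _ hK₀, fun x => ?_, ?_⟩
  · have hx : D.map n.hom x ∈ ⨆ p : s, (W p).1 := by
      obtain ⟨p, hp⟩ := Opens.mem_iSup.mp (hV.ge (Set.mem_univ (D.map a₁ (D.map n.hom x))))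
      exact Opens.mem_iSup.mpr ⟨p, hp⟩
    obtain ⟨p, hp⟩ := Opens.mem_iSup.mp hx
    obtain ⟨φ⟩ := hmor p
    let Wn : (D.obj n.left).affineOpens := ⟨D.map n.hom ⁻¹ᵁ (W p).1, (W p).2.preimage _⟩
    have hle : Wn.1 ≤ D.map φ.left ⁻¹ᵁ (D.map (m p).hom ⁻¹ᵁ (W p).1) := by
      rw [← Scheme.Hom.comp_preimage, ← D.map_comp, Over.w φ]
    refine ⟨Wn, hp, (D.map φ.left).appLE _ Wn.1 hle (g p), ?_⟩
    have e : K₀.comap (D.map n.hom) = (K₀.comap (D.map (m p).hom)).comap (D.map φ.left) := by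
      exact (congrArg (fun h => K₀.comap (D.map h)) (Over.w φ).symm).trans (by
        rw [D.map_comp, Scheme.IdealSheafData.comap_comp])
    rw [e, Comap.ideal_comap (D.map φ.left) _ ⟨_, (W p).2.preimage (D.map (m p).hom)⟩ Wn hle, hg p,
      Ideal.map_span, Set.image_singleton]
  · rw [← Scheme.IdealSheafData.comap_comp, c.w, ← Scheme.IdealSheafData.comap_comp, c.w, hKX]

end Groth.Agent.H69.IdealLP
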