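import Groth.Agent.Lib.Lim.IdealFP
import Groth.Agent.Lib.Lim.Basic

/-!
# Inclusions of ideal sheaves descend to a stage
-/

set_option autoImplicit false
set_option backward.isDefEq.respectTransparency false

universe u

open CategoryTheory CategoryTheory.Limits AlgebraicGeometry
open Groth.Agent.Lib.Lim

namespace Groth.Agent.H69.IdealStage

variable {I : Type u} [SmallCategory I] [IsCofiltered I] {D : I ⥤ Scheme.{u}} {c : Cone D}
  [∀ {i j : I} (g : i ⟶ j), IsAffineHom (D.map g)]

/-- An inclusion `J ⊆ K` of ideal sheaves on a stage, `J` locally finitely generated, which holds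
on the limit holds at some stage. -/
theorem exists_comap_le_comap (hc : IsLimit c) {i : I} [CompactSpace (D.obj i)]
    [QuasiSeparatedSpace (D.obj i)] (J K : (D.obj i).IdealSheafData) (hJ : IdealExt.IsFG J)
    (h : J.comap (c.π.app i) ≤ K.comap (c.π.app i)) :
    ∃ (j : I) (t : j ⟶ i), J.comap (D.map t) ≤ K.comap (D.map t) := by
  have := IdealFP.lfp_subschemeι J hJ
  have : CompactSpace K.subscheme := QuasiCompact.compactSpace_of_compactSpace K.subschemeι
  have : QuasiSeparatedSpace K.subscheme := quasiSeparatedSpace_of_quasiSeparated K.subschemeι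
  let P := (K.comap (c.π.app i)).subscheme
  have hP : IsPullback ((K.comapIso (c.π.app i)).hom ≫ pullback.snd _ _)
      (K.comap (c.π.app i)).subschemeι K.subschemeι (c.π.app i) :=
    (IsPullback.of_iso_pullback ⟨by rw [Category.assoc, ← pullback.condition,
        ← Scheme.IdealSheafData.comapIso_hom_fst, Category.assoc]⟩
      (K.comapIso (c.π.app i)) (Scheme.IdealSheafData.comapIso_hom_fst _ _) rfl).flip
  let g₀ : P ⟶ J.subscheme :=
    Scheme.IdealSheafData.inclusion h ≫ (J.comapIso (c.π.app i)).hom ≫ pullback.snd _ _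
  have hg₀ : g₀ ≫ J.subschemeι =
      ((K.comapIso (c.π.app i)).hom ≫ pullback.snd _ _) ≫ K.subschemeι := by
    simp [g₀, P, ← pullback.condition]
  obtain ⟨j, t, g', hg', -⟩ := Basic.exists_bc_hom hc hP J.subschemeι K.subschemeι g₀ hg₀
  refine ⟨j, t, (Scheme.IdealSheafData.le_map_iff_comap_le).mp ?_⟩
  let m : (K.comap (D.map t)).subscheme ⟶ J.subscheme :=
    (K.comapIso (D.map t)).hom ≫ (pullbackSymmetry _ _).hom ≫ g'
  have hm : m ≫ J.subschemeι = (K.comap (D.map t)).subschemeι ≫ D.map t := by
    simp [m, hg', ← pullback.condition]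
  rw [Scheme.IdealSheafData.map, ← hm]
  exact J.ker_subschemeι.symm.le.trans (Scheme.Hom.le_ker_comp _ _)

end Groth.Agent.H69.IdealStage
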