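import Groth.Agent.Lib.Lim.IdealDescend
import Mathlib.AlgebraicGeometry.Morphisms.ClosedImmersion

/-!
# Scheme-theoretic closures of open subschemes along a limit

For a cofiltered limit with affine transition maps over `T` and a retrocompact open `W ⊆ T`, the
scheme-theoretic closures of the preimages of `W` in the stages have as limit the closure of the
preimage of `W` in the limit.
-/

set_option autoImplicit false
set_option backward.isDefEq.respectTransparency false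
set_option linter.unusedVariables false

universe u

open CategoryTheory CategoryTheory.Limits AlgebraicGeometry TopologicalSpace

namespace Groth.Agent.H69.ImageLimit

/-- The kernel of the inclusion of the image is the kernel. -/
theorem ker_imageι {X Y : Scheme.{u}} (f : X ⟶ Y) : f.imageι.ker = f.ker := by
  simp [Scheme.Hom.imageι, Scheme.Hom.image]

theorem image_preimage_le {X : Scheme.{u}} (U V : X.Opens) : U.ι ''ᵁ (U.ι ⁻¹ᵁ V) ≤ V := by
  rintro _ ⟨y, hy, rfl⟩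
  exact hy

/-- An ideal sheaf killed by a morphism on the members of an affine cover lies in its kernel. -/
theorem le_ker_of_cover {X Y : Scheme.{u}} (f : X ⟶ Y) (J : Y.IdealSheafData) {ι : Type*}
    (V : ι → Y.affineOpens) (hV : ⨆ i, (V i).1 = ⊤)
    (h : ∀ i, J.ideal (V i) ≤ RingHom.ker (f.app (V i).1).hom) : J ≤ f.ker := by
  refine Scheme.IdealSheafData.le_ofIdeals_iff.mpr fun U s hs => ?_
  show f.app U.1 s = 0
  apply X.IsSheaf.section_ext
  intro x hx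
  obtain ⟨i, hi⟩ := Opens.mem_iSup.mp (hV.ge (Set.mem_univ (f x)))
  obtain ⟨g, g', e, hg⟩ := exists_basicOpen_le_affine_inter U.2 (V i).2 (f x) ⟨hx, hi⟩
  let B : Y.affineOpens := ⟨Y.basicOpen g, U.2.basicOpen g⟩
  have hB1 : B.1 ≤ U.1 := Y.basicOpen_le g
  have hB2 : B.1 ≤ (V i).1 := by
    show Y.basicOpen g ≤ _
    rw [e]; exact Y.basicOpen_le g'
  refine ⟨f ⁻¹ᵁ B.1, Scheme.Hom.preimage_mono f hB1, hg, ?_⟩
  rw [map_zero]
  have hsB : Y.presheaf.map (homOfLE hB1).op s ∈ J.ideal B := by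
    rw [← J.map_ideal (U := B) (V := U) hB1]
    exact Ideal.mem_map_of_mem _ hs
  have hker : J.ideal B ≤ RingHom.ker (f.app B.1).hom := by
    rw [← J.map_ideal (U := B) (V := V i) hB2, Ideal.map_le_iff_le_comap]
    intro t ht
    show f.app B.1 (Y.presheaf.map (homOfLE hB2).op t) = 0
    rw [← CommRingCat.comp_apply, f.naturality, CommRingCat.comp_apply, (h i ht : f.app _ t = 0),
      map_zero]
  have h2 : f.app B.1 (Y.presheaf.map (homOfLE hB1).op s) = 0 := hker hsB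
  rw [← CommRingCat.comp_apply, f.naturality, CommRingCat.comp_apply] at h2
  exact h2

variable {I : Type u} [SmallCategory I] {E : I ⥤ Scheme.{u}} {T : Scheme.{u}}
  (q : E ⟶ (Functor.const I).obj T) (W : T.Opens) [QuasiCompact W.ι]

instance quasiCompact_ι (j : I) : QuasiCompact (q.app j ⁻¹ᵁ W).ι :=
  MorphismProperty.of_isPullback (P := @QuasiCompact) (isPullback_morphismRestrict (q.app j) W)
    inferInstance

omit [QuasiCompact W.ι] in
theorem preimage_map {j k : I} (f : j ⟶ k) :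
    E.map f ⁻¹ᵁ (q.app k ⁻¹ᵁ W) = q.app j ⁻¹ᵁ W := by
  rw [← Scheme.Hom.comp_preimage, q.naturality f]
  rfl

omit [QuasiCompact W.ι] in
theorem ker_le {j k : I} (f : j ⟶ k) :
    (q.app k ⁻¹ᵁ W).ι.imageι.ker ≤ ((q.app j ⁻¹ᵁ W).ι.imageι ≫ E.map f).ker := by
  rw [Scheme.Hom.ker_comp, ker_imageι, ker_imageι, ← Scheme.Hom.ker_comp]
  have : (q.app j ⁻¹ᵁ W).ι ≫ E.map f =
      ((E.obj j).isoOfEq (preimage_map q W f)).inv ≫ (E.map f ∣_ (q.app k ⁻¹ᵁ W)) ≫
        (q.app k ⁻¹ᵁ W).ι := by simp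
  rw [this, ← Category.assoc]
  exact Scheme.Hom.le_ker_comp _ _

/-- The closures of the preimages of `W`. -/
noncomputable def diagram : I ⥤ Scheme.{u} where
  obj j := (q.app j ⁻¹ᵁ W).ι.image
  map {j k} f := IsClosedImmersion.lift (q.app k ⁻¹ᵁ W).ι.imageι
    ((q.app j ⁻¹ᵁ W).ι.imageι ≫ E.map f) (ker_le q W f)
  map_id j := by
    rw [← cancel_mono (q.app j ⁻¹ᵁ W).ι.imageι, IsClosedImmersion.lift_fac]
    simp
  map_comp f g := by
    rw [← cancel_mono (q.app _ ⁻¹ᵁ W).ι.imageι, IsClosedImmersion.lift_fac, Category.assoc,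
      IsClosedImmersion.lift_fac, IsClosedImmersion.lift_fac_assoc, E.map_comp, Category.assoc]

/-- The inclusions of the closures. -/
noncomputable def incl : diagram q W ⟶ E where
  app j := (q.app j ⁻¹ᵁ W).ι.imageι
  naturality j k f := IsClosedImmersion.lift_fac _ _ _

instance isClosedImmersion_incl (j : I) : IsClosedImmersion ((incl q W).app j) :=
  inferInstanceAs (IsClosedImmersion (q.app j ⁻¹ᵁ W).ι.imageι)

instance isAffineHom_map [∀ {j k : I} (f : j ⟶ k), IsAffineHom (E.map f)] {j k : I} (f : j ⟶ k) :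
    IsAffineHom ((diagram q W).map f) := by
  have : IsAffineHom ((diagram q W).map f ≫ (incl q W).app k) := by
    rw [(incl q W).naturality]; infer_instance
  exact IsAffineHom.of_comp _ ((incl q W).app k)

variable (c : Cone E) (a : c.pt ⟶ T) (ha : ∀ j, c.π.app j ≫ q.app j = a)

include ha in
omit [QuasiCompact W.ι] in
theorem ker_le_π (j : I) :
    (q.app j ⁻¹ᵁ W).ι.imageι.ker ≤ ((a ⁻¹ᵁ W).ι.imageι ≫ c.π.app j).ker := by
  rw [Scheme.Hom.ker_comp, ker_imageι, ker_imageι, ← Scheme.Hom.ker_comp]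
  have e : c.π.app j ⁻¹ᵁ (q.app j ⁻¹ᵁ W) = a ⁻¹ᵁ W := by
    rw [← Scheme.Hom.comp_preimage, ha]
  have : (a ⁻¹ᵁ W).ι ≫ c.π.app j =
      (c.pt.isoOfEq e).inv ≫ (c.π.app j ∣_ (q.app j ⁻¹ᵁ W)) ≫ (q.app j ⁻¹ᵁ W).ι := by simp
  rw [this, ← Category.assoc]
  exact Scheme.Hom.le_ker_comp _ _

/-- The cone of closures. -/
noncomputable def cone : Cone (diagram q W) where
  pt := (a ⁻¹ᵁ W).ι.image
  π :=
    { app := fun j => IsClosedImmersion.lift (q.app j ⁻¹ᵁ W).ι.imageι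
        ((a ⁻¹ᵁ W).ι.imageι ≫ c.π.app j) (ker_le_π q W c a ha j)
      naturality := fun j k f => by
        rw [← cancel_mono (q.app k ⁻¹ᵁ W).ι.imageι]
        simp only [Functor.const_obj_obj, Functor.const_obj_map, Category.id_comp, Category.assoc,
          IsClosedImmersion.lift_fac]
        rw [show (diagram q W).map f ≫ (q.app k ⁻¹ᵁ W).ι.imageι =
          (q.app j ⁻¹ᵁ W).ι.imageι ≫ E.map f from (incl q W).naturality f,
          IsClosedImmersion.lift_fac_assoc, Category.assoc, c.w f] }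

theorem cone_π_fac (j : I) :
    (cone q W c a ha).π.app j ≫ (incl q W).app j = (a ⁻¹ᵁ W).ι.imageι ≫ c.π.app j :=
  IsClosedImmersion.lift_fac _ _ _

include ha in
theorem ker_le_lift [IsCofiltered I] [∀ {j k : I} (f : j ⟶ k), IsAffineHom (E.map f)]
    (hc : IsLimit c) (s : Cone (diagram q W)) :
    (a ⁻¹ᵁ W).ι.imageι.ker ≤ (hc.lift ((Cone.postcompose (incl q W)).obj s)).ker := by
  obtain ⟨j₀⟩ := IsCofiltered.nonempty (C := I)
  have : IsAffineHom (c.π.app j₀) := Groth.Agent.Lib.Lim.Basic.isAffineHom_π hc j₀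
  let w := hc.lift ((Cone.postcompose (incl q W)).obj s)
  have hw : ∀ j, w ≫ c.π.app j = s.π.app j ≫ (incl q W).app j := fun j => hc.fac _ j
  rw [ker_imageι]
  refine le_ker_of_cover w _
    (fun V : (E.obj j₀).affineOpens => ⟨c.π.app j₀ ⁻¹ᵁ V.1, V.2.preimage _⟩) ?_ fun V => ?_
  · show (⨆ V : (E.obj j₀).affineOpens, c.π.app j₀ ⁻¹ᵁ V.1) = ⊤
    rw [← Scheme.Hom.preimage_iSup, iSup_affineOpens_eq_top, Scheme.Hom.preimage_top]
  intro b hb
  have hqa : QuasiCompact (a ⁻¹ᵁ W).ι :=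
    MorphismProperty.of_isPullback (P := @QuasiCompact) (isPullback_morphismRestrict a W)
      inferInstance
  rw [Scheme.Hom.ker_apply] at hb
  obtain ⟨j, β, hβ⟩ := Groth.Agent.Lib.Lim.IdealDescend.exists_section_eq E c hc j₀ V.1 V.2 b
  let Vj : (E.obj j.left).affineOpens := ⟨E.map j.hom ⁻¹ᵁ V.1, V.2.preimage _⟩
  let Oj : (E.obj j.left).Opens := (q.app j.left ⁻¹ᵁ W).ι ''ᵁ ((q.app j.left ⁻¹ᵁ W).ι ⁻¹ᵁ Vj.1)
  have hOj : Oj ≤ Vj.1 := image_preimage_le _ _
  have hcpt : IsCompact (Oj : Set (E.obj j.left)) :=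
    ((q.app j.left ⁻¹ᵁ W).ι.isCompact_preimage Vj.2.isCompact).image
      (q.app j.left ⁻¹ᵁ W).ι.continuous
  let β' := (E.obj j.left).presheaf.map (homOfLE hOj).op β
  have hle : c.π.app j.left ⁻¹ᵁ Oj ≤ (a ⁻¹ᵁ W).ι ''ᵁ ((a ⁻¹ᵁ W).ι ⁻¹ᵁ
      (c.π.app j₀ ⁻¹ᵁ V.1)) := by
    intro x hx
    rw [Scheme.Hom.image_preimage_eq_opensRange_inf, Scheme.Opens.opensRange_ι]
    have hx' : c.π.app j.left x ∈ Oj := hx
    simp only [Oj] at hx'
    rw [Scheme.Hom.image_preimage_eq_opensRange_inf, Scheme.Opens.opensRange_ι] at hx'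
    refine ⟨?_, ?_⟩
    · show a x ∈ W
      rw [← ha j.left, Scheme.Hom.comp_apply]
      exact hx'.1
    · show c.π.app j₀ x ∈ V.1
      rw [← c.w j.hom, Scheme.Hom.comp_apply]
      exact hx'.2
  have hzero : (c.π.app j.left).app Oj β' = 0 := by
    have h0 : c.pt.presheaf.map (homOfLE (x := (a ⁻¹ᵁ W).ι ''ᵁ ((a ⁻¹ᵁ W).ι ⁻¹ᵁ
      (c.π.app j₀ ⁻¹ᵁ V.1))) (image_preimage_le _ _)).op b = 0 := hb
    have h1 := congrArg (c.pt.presheaf.map (homOfLE hle).op) h0
    rw [map_zero, ← CommRingCat.comp_apply, ← Functor.map_comp, ← op_comp, homOfLE_comp, ← hβ] at h1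
    simp only [β', Scheme.Hom.app_eq_appLE, ← CommRingCat.comp_apply, Scheme.Hom.appLE_map,
      Scheme.Hom.map_appLE] at h1 ⊢
    exact (ConcreteCategory.congr_hom (Scheme.Hom.appLE_map (c.π.app j.left) _ _) β).symm.trans h1
  obtain ⟨k, f, hf⟩ := exists_app_map_eq_zero_of_isLimit E c hc hcpt β' hzero
  let Vk : (E.obj k).affineOpens := ⟨E.map f ⁻¹ᵁ Vj.1, Vj.2.preimage _⟩
  have hVk : c.π.app j₀ ⁻¹ᵁ V.1 ≤ c.π.app k ⁻¹ᵁ Vk.1 := by
    show _ ≤ c.π.app k ⁻¹ᵁ (E.map f ⁻¹ᵁ (E.map j.hom ⁻¹ᵁ V.1))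
    rw [← Scheme.Hom.comp_preimage, ← Scheme.Hom.comp_preimage, c.w, c.w]
  let βk := (E.map f).app Vj.1 β
  have hker : βk ∈ ((q.app k ⁻¹ᵁ W).ι.ker).ideal Vk := by
    rw [Scheme.Hom.ker_apply, RingHom.mem_ker]
    show (E.obj k).presheaf.map (homOfLE (x := (q.app k ⁻¹ᵁ W).ι ''ᵁ ((q.app k ⁻¹ᵁ W).ι ⁻¹ᵁ Vk.1))
      (image_preimage_le _ _)).op βk = 0
    have hle' : (q.app k ⁻¹ᵁ W).ι ''ᵁ ((q.app k ⁻¹ᵁ W).ι ⁻¹ᵁ Vk.1) ≤ E.map f ⁻¹ᵁ Oj := by
      intro x hx
      show E.map f x ∈ (q.app j.left ⁻¹ᵁ W).ι ''ᵁ ((q.app j.left ⁻¹ᵁ W).ι ⁻¹ᵁ Vj.1)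
      rw [Scheme.Hom.image_preimage_eq_opensRange_inf, Scheme.Opens.opensRange_ι]
      rw [Scheme.Hom.image_preimage_eq_opensRange_inf, Scheme.Opens.opensRange_ι] at hx
      refine ⟨?_, hx.2⟩
      have h2 : x ∈ E.map f ⁻¹ᵁ (q.app j.left ⁻¹ᵁ W) := (preimage_map q W f).symm ▸ hx.1
      exact h2
    have h1 := congrArg ((E.obj k).presheaf.map (homOfLE hle').op) hf
    rw [map_zero] at h1
    simp only [β', βk, Scheme.Hom.app_eq_appLE, ← CommRingCat.comp_apply, Scheme.Hom.appLE_map,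
      Scheme.Hom.map_appLE] at h1 ⊢
    exact (ConcreteCategory.congr_hom (Scheme.Hom.appLE_map (E.map f) _ _) β).trans h1
  show (w.app (c.π.app j₀ ⁻¹ᵁ V.1)).hom b = 0
  have hk : ((q.app k ⁻¹ᵁ W).ι.imageι).app Vk.1 βk = 0 := by
    rw [← ker_imageι, Scheme.Hom.ker_apply] at hker
    exact hker
  have e : w.app (c.π.app j₀ ⁻¹ᵁ V.1) b = (w ≫ c.π.app k).appLE Vk.1 (w ⁻¹ᵁ
      (c.π.app j₀ ⁻¹ᵁ V.1)) (by
      rw [Scheme.Hom.comp_preimage]; exact Scheme.Hom.preimage_mono _ hVk) βk := by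
    have : (c.π.app k).appLE Vk.1 (c.π.app j₀ ⁻¹ᵁ V.1) hVk βk = b := by
      rw [← hβ]
      simp only [βk, Scheme.Hom.app_eq_appLE, ← CommRingCat.comp_apply,
        Scheme.Hom.appLE_comp_appLE]
      refine (ConcreteCategory.congr_hom (Scheme.Hom.appLE_comp_appLE (c.π.app k) (E.map f)
        Vj.1 Vk.1 _ le_rfl hVk) β).trans ?_
      simp only [c.w]
      rfl
    rw [← Scheme.Hom.appLE_comp_appLE w (c.π.app k) _ _ _ hVk le_rfl, CommRingCat.comp_apply,
      Scheme.Hom.app_eq_appLE]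
    exact congrArg _ this.symm
  rw [e]
  simp only [hw k]
  rw [← Scheme.Hom.appLE_comp_appLE (s.π.app k) ((incl q W).app k) Vk.1
    ((incl q W).app k ⁻¹ᵁ Vk.1) _ le_rfl (by
      intro x hx
      show (s.π.app k ≫ (incl q W).app k) x ∈ Vk.1
      erw [← hw k]
      exact hVk hx), CommRingCat.comp_apply, ← Scheme.Hom.app_eq_appLE]
  show (s.π.app k).appLE _ _ _ (((q.app k ⁻¹ᵁ W).ι.imageι).app Vk.1 βk) = 0
  rw [hk, map_zero]

/-- The closures form a limit. -/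
noncomputable def isLimitCone [IsCofiltered I] [∀ {j k : I} (f : j ⟶ k), IsAffineHom (E.map f)]
    (hc : IsLimit c) : IsLimit (cone q W c a ha) where
  lift s := IsClosedImmersion.lift (a ⁻¹ᵁ W).ι.imageι
    (hc.lift ((Cone.postcompose (incl q W)).obj s)) (ker_le_lift q W c a ha hc s)
  fac s j := by
    rw [← cancel_mono ((incl q W).app j), Category.assoc, cone_π_fac, IsClosedImmersion.lift_fac_assoc,
      hc.fac]
    rfl
  uniq s m hm := by
    rw [← cancel_mono (a ⁻¹ᵁ W).ι.imageι, IsClosedImmersion.lift_fac]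
    refine hc.hom_ext fun j => ?_
    rw [hc.fac, Category.assoc, ← cone_π_fac q W c a ha, ← Category.assoc, hm]
    rfl

end Groth.Agent.H69.ImageLimit
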