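import Groth.Agent.Lib.Lim.Basic
import Groth.Agent.Lib.ModPair.Basic
import Groth.Agent.H69.ImageLimit

/-!
# Replacing the stages of a limit by the scheme-theoretic images of the limit
-/

set_option autoImplicit false
set_option backward.isDefEq.respectTransparency false

universe u

open CategoryTheory CategoryTheory.Limits AlgebraicGeometry TopologicalSpace

namespace Groth.Agent.H69.ImageSystem

variable {I : Type u} [SmallCategory I] [IsCofiltered I] {D : I ⥤ Scheme.{u}} (c : Cone D)

omit [IsCofiltered I] in
theorem ker_le {j k : I} (a : j ⟶ k) :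
    (c.π.app k).imageι.ker ≤ ((c.π.app j).imageι ≫ D.map a).ker := by
  rw [Scheme.Hom.ker_comp, ImageLimit.ker_imageι, ImageLimit.ker_imageι, ← Scheme.Hom.ker_comp,
    c.w a]

/-- The images of the limit in the stages. -/
noncomputable def diagram : I ⥤ Scheme.{u} where
  obj j := (c.π.app j).image
  map {j k} a := IsClosedImmersion.lift (c.π.app k).imageι ((c.π.app j).imageι ≫ D.map a)
    (ker_le c a)
  map_id j := by
    rw [← cancel_mono (c.π.app j).imageι, IsClosedImmersion.lift_fac]
    simp
  map_comp a b := by
    rw [← cancel_mono (c.π.app _).imageι, IsClosedImmersion.lift_fac, Category.assoc,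
      IsClosedImmersion.lift_fac, IsClosedImmersion.lift_fac_assoc, D.map_comp, Category.assoc]

/-- The inclusions of the images. -/
noncomputable def incl : diagram c ⟶ D where
  app j := (c.π.app j).imageι
  naturality _ _ _ := IsClosedImmersion.lift_fac _ _ _

instance isClosedImmersion_incl (j : I) : IsClosedImmersion ((incl c).app j) :=
  inferInstanceAs (IsClosedImmersion (c.π.app j).imageι)

instance isAffineHom_map [∀ {j k : I} (f : j ⟶ k), IsAffineHom (D.map f)] {j k : I} (f : j ⟶ k) :
    IsAffineHom ((diagram c).map f) := by
  have : IsAffineHom ((diagram c).map f ≫ (incl c).app k) := by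
    rw [(incl c).naturality]; infer_instance
  exact IsAffineHom.of_comp _ ((incl c).app k)

/-- The cone of images. -/
noncomputable def cone : Cone (diagram c) where
  pt := c.pt
  π :=
    { app := fun j => (c.π.app j).toImage
      naturality := fun j k a => by
        rw [← cancel_mono (c.π.app k).imageι]
        show (𝟙 _ ≫ _) ≫ _ = (_ ≫ (diagram c).map a) ≫ _
        rw [Category.id_comp, Scheme.Hom.toImage_imageι, Category.assoc,
          show (diagram c).map a ≫ (c.π.app k).imageι = (c.π.app j).imageι ≫ D.map a from
            IsClosedImmersion.lift_fac _ _ _,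
          Scheme.Hom.toImage_imageι_assoc, c.w] }

/-- The images form a system with the same limit. -/
noncomputable def isLimitCone (hc : IsLimit c) : IsLimit (cone c) where
  lift s := hc.lift ((Cone.postcompose (incl c)).obj s)
  fac s j := by
    rw [← cancel_mono (c.π.app j).imageι, Category.assoc]
    show _ ≫ (c.π.app j).toImage ≫ _ = _
    rw [Scheme.Hom.toImage_imageι, hc.fac]
    rfl
  uniq s m hm := hc.hom_ext fun j => by
    rw [hc.fac]
    show m ≫ c.π.app j = s.π.app j ≫ (c.π.app j).imageι
    rw [← hm j, Category.assoc]
    exact congrArg (m ≫ ·) (Scheme.Hom.toImage_imageι _).symm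

variable [∀ {j k : I} (f : j ⟶ k), IsAffineHom (D.map f)] (hc : IsLimit c)

include hc in
theorem std_π (j : I) : IsSchemeTheoreticallyDominant ((cone c).π.app j) :=
  have := Groth.Agent.Lib.Lim.Basic.isAffineHom_π hc j
  Groth.Agent.Lib.ModPair.std_toImage (c.π.app j)

include hc in
theorem std_map {j k : I} (a : j ⟶ k) : IsSchemeTheoreticallyDominant ((diagram c).map a) := by
  refine ⟨le_bot_iff.mp ?_⟩
  have h := Scheme.Hom.le_ker_comp ((cone c).π.app j) ((diagram c).map a)
  rw [(cone c).w a, (std_π c hc k).ker_eq_bot] at h
  exact h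

end Groth.Agent.H69.ImageSystem
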