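import Groth.Agent.Lib.Ample.Basis
import Groth.Agent.Lib.Ample.Pullback
import Mathlib.FieldTheory.IsAlgClosed.Basic
import Mathlib.RingTheory.IntegralClosure.IsIntegralClosure.Basic

/-!
# Loci of sections of an ample module around an integral family of points
-/

noncomputable section

set_option linter.style.haveILetI false
set_option backward.isDefEq.respectTransparency false

universe u

open CategoryTheory CategoryTheory.Limits AlgebraicGeometry Opposite TopologicalSpace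

namespace Groth.Agent.H69.IntegralPointsLocus

open Lib Lib.TensorMod Lib.TensorMod.Dual Lib.TensorMod.Basic Lib.TensorMod.Free Lib.TensorMod.Gen Lib.TensorMod.Pullback
open Lib.Ample.GenLocus Lib.Ample.Pow Lib.Ample.Extend Lib.Ample.Basis

section Eval

variable {X : Scheme.{u}} {K : Type u} [Field K] (h : Spec (CommRingCat.of K) ⟶ X)

/-- The value of a function at a field valued point. -/
def ev {U : X.Opens} (hU : ⊤ ≤ h ⁻¹ᵁ U) : Γ(X, U) →+* K :=
  (h.appLE U ⊤ hU ≫ (Scheme.ΓSpecIso (CommRingCat.of K)).hom).hom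

theorem ev_res {U V : X.Opens} (i : V ≤ U) (hV : ⊤ ≤ h ⁻¹ᵁ V) (a : Γ(X, U)) :
    ev h hV (rf i a) = ev h (hV.trans ((Opens.map h.base).map (homOfLE i)).le) a := by
  show (Scheme.ΓSpecIso (CommRingCat.of K)).hom ((X.presheaf.map (homOfLE i).op ≫ h.appLE V ⊤ hV) a) = _
  rw [Scheme.Hom.map_appLE]
  rfl

theorem mem_basicOpen_iff {U : X.Opens} (hU : ⊤ ≤ h ⁻¹ᵁ U) (a : Γ(X, U))
    (p : Spec (CommRingCat.of K)) : h p ∈ X.basicOpen a ↔ ev h hU a ≠ 0 := by
  have e : (Spec (CommRingCat.of K)).basicOpen (h.appLE U ⊤ hU a) = ⊤ ⊓ h ⁻¹ᵁ X.basicOpen a := by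
    rw [Scheme.Hom.appLE, CommRingCat.comp_apply, Scheme.basicOpen_res, Scheme.preimage_basicOpen]
  rw [top_inf_eq] at e
  show p ∈ h ⁻¹ᵁ X.basicOpen a ↔ _
  rw [← e, basicOpen_eq_of_affine']
  show ev h hU a ∉ p.asIdeal ↔ _
  rw [p.isPrime.ne_top |> (Ideal.eq_bot_or_top p.asIdeal).resolve_right, Ideal.mem_bot]

end Eval

section Integral

variable {X : Scheme.{u}} {k A : Type u} [Field k] [CommRing A] [Algebra k A]
  (g : Spec (CommRingCat.of A) ⟶ X)

/-- The algebraic closure. -/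
abbrev Kbar (k : Type u) [Field k] : Type u := AlgebraicClosure k

/-- The point of `X` at an algebraically closed valued point of `A`. -/
def hp (χ : A →ₐ[k] Kbar k) : Spec (CommRingCat.of (Kbar k)) ⟶ X :=
  Spec.map (CommRingCat.ofHom χ.toRingHom) ≫ g

theorem exists_point [Algebra.IsIntegral k A] (y : Spec (CommRingCat.of A)) :
    ∃ (χ : A →ₐ[k] Kbar k) (p : Spec (CommRingCat.of (Kbar k))), hp g χ p = g y := by
  haveI : y.asIdeal.IsPrime := y.isPrime
  haveI : Algebra.IsIntegral k (A ⧸ y.asIdeal) :=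
    Algebra.IsIntegral.of_surjective (Ideal.Quotient.mkₐ k y.asIdeal) Ideal.Quotient.mk_surjective
  letI : Field (A ⧸ y.asIdeal) :=
    (isField_of_isIntegral_of_isField' (R := k) (S := A ⧸ y.asIdeal) (Field.toIsField k)).toField
  let χ : A →ₐ[k] Kbar k := (IsAlgClosed.lift : (A ⧸ y.asIdeal) →ₐ[k] Kbar k).comp
    (Ideal.Quotient.mkₐ k y.asIdeal)
  let p : PrimeSpectrum (Kbar k) := default
  refine ⟨χ, p, congrArg g (PrimeSpectrum.ext ?_)⟩
  show p.asIdeal.comap χ.toRingHom = y.asIdeal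
  rw [show p.asIdeal = ⊥ from (Ideal.eq_bot_or_top _).resolve_right p.isPrime.ne_top]
  ext a
  show χ a = 0 ↔ _
  rw [← Ideal.Quotient.eq_zero_iff_mem]
  exact map_eq_zero_iff _ (RingHom.injective
    (IsAlgClosed.lift : (A ⧸ y.asIdeal) →ₐ[k] Kbar k).toRingHom)

open Classical in
theorem finite_values [Algebra.IsIntegral k A] (a : A) : {r | ∃ χ : A →ₐ[k] Kbar k, χ a = r}.Finite := by
  refine ((minpoly k a).aroots (Kbar k)).toFinset.finite_toSet.subset ?_
  rintro _ ⟨χ, rfl⟩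
  simp only [Finset.mem_coe, Multiset.mem_toFinset, Polynomial.mem_aroots]
  exact ⟨minpoly.ne_zero (Algebra.IsIntegral.isIntegral a), by
    rw [Polynomial.aeval_algHom_apply, minpoly.aeval, map_zero]⟩

/-- The localisation map to the sections on a basic open. -/
def toΓ {R : CommRingCat.{u}} (f : R) : R ⟶ Γ(Spec R, PrimeSpectrum.basicOpen f) :=
  (Scheme.ΓSpecIso R).inv ≫ (Spec R).presheaf.map (homOfLE le_top).op

theorem exists_frac {R : CommRingCat.{u}} (f : R) (z : Γ(Spec R, PrimeSpectrum.basicOpen f)) :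
    ∃ (a : R) (e : ℕ), z * toΓ f (f ^ e) = toΓ f a := by
  obtain ⟨⟨a, _, e, rfl⟩, h⟩ := IsLocalization.surj (Submonoid.powers f) z
  exact ⟨a, e, h⟩

/-- A section over a quasi-compact open takes finitely many values at the algebraic points. -/
theorem exists_finite_values [Algebra.IsIntegral k A] {U : X.Opens}
    (hc : IsCompact (g ⁻¹ᵁ U : Set (Spec (CommRingCat.of A)))) (φ : Γ(X, U)) :
    ∃ R : Set (Kbar k), R.Finite ∧
      ∀ (χ : A →ₐ[k] Kbar k) (hU : ⊤ ≤ hp g χ ⁻¹ᵁ U), ev (hp g χ) hU φ ∈ R := by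
  classical
  obtain ⟨T, hT⟩ := hc.elim_finite_subcover
    (fun f : {f : A // PrimeSpectrum.basicOpen f ≤ g ⁻¹ᵁ U} => (PrimeSpectrum.basicOpen f.1 : Set (PrimeSpectrum A)))
    (fun f => (PrimeSpectrum.basicOpen f.1).isOpen) (fun y hy => by
      obtain ⟨_, ⟨f, rfl⟩, hyf, hf⟩ := PrimeSpectrum.isTopologicalBasis_basic_opens.exists_subset_of_mem_open hy
        (g ⁻¹ᵁ U).isOpen
      exact Set.mem_iUnion.2 ⟨⟨f, hf⟩, hyf⟩)
  have hval : ∀ f : {f : A // PrimeSpectrum.basicOpen f ≤ g ⁻¹ᵁ U}, ∃ (a : A) (e : ℕ),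
      g.appLE U (PrimeSpectrum.basicOpen f.1) f.2 φ * toΓ (R := CommRingCat.of A) f.1 (f.1 ^ e) =
        toΓ (R := CommRingCat.of A) f.1 a := fun f =>
    exists_frac (R := CommRingCat.of A) f.1 _
  choose a e hae using hval
  refine ⟨⋃ f ∈ T, (fun q : Kbar k × Kbar k => q.1 / q.2 ^ e f) ''
      ({r | ∃ χ : A →ₐ[k] Kbar k, χ (a f) = r} ×ˢ {r | ∃ χ : A →ₐ[k] Kbar k, χ f.1 = r}),
    T.finite_toSet.biUnion fun f _ => ((finite_values _).prod (finite_values _)).image _,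
    fun χ hU => ?_⟩
  let s : Spec (CommRingCat.of (Kbar k)) ⟶ Spec (CommRingCat.of A) :=
    Spec.map (CommRingCat.ofHom χ.toRingHom)
  let p : Spec (CommRingCat.of (Kbar k)) := (default : PrimeSpectrum (Kbar k))
  obtain ⟨f, hfT, hf⟩ := Set.mem_iUnion₂.1 (hT (show s p ∈ g ⁻¹ᵁ U from hU (x := p) trivial))
  have hsf : ⊤ ≤ s ⁻¹ᵁ PrimeSpectrum.basicOpen f.1 := fun q _ => by
    rwa [show q = p from Subsingleton.elim _ _]
  refine Set.mem_biUnion hfT ⟨(χ (a f), χ f.1), ⟨⟨χ, rfl⟩, ⟨χ, rfl⟩⟩, ?_⟩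
  have hne : χ f.1 ≠ 0 := fun h0 => hf (show χ f.1 ∈ p.asIdeal from h0 ▸ Ideal.zero_mem _)
  show χ (a f) / χ f.1 ^ e f = ev (hp g χ) hU φ
  rw [div_eq_iff (pow_ne_zero _ hne), ← map_pow]
  have hev : ∀ b : A, ev s hsf (toΓ (R := CommRingCat.of A) f.1 b) = χ b := by
    intro b
    show (Scheme.ΓSpecIso (CommRingCat.of (Kbar k))).hom (s.appLE _ ⊤ hsf ((Spec (CommRingCat.of A)).presheaf.map (homOfLE le_top).op
      ((Scheme.ΓSpecIso (CommRingCat.of A)).inv b))) = _
    rw [← CommRingCat.comp_apply _ (s.appLE _ ⊤ hsf), Scheme.Hom.map_appLE]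
    have e1 : (Scheme.ΓSpecIso (CommRingCat.of A)).inv ≫ s.appLE ⊤ ⊤ le_top ≫
        (Scheme.ΓSpecIso (CommRingCat.of (Kbar k))).hom = CommRingCat.ofHom χ.toRingHom := by
      have : s.appLE ⊤ ⊤ le_top = s.appTop := by
        rw [Scheme.Hom.appTop, Scheme.Hom.app_eq_appLE]
        rfl
      rw [this, ← Scheme.ΓSpecIso_inv_naturality_assoc, Iso.inv_hom_id, Category.comp_id]
    exact congrArg (fun ψ => ψ b) e1
  rw [← hev, ← hae, map_mul, hev]
  congr 1
end Integral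

theorem exists_pow_eq_one {K : Type u} [Field K] {R : Set K} (hR : R.Finite) :
    ∃ N : ℕ, 0 < N ∧ ∀ r ∈ R, ∀ m : ℕ, 0 < m → r ^ m = 1 → r ^ N = 1 := by
  classical
  let F := hR.toFinset.filter IsOfFinOrder
  refine ⟨∏ r ∈ F, orderOf r, Finset.prod_pos fun r hr => (Finset.mem_filter.1 hr).2.orderOf_pos,
    fun r hr m hm h => ?_⟩
  have hfo : IsOfFinOrder r := isOfFinOrder_iff_pow_eq_one.2 ⟨m, hm, h⟩
  exact orderOf_dvd_iff_pow_eq_one.1 (Finset.dvd_prod_of_mem _ (Finset.mem_filter.2 ⟨hR.mem_toFinset.2 hr, hfo⟩))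

/-- The quadratic form used to join two sections: no middle term in characteristic three. -/
theorem join_ne_zero {K : Type u} [Field K] {r : K} {N : ℕ} (hN : 0 < N)
    (h : ∀ m : ℕ, 0 < m → r ^ m = 1 → r ^ N = 1) :
    ((3 : K) ≠ 0 → 1 + r ^ N + (r ^ N) ^ 2 ≠ 0) ∧ ((3 : K) = 0 → 1 + (r ^ N) ^ 2 ≠ 0) := by
  constructor
  · intro h3 h0
    have h1 : (r ^ N) ^ 3 = 1 := by linear_combination (r ^ N - 1) * h0
    have := h (N * 3) (by omega) (by rw [pow_mul, h1])
    rw [this] at h0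
    exact h3 (by linear_combination h0)
  · intro h3 h0
    have h1 : (r ^ N) ^ 4 = 1 := by linear_combination ((r ^ N) ^ 2 - 1) * h0
    have := h (N * 4) (by omega) (by rw [pow_mul, h1])
    rw [this] at h0
    exact one_ne_zero (α := K) (by linear_combination h3 - h0)

variable {X : Scheme.{u}} {L M : X.Modules}

theorem sv_powHom {U : X.Opens} {s : Coh.structureModule X ⟶ L} {a : Γ(X, U)} {e : Γ(L, U)}
    (ha : sv s U = a • e) (n : ℕ) :
    sv (SecTwist.powHom s n) U = a ^ n • powSec e n := by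
  rw [← powSec_smul, ← ha, ← pow_eq_powSec]
  exact SecTwist.val_powHom s n U

theorem sv_tmulHom {U : X.Opens} {s : Coh.structureModule X ⟶ L} {t : Coh.structureModule X ⟶ M}
    {a b : Γ(X, U)} {e : Γ(L, U)} {e' : Γ(M, U)} (ha : sv s U = a • e) (hb : sv t U = b • e') :
    sv (SecTwist.tmulHom s t) U =
      (a * b) • (SecTwist.tmul L M U e e' : Γ(CohB1.tensorMod L M, U)) := by
  rw [← tmul_smul, ← ha, ← hb]
  exact SecTwist.val_tmulHom s t _

section Join

variable {A : Type u} [CommRing A] (g : Spec (CommRingCat.of A) ⟶ X)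

/-- Two affine loci are joined along an integral family of points. -/
theorem exists_join (k : Type u) [Field k] [Algebra k A] [Algebra.IsIntegral k A]
    [QuasiSeparatedSpace X] (hM : PicF.IsInvertible M)
    (s t : Coh.structureModule X ⟶ M) (W : X.Opens)
    (hs : IsAffineOpen (CohB1.genLocus _ s)) (ht : IsAffineOpen (CohB1.genLocus _ t))
    (hsW : CohB1.genLocus _ s ≤ W) (htW : CohB1.genLocus _ t ≤ W) :
    ∃ n : ℕ, 0 < n ∧ ∃ w : Coh.structureModule X ⟶ CohB1.tensorPow M n,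
      IsAffineOpen (CohB1.genLocus _ w) ∧ CohB1.genLocus _ w ≤ W ∧
        ∀ y : Spec (CommRingCat.of A), g y ∈ CohB1.genLocus _ s ⊔ CohB1.genLocus _ t →
          g y ∈ CohB1.genLocus _ w := by
  classical
  obtain ⟨φ, hφ⟩ := exists_coord (isGen_genLocus s) (sv t (CohB1.genLocus _ s))
  haveI : QuasiCompact g := quasiCompact_of_compactSpace _
  obtain ⟨R, hR, hφR⟩ := exists_finite_values (k := k) g (QuasiCompact.isCompact_preimage (f := g) _
    (CohB1.genLocus _ s).isOpen hs.isCompact) φ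
  obtain ⟨N, hN, hRN⟩ := exists_pow_eq_one hR
  let S := SecTwist.powHom s N
  let T := SecTwist.powHom t N
  have hMN := TensorMod.Invertible.isInvertible_tensorPow hM N
  have hSl : CohB1.genLocus _ S = CohB1.genLocus _ s := genLocus_powHom hM s N hN
  have hTl : CohB1.genLocus _ T = CohB1.genLocus _ t := genLocus_powHom hM t N hN
  let σ : Fin 3 → (Coh.structureModule X ⟶ CohB1.tensorMod (CohB1.tensorPow M N) (CohB1.tensorPow M N)) :=
    ![SecTwist.tmulHom S S, SecTwist.tmulHom T T, if (3 : Kbar k) = 0 then 0 else SecTwist.tmulHom S T]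
  have hinv := TensorMod.Invertible.isInvertible_tensorMod hMN hMN
  have h0 : CohB1.genLocus _ (0 : Coh.structureModule X ⟶
      CohB1.tensorMod (CohB1.tensorPow M N) (CohB1.tensorPow M N)) = ⊥ := by
    refine le_bot_iff.1 fun x hx => ?_
    obtain ⟨i, hi, -⟩ := exists_mem_of_mem_genLocus_sum hinv (∅ : Finset (Fin 3)) σ (x := x)
      (by simpa using hx)
    simp at hi
  have hσl : ∀ i, IsAffineOpen (CohB1.genLocus _ (σ i)) ∧ CohB1.genLocus _ (σ i) ≤ W := by
    have h1 : ∀ (a : Coh.structureModule X ⟶ CohB1.tensorPow M N) (b : Coh.structureModule X ⟶ CohB1.tensorPow M N),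
        IsAffineOpen (CohB1.genLocus _ b) → CohB1.genLocus _ b ≤ W →
          IsAffineOpen (CohB1.genLocus _ (SecTwist.tmulHom a b)) ∧
            CohB1.genLocus _ (SecTwist.tmulHom a b) ≤ W := fun a b hb hbW => by
      rw [genLocus_tmulHom hMN hMN]
      exact ⟨isAffineOpen_genLocus_inf hMN a hb, inf_le_right.trans hbW⟩
    intro i
    fin_cases i
    · exact h1 S S (hSl ▸ hs) (hSl ▸ hsW)
    · exact h1 T T (hTl ▸ ht) (hTl ▸ htW)
    · show IsAffineOpen (CohB1.genLocus _ (ite _ _ _)) ∧ CohB1.genLocus _ (ite _ _ _) ≤ W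
      split_ifs
      · rw [h0]; exact ⟨isAffineOpen_bot X, bot_le⟩
      · exact h1 S T (hTl ▸ ht) (hTl ▸ htW)
  let w := (∑ i, σ i) ≫ (powAdd M N N).inv
  have hwl : CohB1.genLocus _ w = CohB1.genLocus _ (∑ i, σ i) := genLocus_comp_iso _ (powAdd M N N).symm
  refine ⟨N + N, by omega, w, ?_, ?_, ?_⟩
  · rw [hwl]; exact isAffineOpen_genLocus_sum hinv σ fun i => (hσl i).1
  · rw [hwl]
    intro x hx
    obtain ⟨i, -, hi⟩ := exists_mem_of_mem_genLocus_sum hinv _ σ hx
    exact (hσl i).2 hi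
  intro y hy
  rw [hwl]
  obtain ⟨χ, p, hp'⟩ := exists_point (k := k) g y
  rw [← hp'] at hy ⊢
  obtain ⟨U, e, hxU, he⟩ := isInvertible_iff.1 hM (hp g χ p)
  have hU : ⊤ ≤ hp g χ ⁻¹ᵁ U := fun q _ => by rwa [show q = p from Subsingleton.elim _ _]
  obtain ⟨a, ha⟩ := exists_coord he (sv s U)
  obtain ⟨b, hb⟩ := exists_coord he (sv t U)
  let va := ev (hp g χ) hU a
  let vb := ev (hp g χ) hU b
  have hE := isGen_tmul (isGen_powSec he N) (isGen_powSec he N)
  let c : Γ(X, U) := a ^ N * a ^ N + b ^ N * b ^ N + (if (3 : Kbar k) = 0 then 0 else a ^ N * b ^ N)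
  have hc : sv (∑ i, σ i) U = c • (SecTwist.tmul _ _ U (powSec e N) (powSec e N) :
      Γ(CohB1.tensorMod (CohB1.tensorPow M N) (CohB1.tensorPow M N), U)) := by
    rw [sv_sum, Fin.sum_univ_three]
    simp only [σ, c, Matrix.cons_val_zero, Matrix.cons_val_one, Matrix.cons_val_two, Matrix.tail_cons,
      Matrix.head_cons, add_smul]
    congr 1
    · congr 1
      · exact sv_tmulHom (sv_powHom ha N) (sv_powHom ha N)
      · exact sv_tmulHom (sv_powHom hb N) (sv_powHom hb N)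
    · split_ifs
      · rw [zero_smul]; rfl
      · exact sv_tmulHom (sv_powHom ha N) (sv_powHom hb N)
  refine ((genLocus_inf_eq hE _ hc).ge ((mem_basicOpen_iff _ hU c p).2 ?_)).1
  have hcv : ev (hp g χ) hU c =
      (va ^ N) ^ 2 + (vb ^ N) ^ 2 + (if (3 : Kbar k) = 0 then 0 else va ^ N * vb ^ N) := by
    simp only [c, va, vb]
    split_ifs <;> simp [sq]
  rw [hcv]
  by_cases hva : va = 0
  · -- here `t` generates
    have hsn : hp g χ p ∉ CohB1.genLocus _ s := fun hxs =>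
      (mem_basicOpen_iff _ hU a p).1 ((genLocus_inf_eq he s ha).le ⟨hxs, hxU⟩) hva
    have hvb : vb ≠ 0 := (mem_basicOpen_iff _ hU b p).1
      ((genLocus_inf_eq he t hb).le ⟨hy.resolve_left hsn, hxU⟩)
    simp [hva, zero_pow hN.ne', pow_ne_zero _ hvb]
  · have hxs : hp g χ p ∈ CohB1.genLocus _ s :=
      ((genLocus_inf_eq he s ha).ge ((mem_basicOpen_iff _ hU a p).2 hva)).1
    have hS : ⊤ ≤ hp g χ ⁻¹ᵁ CohB1.genLocus _ s := fun q _ => by
      rwa [show q = p from Subsingleton.elim _ _]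
    have hV : ⊤ ≤ hp g χ ⁻¹ᵁ (U ⊓ CohB1.genLocus _ s) := fun q hq => ⟨hU hq, hS hq⟩
    let r := ev (hp g χ) hS φ
    have hr : vb = r * va := by
      have hbb : rf (inf_le_left : U ⊓ CohB1.genLocus _ s ≤ U) b =
          rf (inf_le_right : U ⊓ CohB1.genLocus _ s ≤ CohB1.genLocus _ s) φ *
            rf (inf_le_left : U ⊓ CohB1.genLocus _ s ≤ U) a := by
        refine ((he.res inf_le_left) _ le_rfl).1 ?_
        simp only [rs_self, mul_smul, ← rs_smul, ← ha, ← hb]
        rw [rs_sv, ← rs_sv t (inf_le_right : U ⊓ CohB1.genLocus _ s ≤ CohB1.genLocus _ s), hφ, rs_smul,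
          rs_sv, rs_sv]
      have := congrArg (ev (hp g χ) hV) hbb
      rwa [map_mul, ev_res, ev_res, ev_res] at this
    obtain ⟨h3, h3'⟩ := join_ne_zero hN (hRN r (hφR χ hS))
    rw [hr, mul_pow]
    split_ifs with hchar
    · rw [show (va ^ N) ^ 2 + (r ^ N * va ^ N) ^ 2 + 0 = (va ^ N) ^ 2 * (1 + (r ^ N) ^ 2) by ring]
      exact mul_ne_zero (pow_ne_zero _ (pow_ne_zero _ hva)) (h3' hchar)
    · rw [show (va ^ N) ^ 2 + (r ^ N * va ^ N) ^ 2 + va ^ N * (r ^ N * va ^ N) =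
        (va ^ N) ^ 2 * (1 + r ^ N + (r ^ N) ^ 2) by ring]
      exact mul_ne_zero (pow_ne_zero _ (pow_ne_zero _ hva)) (h3 hchar)

/-- An integral family of points of an open has an affine neighbourhood `X_s` inside it. -/
theorem exists_locus (k : Type u) [Field k] [Algebra k A] [Algebra.IsIntegral k A] (hL : CohB1.IsAmple L) (W : X.Opens) (hg : Set.range g.base ⊆ (W : Set X)) :
    ∃ n : ℕ, 0 < n ∧ ∃ s : Coh.structureModule X ⟶ CohB1.tensorPow L n,
      IsAffineOpen (CohB1.genLocus _ s) ∧ CohB1.genLocus _ s ≤ W ∧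
        ∀ y, g y ∈ CohB1.genLocus _ s := by
  classical
  haveI := Lib.Ample.Pullback.quasiSeparatedSpace_of_isAmple hL
  obtain ⟨hi, -, -⟩ := Lib.Ample.Pow.isAmple_iff.1 hL
  let Good (V : X.Opens) : Prop := ∃ n : ℕ, 0 < n ∧ ∃ s : Coh.structureModule X ⟶ CohB1.tensorPow L n,
    IsAffineOpen (CohB1.genLocus _ s) ∧ CohB1.genLocus _ s ≤ W ∧
      ∀ y, g y ∈ V → g y ∈ CohB1.genLocus _ s
  have hbot : Good ⊥ := by
    obtain ⟨n, hn, s, -, hsW, hsa⟩ := exists_locus_of_finite hL ∅ Set.finite_empty W (Set.empty_subset _)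
    exact ⟨n, hn, s, hsa, hsW, fun y hy => absurd hy (by simp)⟩
  have hsup : ∀ V V' : X.Opens, Good V → Good V' → Good (V ⊔ V') := by
    rintro V V' ⟨n, hn, s, hsa, hsW, hsV⟩ ⟨m, hm, t, hta, htW, htV⟩
    let S := SecTwist.powHom s m ≫ (powMul L n m).hom
    let T := SecTwist.powHom t n ≫ (powMul L m n ≪≫ powCongr L (Nat.mul_comm m n)).hom
    have hS : CohB1.genLocus _ S = CohB1.genLocus _ s := by
      rw [genLocus_comp_iso, genLocus_powHom (TensorMod.Invertible.isInvertible_tensorPow hi n) s m hm]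
    have hT : CohB1.genLocus _ T = CohB1.genLocus _ t := by
      rw [genLocus_comp_iso, genLocus_powHom (TensorMod.Invertible.isInvertible_tensorPow hi m) t n hn]
    obtain ⟨l, hl, w, hwa, hwW, hw⟩ := exists_join g k
      (TensorMod.Invertible.isInvertible_tensorPow hi (n * m)) S T W (hS ▸ hsa) (hT ▸ hta) (hS ▸ hsW)
      (hT ▸ htW)
    refine ⟨n * m * l, Nat.mul_pos (Nat.mul_pos hn hm) hl, w ≫ (powMul L (n * m) l).hom, ?_, ?_, ?_⟩
    · rwa [genLocus_comp_iso]
    · rwa [genLocus_comp_iso]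
    · intro y hy
      rw [genLocus_comp_iso]
      refine hw y ?_
      rw [hS, hT]
      exact hy.imp (hsV y) (htV y)
  have hpt : ∀ y, ∃ V : X.Opens, g y ∈ V ∧ Good V := fun y => by
    obtain ⟨n, hn, s, hys, hsW, hsa⟩ := exists_locus_subset hL (hg ⟨y, rfl⟩)
    exact ⟨_, hys, n, hn, s, hsa, hsW, fun _ h => h⟩
  choose V hV hVg using hpt
  obtain ⟨T, hT⟩ := (isCompact_univ (X := Spec (CommRingCat.of A))).elim_finite_subcover
    (fun y => (g ⁻¹ᵁ V y : Set (Spec (CommRingCat.of A))))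
    (fun y => (g ⁻¹ᵁ V y).isOpen) (fun y _ => Set.mem_iUnion.2 ⟨y, hV y⟩)
  obtain ⟨n, hn, s, hsa, hsW, hs⟩ : Good (T.sup V) :=
    Finset.sup_induction hbot (fun a ha b hb => hsup a b ha hb) fun y _ => hVg y
  refine ⟨n, hn, s, hsa, hsW, fun y => hs y ?_⟩
  obtain ⟨z, hz, hyz⟩ := Set.mem_iUnion₂.1 (hT (Set.mem_univ y))
  exact (Finset.le_sup (f := V) hz) hyz

end Join

end Groth.Agent.H69.IntegralPointsLocus
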