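import Groth.Agent.H69.IdealStage
import Groth.Agent.Lib.Lim.OpenImm
import Groth.Agent.Lib.Lim.Approx.Integral

/-!
# A finitely presented limit of closed immersions is attained at a stage, over an open
-/

set_option autoImplicit false
set_option backward.isDefEq.respectTransparency false

universe u

open CategoryTheory CategoryTheory.Limits AlgebraicGeometry TopologicalSpace
open Groth.Agent.Lib.Lim

namespace Groth.Agent.H69.IsoStage

theorem isIso_of_ker_eq_bot {X Y : Scheme.{u}} (f : X ⟶ Y) [IsClosedImmersion f]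
    (h : f.ker = ⊥) : IsIso f :=
  IsClosedImmersion.isIso_of_ker_eq f (𝟙 _) f (Category.comp_id _) (h.trans (by simp))

theorem comap_ker_self {X Y : Scheme.{u}} (f : X ⟶ Y) : f.ker.comap f ≤ ⊥ := by
  rw [← Scheme.IdealSheafData.le_map_iff_comap_le, Scheme.IdealSheafData.map]
  exact Scheme.Hom.le_ker_comp _ _

variable {I : Type u} [SmallCategory I] [IsCofiltered I] {D : I ⥤ Scheme.{u}} {c : Cone D}
  [∀ {i j : I} (g : i ⟶ j), IsClosedImmersion (D.map g)]

/-- With closed immersions as transition maps, if the limit is of finite presentation over `Y` on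
an open of a qcqs stage then a projection is an isomorphism over that open. -/
theorem exists_isIso_π (hc : IsLimit c) [∀ i, IsClosedImmersion (c.π.app i)] (i : I)
    (V : (D.obj i).Opens) [CompactSpace (D.obj i)] [QuasiSeparatedSpace (D.obj i)]
    [QuasiCompact V.ι] {Y : Scheme.{u}} (t : D.obj i ⟶ Y) [LocallyOfFiniteType t]
    (hfp : LocallyOfFinitePresentation ((c.π.app i ⁻¹ᵁ V).ι ≫ c.π.app i ≫ t)) :
    ∃ (j : I) (a : j ⟶ i), IsIso (c.π.app j ∣_ (D.map a ⁻¹ᵁ V)) := by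
  let D' := opensDiagram D i V
  let c' := opensCone D c i V
  have hcl : ∀ (j : Over i), IsClosedImmersion (c'.π.app j) := fun j => by
    have h : c.π.app j.left ⁻¹ᵁ (D.map j.hom ⁻¹ᵁ V) = c.π.app i ⁻¹ᵁ V := by
      rw [← Scheme.Hom.comp_preimage, c.w]
    have e : c'.π.app j = (c.pt.isoOfEq h).inv ≫ (c.π.app j.left ∣_ (D.map j.hom ⁻¹ᵁ V)) := by
      rw [← cancel_mono (D.map j.hom ⁻¹ᵁ V).ι]
      show (c.π.app j.left).resLE _ _ _ ≫ _ = _
      rw [Scheme.Hom.resLE_comp_ι, Category.assoc, morphismRestrict_ι,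
        Scheme.isoOfEq_inv_ι_assoc]
    rw [e]
    have : IsClosedImmersion (c.π.app j.left ∣_ (D.map j.hom ⁻¹ᵁ V)) :=
      IsZariskiLocalAtTarget.restrict (P := @IsClosedImmersion) (inferInstance : IsClosedImmersion (c.π.app j.left)) _
    infer_instance
  let o : Over i := Over.mk (𝟙 i)
  let π' := c'.π.app o
  have : IsClosedImmersion π' := hcl o
  have hlfp : LocallyOfFinitePresentation π' := by
    have e : π' ≫ ((D.map (𝟙 i) ⁻¹ᵁ V).ι ≫ t) = (c.π.app i ⁻¹ᵁ V).ι ≫ c.π.app i ≫ t := by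
      show (c.π.app i).resLE (D.map (𝟙 i) ⁻¹ᵁ V) (c.π.app i ⁻¹ᵁ V) _ ≫ _ = _
      rw [Scheme.Hom.resLE_comp_ι_assoc]
    have : LocallyOfFinitePresentation (π' ≫ ((D.map (𝟙 i) ⁻¹ᵁ V).ι ≫ t)) := e ▸ hfp
    exact Groth.Agent.Lib.Lim.OpenImm.lfp_of_comp π' ((D.map (𝟙 i) ⁻¹ᵁ V).ι ≫ t)
  have hAff : ∀ {j k : Over i} (g : j ⟶ k), IsAffineHom (D'.map g) := fun g => inferInstance
  have hV : D.map (𝟙 i) ⁻¹ᵁ V = V := by simp
  have : CompactSpace (D'.obj o) := by
    have : CompactSpace V := QuasiCompact.compactSpace_of_compactSpace V.ι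
    show CompactSpace ↥((D.map (𝟙 i) ⁻¹ᵁ V : (D.obj i).Opens) : Scheme.{u})
    rw [hV]; infer_instance
  have : QuasiSeparatedSpace (D'.obj o) := quasiSeparatedSpace_of_quasiSeparated
    (show D'.obj o ⟶ D.obj i from (D.map (𝟙 i) ⁻¹ᵁ V).ι)
  obtain ⟨j, g, hg⟩ := IdealStage.exists_comap_le_comap (isLimitOpensCone D c hc i V) π'.ker ⊥
    (Groth.Agent.Lib.Lim.Approx.Integral.isFG_ker_of_lfp π')
    ((comap_ker_self π').trans bot_le)
  refine ⟨j.left, j.hom, ?_⟩
  let b : D'.obj j ⟶ D'.obj o := D'.map g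
  have hbmono : Mono b := by
    have e : b ≫ (D.map (𝟙 i) ⁻¹ᵁ V).ι = (D.map j.hom ⁻¹ᵁ V).ι ≫ D.map g.left :=
      Scheme.Hom.resLE_comp_ι _ _
    have : Mono (b ≫ (D.map (𝟙 i) ⁻¹ᵁ V).ι) := e ▸ inferInstance
    exact mono_of_mono b (D.map (𝟙 i) ⁻¹ᵁ V).ι
  let p := c'.π.app j
  have hp : p ≫ b = π' := c'.w g
  let l : c'.pt ⟶ pullback b π' := pullback.lift p (𝟙 _) (by rw [hp, Category.id_comp])
  have hl : IsIso l := by
    have : IsSplitEpi (pullback.snd b π') := IsSplitEpi.mk' ⟨l, pullback.lift_snd _ _ _⟩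
    have : IsIso (pullback.snd b π') := isIso_of_mono_of_isSplitEpi _
    have : IsIso (l ≫ pullback.snd b π') := by rw [pullback.lift_snd]; infer_instance
    exact IsIso.of_isIso_comp_right l (pullback.snd b π')
  have hbot : (⊥ : (D'.obj o).IdealSheafData).comap b = ⊥ :=
    (Scheme.IdealSheafData.map_gc b).l_bot
  have hkp : p.ker = ⊥ := by
    rw [show p = l ≫ pullback.fst b π' from (pullback.lift_fst _ _ _).symm,
      Scheme.Hom.ker_comp_of_isIso, Scheme.IdealSheafData.ker_fst_of_isClosedImmersion]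
    exact le_bot_iff.mp (hg.trans hbot.le)
  have : IsClosedImmersion p := hcl j
  have : IsIso p := isIso_of_ker_eq_bot p hkp
  have h : c.π.app j.left ⁻¹ᵁ (D.map j.hom ⁻¹ᵁ V) = c.π.app i ⁻¹ᵁ V := by
    rw [← Scheme.Hom.comp_preimage, c.w]
  have e : c.π.app j.left ∣_ (D.map j.hom ⁻¹ᵁ V) = (c.pt.isoOfEq h).hom ≫ p := by
    rw [← cancel_mono (D.map j.hom ⁻¹ᵁ V).ι]
    show _ = ((c.pt.isoOfEq h).hom ≫ (c.π.app j.left).resLE _ _ _) ≫ _
    rw [morphismRestrict_ι, Category.assoc, Scheme.Hom.resLE_comp_ι,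
      Scheme.isoOfEq_hom_ι_assoc]
  rw [e]
  infer_instance

end Groth.Agent.H69.IsoStage
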