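import Groth.Agent.H34.Ruled.Bundle
import Groth.Agent.Lib.ExchangeFP29.CounitFibre
import Groth.Agent.Lib.SBTaut.Embed.Twist
import Groth.Agent.H56.DimBaseChange
import Groth.Agent.Lib.CurveBundle.SmoothField
import Groth.Agent.Lib.HilbD.Sec
import Groth.Agent.Lib.ProjSpace.Dim

/-!
# A family of lines with a section over an arbitrary base
-/

set_option autoImplicit false
set_option linter.style.haveILetI false
set_option maxHeartbeats 1000000
set_option backward.isDefEq.respectTransparency.types false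
universe u

open CategoryTheory CategoryTheory.Limits AlgebraicGeometry Opposite TopologicalSpace

noncomputable section

namespace Groth.Agent.H69.LineBundle

open Groth.Agent Groth.Agent.Lib Groth.Agent.Lib.TensorMod Groth.Agent.Lib.TensorMod.Gen
open Groth.Agent.H34.Ruled (isPreimmersion_residue affine_square isProjBundle_of_iso deg_fibre isIso_of_deg_one)
open Groth.Agent.Lib.ProjSpace.BaseChange ZarCoh.Exchange ZarCoh.Exchange.VeryAmpleNear

variable {X S : Scheme.{u}} (f : X ⟶ S)

/-- All geometric fibres are lines. -/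
def LineFib : Prop := ∀ (Ω : Type u) [Field Ω] [IsAlgClosed Ω] (b : Spec (CommRingCat.of Ω) ⟶ S),
      ∃ e : pullback f b ≅ CohB1.ProjSpace 1 Ω, e.hom ≫ CohB1.ProjSpace.toSpec 1 Ω = pullback.snd f b

/-- A geometric point gives a line. -/
theorem exists_sq (hfib : LineFib f) (Ω : Type u) [Field Ω] [IsAlgClosed Ω]
    (b : Spec (CommRingCat.of Ω) ⟶ S) :
    ∃ g : CohB1.ProjSpace 1 Ω ⟶ X, IsPullback g (CohB1.ProjSpace.toSpec 1 Ω) f b := by
  obtain ⟨e, he⟩ := hfib Ω b
  refine ⟨e.inv ≫ pullback.fst f b, (IsPullback.of_hasPullback f b).of_iso e (Iso.refl _) (Iso.refl _)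
    (Iso.refl _) ?_ ?_ ?_ ?_⟩ <;> simp [he]

theorem geometricallyConnected (hfib : LineFib f) : GeometricallyConnected f := by
  refine ⟨fun K _ y Z fst snd h => ?_⟩
  let Ω := AlgebraicClosure K
  let c : Spec (CommRingCat.of Ω) ⟶ Spec (CommRingCat.of K) := Spec.map (CommRingCat.ofHom (algebraMap K Ω))
  obtain ⟨g, hg⟩ := exists_sq f hfib Ω (c ≫ y)
  let r : CohB1.ProjSpace 1 Ω ⟶ Z := h.lift g (CohB1.ProjSpace.toSpec 1 Ω ≫ c)
    (by rw [Category.assoc]; exact hg.w)
  have hr : IsPullback r (CohB1.ProjSpace.toSpec 1 Ω) snd c :=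
    IsPullback.of_right (by rw [h.lift_fst]; exact hg) (h.lift_snd _ _ _) h
  haveI : Surjective c := ⟨fun _ => ⟨IsLocalRing.closedPoint Ω,
    Subsingleton.elim (α := PrimeSpectrum K) _ _⟩⟩
  haveI : Surjective r := MorphismProperty.of_isPullback hr.flip inferInstance
  haveI : IrreducibleSpace (CohB1.ProjSpace 1 Ω :) := ProjSpace.Basic.irreducibleSpace_projSpace 1 Ω
  exact r.surjective.connectedSpace r.continuous

theorem dim_fibre [LocallyOfFiniteType f] (hfib : LineFib f) (s : S) :
    topologicalKrullDim ↥(f.fiber s) = 1 := by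
  let Ω := AlgebraicClosure (S.residueField s)
  let c : Spec (CommRingCat.of Ω) ⟶ Spec (CommRingCat.of (S.residueField s)) :=
    Spec.map (CommRingCat.ofHom (algebraMap (S.residueField s) Ω))
  obtain ⟨g, hg⟩ := exists_sq f hfib Ω (c ≫ S.fromSpecResidueField s)
  have h : IsPullback (f.fiberι s) (f.fiberToSpecResidueField s) f (S.fromSpecResidueField s) :=
    IsPullback.of_hasPullback _ _
  let r : CohB1.ProjSpace 1 Ω ⟶ f.fiber s := h.lift g (CohB1.ProjSpace.toSpec 1 Ω ≫ c)
    (by rw [Category.assoc]; exact hg.w)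
  have hr : IsPullback r (CohB1.ProjSpace.toSpec 1 Ω) (f.fiberToSpecResidueField s) c :=
    IsPullback.of_right (by rw [h.lift_fst]; exact hg) (h.lift_snd _ _ _) h
  haveI : LocallyOfFiniteType (f.fiberToSpecResidueField s) :=
    MorphismProperty.pullback_snd _ _ ‹LocallyOfFiniteType f›
  rw [← H56.DimBaseChange.topologicalKrullDim_baseChange c (f.fiberToSpecResidueField s) _ r hr,
    ProjSpace.Dim.topologicalKrullDim_projSpace_of_field]
  simp

variable [IsProper f] [Smooth f]

theorem h1_zero (hfib : LineFib f) (s : S) :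
    CohIII.fiberRank f (Coh.structureModule X) 1 s = 0 := by
  let Ω := AlgebraicClosure (S.residueField s)
  let c : Spec (CommRingCat.of Ω) ⟶ Spec (CommRingCat.of (S.residueField s)) :=
    Spec.map (CommRingCat.ofHom (algebraMap (S.residueField s) Ω))
  obtain ⟨g, hg⟩ := exists_sq f hfib Ω (c ≫ S.fromSpecResidueField s)
  have hO := TensorMod.LocFree.of_rank (TensorMod.LocFree.of_isInvertible
    (PicLoc.isInvertible_structureModule X))
  haveI : (Coh.structureModule X).IsQuasicoherent :=
    TensorMod.QCohInv.isQCoh_of_isInvertible (PicLoc.isInvertible_structureModule X)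
  letI : (CohB1.ProjSpace 1 Ω).Over (Spec (CommRingCat.of Ω)) := ⟨CohB1.ProjSpace.toSpec 1 Ω⟩
  have h := ExchangeFP29.FieldPoint.finrank_HH_eq f (Coh.structureModule X)
    (TensorMod.FPConv.isFP_of_isFinLocFree hO)
    (NearFibre.isFlatOver_of_isFinLocFree f hO) (CohB1.ProjSpace.toSpec 1 Ω) (c ≫ S.fromSpecResidueField s)
    g hg 1
  haveI : Subsingleton (Coh.HH (CohB1.ProjSpace 1 Ω) (Coh.structureModule (CohB1.ProjSpace 1 Ω)) 1) :=
    ProjCoh.Twist.subsingleton_HH_structureModule 1 Ω one_ne_zero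
  rw [(Curves.LES.isoK Ω (PicLoc.pullbackStructureIso g) 1).finrank_eq,
    Module.finrank_zero_of_subsingleton, Scheme.Hom.comp_apply, Scheme.fromSpecResidueField_apply] at h
  exact h.symm

/-- The facts about the base change of a family of lines to a point. -/
theorem sq_facts (hfib : LineFib f) {K : Type u} [Field K] {F : Scheme.{u}} [F.Over (Spec (CommRingCat.of K))]
    (κ : Spec (CommRingCat.of K) ⟶ S) (g : F ⟶ X)
    (hsq : IsPullback g (F ↘ Spec (CommRingCat.of K)) f κ) :
    IsProper (F ↘ Spec (CommRingCat.of K)) ∧ IsIntegral F ∧ topologicalKrullDim F = 1 ∧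
      Module.finrank K (Coh.HH F (Coh.structureModule F) 0) = 1 ∧ Curv2.genus K F = 0 := by
  haveI := geometricallyConnected f hfib
  haveI : IsProper (F ↘ Spec (CommRingCat.of K)) :=
    MorphismProperty.of_isPullback (P := @IsProper) hsq inferInstance
  haveI : Smooth (F ↘ Spec (CommRingCat.of K)) :=
    MorphismProperty.of_isPullback (P := @Smooth) hsq inferInstance
  haveI : GeometricallyConnected (F ↘ Spec (CommRingCat.of K)) :=
    MorphismProperty.of_isPullback (P := @GeometricallyConnected) hsq inferInstance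
  haveI : Nonempty (Spec (CommRingCat.of K)) := inferInstanceAs (Nonempty (PrimeSpectrum K))
  haveI : Subsingleton (Spec (CommRingCat.of K)) := inferInstanceAs (Subsingleton (PrimeSpectrum K))
  haveI : ConnectedSpace F :=
    GeometricallyConnected.connectedSpace_of_subsingleton (F ↘ Spec (CommRingCat.of K))
  let Ω := AlgebraicClosure K
  let c : Spec (CommRingCat.of Ω) ⟶ Spec (CommRingCat.of K) := Spec.map (CommRingCat.ofHom (algebraMap K Ω))
  obtain ⟨g', hg'⟩ := exists_sq f hfib Ω (c ≫ κ)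
  let r : CohB1.ProjSpace 1 Ω ⟶ F := hsq.lift g' (CohB1.ProjSpace.toSpec 1 Ω ≫ c)
    (by rw [Category.assoc]; exact hg'.w)
  have hr : IsPullback r (CohB1.ProjSpace.toSpec 1 Ω) (F ↘ Spec (CommRingCat.of K)) c :=
    IsPullback.of_right (by rw [hsq.lift_fst]; exact hg') (hsq.lift_snd _ _ _) hsq
  have hdF : topologicalKrullDim F = 1 := by
    rw [← H56.DimBaseChange.topologicalKrullDim_baseChange c (F ↘ Spec (CommRingCat.of K)) _ r hr,
      ProjSpace.Dim.topologicalKrullDim_projSpace_of_field]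
    simp
  haveI := CurveBundle.SmoothField.isIntegral (X := F) K hdF.le
  refine ⟨inferInstance, inferInstance, hdF, CurveFF.finrank_h0_eq_one K F, ?_⟩
  have hO := TensorMod.LocFree.of_rank (TensorMod.LocFree.of_isInvertible
    (PicLoc.isInvertible_structureModule X))
  haveI : (Coh.structureModule X).IsQuasicoherent :=
    TensorMod.QCohInv.isQCoh_of_isInvertible (PicLoc.isInvertible_structureModule X)
  have h := ExchangeFP29.FieldPoint.finrank_HH_eq f (Coh.structureModule X)
    (TensorMod.FPConv.isFP_of_isFinLocFree hO)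
    (NearFibre.isFlatOver_of_isFinLocFree f hO) (F ↘ Spec (CommRingCat.of K)) κ g hsq 1
  rw [h1_zero f hfib] at h
  exact (Curves.LES.isoK K (PicLoc.pullbackStructureIso g) 1).finrank_eq.symm.trans h

omit [IsProper f] [Smooth f] in
/-- Pullbacks of globally generated modules are globally generated. -/
theorem gg_pullback {X Y : Scheme.{u}} (f : X ⟶ Y) {F : Y.Modules}
    (h : Curv2.IsGloballyGenerated F) :
    Curv2.IsGloballyGenerated ((Scheme.Modules.pullback f).obj F) := by
  obtain ⟨α, p, hp⟩ := h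
  let F' := Scheme.Modules.pullback f
  haveI : F'.IsLeftAdjoint := (Scheme.Modules.pullbackPushforwardAdjunction f).isLeftAdjoint
  haveI : PreservesColimitsOfSize.{u, u} F' :=
    (Scheme.Modules.pullbackPushforwardAdjunction f).leftAdjoint_preservesColimits
  let A : X.Modules := SheafOfModules.free α
  let B : Y.Modules := SheafOfModules.free α
  let p' : B ⟶ F := p
  let e : A ≅ F'.obj B :=
    (PreservesCoproduct.iso F' (fun _ : α => Coh.structureModule Y) ≪≫
      Sigma.mapIso fun _ => PicLoc.pullbackStructureIso f).symm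
  have hFp : Epi (F'.map p') := @Functor.map_epi _ _ _ _ F' _ _ _ p' hp
  have he : Epi e.hom := IsIso.epi_of_iso _
  exact ⟨α, e.hom ≫ F'.map p', epi_comp' he hFp⟩

/-- A module of degree one on the fibres is generated relative to the base. -/
theorem epi_counit_of_deg (hfib : LineFib f) {M : X.Modules} (hM : PicF.IsInvertible M)
    (hdeg : ∀ {K : Type u} [Field K] {F : Scheme.{u}} [F.Over (Spec (CommRingCat.of K))]
      [IsProper (F ↘ Spec (CommRingCat.of K))] [IsIntegral F]
      (κ : Spec (CommRingCat.of K) ⟶ S) (g : F ⟶ X),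
      IsPullback g (F ↘ Spec (CommRingCat.of K)) f κ → topologicalKrullDim F = 1 →
      Curv2.deg K F ((Scheme.Modules.pullback g).obj M) 1 = 1) :
    Epi ((Scheme.Modules.pullbackPushforwardAdjunction f).counit.app M) := by
  have hM' := TensorMod.LocFree.of_rank (TensorMod.LocFree.of_isInvertible hM)
  haveI : M.IsQuasicoherent := TensorMod.QCohInv.isQCoh_of_isInvertible hM
  have hFP := TensorMod.FPConv.isFP_of_isFinLocFree hM'
  have hfl := NearFibre.isFlatOver_of_isFinLocFree f hM'
  haveI : SheafOfModules.IsFinitePresentation (R := X.ringCatSheaf) M := hFP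
  haveI : SheafOfModules.IsFiniteType (R := X.ringCatSheaf) M := inferInstance
  refine ExchangeFP29.CounitFibre.epi_counit f M fun x => ?_
  let y := f x
  letI : (f.fiber y).Over (Spec (CommRingCat.of (S.residueField y))) := ⟨f.fiberToSpecResidueField y⟩
  have hsq : IsPullback (f.fiberι y) (f.fiber y ↘ Spec (CommRingCat.of (S.residueField y))) f
      (S.fromSpecResidueField y) := IsPullback.of_hasPullback f (S.fromSpecResidueField y)
  obtain ⟨hFp, hFi, hdF, h0, hgF⟩ := sq_facts (K := S.residueField y) f hfib (S.fromSpecResidueField y) (f.fiberι y) hsq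
  haveI := hFp
  haveI := hFi
  let L' := (Scheme.Modules.pullback (f.fiberι y)).obj M
  have hLy : PicF.IsInvertible L' := PicLoc.isInvertible_pullback _ hM
  have hd : Curv2.deg (S.residueField y) (f.fiber y) L' 1 = ((1 : ℕ) : ℤ) := by
    exact_mod_cast hdeg (K := S.residueField y) _ _ hsq hdF
  obtain ⟨z, hz⟩ : x ∈ Set.range (f.fiberι y) := by rw [Scheme.Hom.range_fiberι]; rfl
  refine ⟨_, _, f.fiberToSpecResidueField y, f.fiberι y, S.fromSpecResidueField y, hsq.w, z, hz, ?_, ?_⟩
  · have h1 : ∀ t, CohIII.fiberRank f M 1 ((S.fromSpecResidueField y) t) = 0 := fun t => by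
      rw [Scheme.fromSpecResidueField_apply]
      haveI : Subsingleton (CohIII.fiberH f M y 1) :=
        Curves.Clifford.subsingleton_one_of_deg (S.residueField y) hdF.le h0 hLy (by rw [hgF, hd]; norm_num)
      exact Module.finrank_zero_of_subsingleton
    haveI := ExchangeFP29.Main.isIso_bc0 f M hFP hfl (S.fromSpecResidueField y) (f.fiberι y)
      (f.fiberToSpecResidueField y) hsq h1
    infer_instance
  · obtain ⟨v, hv, hvK, ⟨ψ⟩⟩ := Groth.Agent.S1636.result (S.residueField y) (f.fiber y) hdF h0 hgF _ hLy 1 one_pos hd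
    have hgg : Curv2.IsGloballyGenerated (Twist.twistProjSpace 1 (S.residueField y) 1) :=
      SBTaut.Embed.gg_tw (N := 1) (K := S.residueField y) (d := 1)
    obtain ⟨α, p, hp⟩ := gg_pullback v hgg
    haveI := hp
    exact ⟨α, p ≫ ψ.hom, epi_comp _ _⟩

set_option maxHeartbeats 4000000 in
/-- A family of lines with a module of degree one on the fibres is a projective bundle. -/
theorem exists_isProjBundle_of_deg {M : X.Modules} (hfib : LineFib f) (hM : PicF.IsInvertible M)
    (hdeg : ∀ {K : Type u} [Field K] {F : Scheme.{u}} [F.Over (Spec (CommRingCat.of K))]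
      [IsProper (F ↘ Spec (CommRingCat.of K))] [IsIntegral F]
      (κ : Spec (CommRingCat.of K) ⟶ S) (g : F ⟶ X),
      IsPullback g (F ↘ Spec (CommRingCat.of K)) f κ → topologicalKrullDim F = 1 →
      Curv2.deg K F ((Scheme.Modules.pullback g).obj M) 1 = 1) :
    ∃ (E : S.Modules) (q : (Scheme.Modules.pullback f).obj E ⟶ M),
      FlatMod.IsFinLocFreeOfRank 2 E ∧ KRR.IsProjBundle f E M q := by
  let E := (Scheme.Modules.pushforward f).obj M
  let q : (Scheme.Modules.pullback f).obj E ⟶ M :=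
    (Scheme.Modules.pullbackPushforwardAdjunction f).counit.app M
  haveI hq : Epi q := epi_counit_of_deg f hfib hM hdeg
  -- the direct image
  have hrk : ∀ y : S, CohIII.fiberRank f M 1 y = 0 ∧ CohIII.fiberRank f M 0 y = 2 := fun y => by
    letI : (f.fiber y).Over (Spec (CommRingCat.of (S.residueField y))) := ⟨f.fiberToSpecResidueField y⟩
    have hsq : IsPullback (f.fiberι y) (f.fiber y ↘ Spec (CommRingCat.of (S.residueField y))) f
        (S.fromSpecResidueField y) := IsPullback.of_hasPullback f (S.fromSpecResidueField y)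
    obtain ⟨hFp, hFi, hdF, h0, hgF⟩ := sq_facts (K := S.residueField y) f hfib (S.fromSpecResidueField y) (f.fiberι y) hsq
    haveI := hFp
    haveI := hFi
    have hd := hdeg (K := S.residueField y) _ _ hsq hdF
    have hinv := PicLoc.isInvertible_pullback (f.fiberι y) hM
    have hbig : 2 * (Curv2.genus (S.residueField y) (f.fiber y) : ℤ) - 2 <
        Curv2.deg (S.residueField y) (f.fiber y) ((Scheme.Modules.pullback (f.fiberι y)).obj M) 1 := by
      rw [hgF, hd]; norm_num
    haveI := Curves.Clifford.subsingleton_one_of_deg (S.residueField y) hdF.le h0 hinv hbig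
    have hz := Curves.Clifford.hdim_zero_eq_of_deg (S.residueField y) hdF.le h0 hinv hbig
    rw [hgF, hd] at hz
    refine ⟨?_, ?_⟩
    · change Curves.Euler.hdim (S.residueField y) (f.fiber y) ((Scheme.Modules.pullback (f.fiberι y)).obj M) 1 = 0
      exact Module.finrank_zero_of_subsingleton
    · change Curves.Euler.hdim (S.residueField y) (f.fiber y) ((Scheme.Modules.pullback (f.fiberι y)).obj M) 0 = 2
      omega
  have hE : FlatMod.IsFinLocFreeOfRank (1 + 1) E := by
    have hF' := TensorMod.LocFree.of_rank (TensorMod.LocFree.of_isInvertible hM)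
    have hF : CohB1.IsFP M := TensorMod.FPConv.isFP_of_isFinLocFree hF'
    haveI : M.IsQuasicoherent :=
      have : SheafOfModules.IsFinitePresentation (R := X.ringCatSheaf) M := hF
      inferInstance
    have hfl : FlatMod.IsFlatOver f M := NearFibre.isFlatOver_of_isFinLocFree f hF'
    intro y
    obtain ⟨V, hV, hyV, -⟩ := exists_isAffineOpen_mem_and_subset (U := ⊤) (x := y) trivial
    haveI : IsAffine (V : Scheme.{u}) := hV
    obtain ⟨P, hP, he, -, hz⟩ := ExchangeFP29.Main.exists_of_vanish f M hF hfl V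
    obtain ⟨e⟩ := he 0
    have hq : Module.Flat (_root_.ZarCoh.Exchange.Local.AV V) (FlatCx.Basic.Q P (-((0 : ℕ) : ℤ) - 1)) := by
      have h := (hz 1 fun z _ => (hrk z).1).2.1
      simpa using h
    obtain ⟨W, hW, ⟨i⟩⟩ := ExchangeFP29.Main.exists_free_nhd f M 0 hP e
      (hP.flat_Q_nonneg _ (by simp)) hq hyV
    obtain ⟨w⟩ := ExchangeFP29.Main.nonempty_zeroIso f M
    rw [(hrk y).2] at i
    exact ⟨W, hW, ⟨(Scheme.Modules.restrictFunctor W.ι).mapIso w.symm ≪≫ i⟩⟩
  refine ⟨E, q, hE, ?_⟩
  have hqE : Coh.IsQCoh E := by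
    exact TensorMod.QCohInv.isQCoh_of_isFinLocFree (TensorMod.LocFree.of_rank hE)
  obtain ⟨P, p, O1, q', hP, -⟩ := Cyc.CH.BdlExists.exists_isProjBundle (E := E) hqE
  haveI : IsProper p := Cyc.CH.BdlUniq.isProper hP hE
  obtain ⟨h, ⟨hg, e, he⟩, -⟩ := hP.univ X f M (TensorMod.LocFree.of_isInvertible hM) q hq
  suffices IsIso h from isProjBundle_of_iso hP hq (TensorMod.LocFree.of_isInvertible hM) hg e he
  have hcov : ∀ y : S, ∃ (U : S.Opens), y ∈ U ∧ IsIso (h ∣_ (p ⁻¹ᵁ U)) := by
    intro y
    obtain ⟨V, hyV, ⟨i₀⟩⟩ := hE y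
    obtain ⟨e₀, he₀⟩ := TensorMod.Basis.exists_basis_of_iso i₀
    obtain ⟨U, hU, hyU, hUV⟩ := exists_isAffineOpen_mem_and_subset (X := S) (x := y) (U := V) hyV
    refine ⟨U, hyU, ?_⟩
    obtain ⟨j, hj, hjr, hjp, ⟨ih⟩⟩ := H34.Ruled.Chart.exists_chart' hP hU _ (he₀.res hUV)
    haveI := hj
    let O := h ⁻¹ᵁ (p ⁻¹ᵁ U)
    obtain ⟨f', hO⟩ := affine_square f hU O (by rw [← hg]; rfl)
    let A := Γ(S, U)
    haveI : IsProper f' := MorphismProperty.of_isPullback hO ‹IsProper f›
    haveI : Smooth f' := MorphismProperty.of_isPullback hO ‹Smooth f›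
    let r : (O : Scheme.{u}) ⟶ CohB1.ProjSpace 1 A := IsOpenImmersion.lift j (O.ι ≫ h) (by
      rw [hjr]
      rintro _ ⟨w, rfl⟩
      exact w.2)
    have hr : r ≫ j = O.ι ≫ h := IsOpenImmersion.lift_fac _ _ _
    have hrS : r ≫ CohB1.ProjSpace.toSpec 1 A = f' := by
      rw [← cancel_mono hU.fromSpec, Category.assoc, ← hjp, ← Category.assoc, hr, Category.assoc, hg]
      exact hO.w
    let τ : (Scheme.Modules.pullback r).obj (Twist.twistProjSpace 1 A 1) ≅
        (Scheme.Modules.pullback O.ι).obj M :=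
      (Scheme.Modules.pullback r).mapIso ih.symm ≪≫ (Scheme.Modules.pullbackComp r j).app O1 ≪≫
        (Scheme.Modules.pullbackCongr hr).app O1 ≪≫ ((Scheme.Modules.pullbackComp O.ι h).app O1).symm ≪≫
        (Scheme.Modules.pullback O.ι).mapIso e
    haveI := ProjSpace.Basic.isProper_toSpec 1 A
    haveI : LocallyOfFinitePresentation (CohB1.ProjSpace.toSpec 1 A) :=
      inferInstance
    obtain ⟨V', hV', hiso⟩ := Groth.Agent.S10888.result f' (CohB1.ProjSpace.toSpec 1 A) r hrS
    have hV'top : V' = ⊤ := top_unique fun x _ => by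
      let x' : PrimeSpectrum A := x
      let K := x'.asIdeal.ResidueField
      let κ : Spec (CommRingCat.of K) ⟶ Spec A := Spec.map (CommRingCat.ofHom (algebraMap A K))
      let F := f'.fiber x
      letI : F.Over (Spec (CommRingCat.of K)) :=
        ⟨f'.fiberToSpecResidueField x ≫ Spec.map (Scheme.Spec.residueFieldIso A x').inv⟩
      let p₀ := F ↘ Spec (CommRingCat.of K)
      let g := f'.fiberι x
      have hsq : IsPullback g p₀ f' κ := Fibre.isPullback_fiber f' x'
      haveI : IsPreimmersion κ := isPreimmersion_residue A x'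
      have hsq' : IsPullback (g ≫ O.ι) p₀ f (κ ≫ hU.fromSpec) := hsq.paste_horiz hO
      obtain ⟨hFp, hFi, hdF, h0, hgF⟩ := sq_facts f hfib (κ ≫ hU.fromSpec) (g ≫ O.ι) hsq'
      haveI := hFp
      haveI := hFi
      let c := projMap 1 (algebraMap A K)
      have hc : IsPullback c (CohB1.ProjSpace.toSpec 1 K) (CohB1.ProjSpace.toSpec 1 A) κ :=
        isPullback_projMap 1 (algebraMap A K)
      let i : F ⟶ CohB1.ProjSpace 1 K := hc.lift (g ≫ r) p₀ (by rw [Category.assoc, hrS]; exact hsq.w)
      have hi : i ≫ c = g ≫ r := hc.lift_fst _ _ _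
      have hd : Curv2.deg K F ((Scheme.Modules.pullback i).obj (Twist.twistProjSpace 1 K 1)) 1 = 1 := by
        obtain ⟨σ⟩ : Nonempty ((Scheme.Modules.pullback c).obj (Twist.twistProjSpace 1 A 1) ≅
            Twist.twistProjSpace 1 K 1) :=
          Groth.Agent.Lib.ProperFin.ProjFacts.nonempty_pullback_O 1 A K (algebraMap A K) 1
        rw [Curves.Euler.deg_eq_of_iso ((Scheme.Modules.pullback i).mapIso σ.symm ≪≫
          (Scheme.Modules.pullbackComp i c).app _ ≪≫ (Scheme.Modules.pullbackCongr hi).app _ ≪≫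
          ((Scheme.Modules.pullbackComp g r).app _).symm ≪≫ (Scheme.Modules.pullback g).mapIso τ ≪≫
          (Scheme.Modules.pullbackComp g O.ι).app M) 1]
        exact hdeg _ _ hsq' hdF
      haveI := isIso_of_deg_one hdF h0 hgF i (hc.lift_snd _ _ _) hd
      obtain ⟨ε, hε⟩ := H34.GenusZero.exists_fiber_iso f' (CohB1.ProjSpace.toSpec 1 A) r κ
        (IsLocalRing.closedPoint K) g p₀ hsq c _ hc i hi
      have hx : κ (IsLocalRing.closedPoint K) = x := PrimeSpectrum.ext (by
        show (IsLocalRing.maximalIdeal K).comap (algebraMap A K) = x'.asIdeal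
        rw [IsLocalRing.maximalIdeal_eq_bot]
        exact (RingHom.ker_eq_comap_bot _).symm.trans (Ideal.ker_algebraMap_residueField _))
      exact hx ▸ (hV' _).2 ⟨ε, hε⟩
    subst hV'top
    haveI : IsIso r := by
      haveI := hiso
      haveI : IsIso (CohB1.ProjSpace.toSpec 1 A ⁻¹ᵁ (⊤ : (Spec A).Opens)).ι :=
        (CohB1.ProjSpace 1 A).topIso.isIso_hom
      haveI : IsIso (r ⁻¹ᵁ (CohB1.ProjSpace.toSpec 1 A ⁻¹ᵁ (⊤ : (Spec A).Opens))).ι :=
        (O : Scheme.{u}).topIso.isIso_hom
      haveI : IsIso ((r ⁻¹ᵁ (CohB1.ProjSpace.toSpec 1 A ⁻¹ᵁ (⊤ : (Spec A).Opens))).ι ≫ r) := by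
        rw [← morphismRestrict_ι]
        infer_instance
      exact IsIso.of_isIso_comp_left (r ⁻¹ᵁ (CohB1.ProjSpace.toSpec 1 A ⁻¹ᵁ (⊤ : (Spec A).Opens))).ι r
    let j₀ := IsOpenImmersion.isoOfRangeEq j (p ⁻¹ᵁ U).ι (hjr.trans (p ⁻¹ᵁ U).range_ι.symm)
    have hj₀ : h ∣_ (p ⁻¹ᵁ U) = r ≫ j₀.hom := by
      rw [← cancel_mono (p ⁻¹ᵁ U).ι, morphismRestrict_ι, Category.assoc,
        IsOpenImmersion.isoOfRangeEq_hom_fac, hr]
    rw [hj₀]
    infer_instance
  choose U hyU hU using hcov
  exact (IsZariskiLocalAtTarget.iff_of_iSup_eq_top (P := MorphismProperty.isomorphisms Scheme.{u})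
    (fun y => p ⁻¹ᵁ U y) (top_unique fun w _ => Opens.mem_iSup.2 ⟨p w, hyU _⟩)).2 hU

/-- A family of lines with a section is the projective bundle of a module of rank two. -/
theorem exists_isProjBundle_of_section [SmoothOfRelativeDimension 1 f] (hfib : LineFib f) (σ : S ⟶ X)
    (hσ : σ ≫ f = 𝟙 S) :
    ∃ (E : S.Modules) (L : X.Modules) (q : (Scheme.Modules.pullback f).obj E ⟶ L),
      FlatMod.IsFinLocFreeOfRank 2 E ∧ KRR.IsProjBundle f E L q := by
  haveI := geometricallyConnected f hfib
  haveI := H34.DegOneSection.isClosedImmersion_section f σ hσ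
  have hJ : BlowUp.IsEffCartierIdeal σ.ker := by
    refine RelDiv.Cartier.isEffCartier_of_isFinLocFree f _ ?_
    have h1 : σ.toImage ≫ σ.ker.subschemeι ≫ f = 𝟙 _ := by
      rw [← Category.assoc]
      exact (congrArg (· ≫ f) σ.toImage_imageι).trans hσ
    haveI : IsIso (σ.toImage ≫ σ.ker.subschemeι ≫ f) := by rw [h1]; infer_instance
    haveI : IsIso (σ.ker.subschemeι ≫ f) := IsIso.of_isIso_comp_left σ.toImage _
    exact (HilbD.Sec.finLocFreeOfDeg_one_of_isIso (σ.ker.subschemeι ≫ f)).1
  obtain ⟨E, q, h1, h2⟩ := exists_isProjBundle_of_deg f hfib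
    (TensorMod.Invertible.isInvertible_dual (Lib.ClSub.Cartier.isInvertible_idealMod hJ))
    (fun κ g hsq hdF => deg_fibre f σ hσ hJ κ g hsq hdF)
  exact ⟨E, _, q, h1, h2⟩

end Groth.Agent.H69.LineBundle
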