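import Groth.Agent.H69.ImageLimit
import Groth.Agent.Lib.Lim.Basic
import Groth.Agent.Lib.ModPair.Category

/-!
# The system of ambient products of an admissible blow-up along a system of modulus pairs
-/

set_option autoImplicit false
set_option backward.isDefEq.respectTransparency false
set_option linter.unusedVariables false

universe u

open CategoryTheory CategoryTheory.Limits AlgebraicGeometry TopologicalSpace
open _root_.ModPair (Pair)

namespace Groth.Agent.H69.MProdSystem

/-- Images of opens corresponding under an isomorphism are isomorphic. -/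
theorem exists_iso_image {A B : Scheme.{u}} (σ : A ≅ B) (U : A.Opens) (U' : B.Opens)
    [QuasiCompact U.ι] [QuasiCompact U'.ι] (h : σ.hom ⁻¹ᵁ U' = U) :
    ∃ θ : U.ι.image ≅ U'.ι.image, θ.hom ≫ U'.ι.imageι = U.ι.imageι ≫ σ.hom := by
  subst h
  have hker : (σ.hom ⁻¹ᵁ U').ι.imageι ≫ σ.hom = (σ.hom ⁻¹ᵁ U').ι.imageι ≫ σ.hom := rfl
  have e : ((σ.hom ⁻¹ᵁ U').ι.imageι ≫ σ.hom).ker = U'.ι.imageι.ker := by
    rw [Scheme.Hom.ker_comp, ImageLimit.ker_imageι, ← Scheme.Hom.ker_comp, ← morphismRestrict_ι,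
      Scheme.Hom.ker_comp_of_isIso, ImageLimit.ker_imageι]
  let l := IsClosedImmersion.lift U'.ι.imageι ((σ.hom ⁻¹ᵁ U').ι.imageι ≫ σ.hom) e.ge
  have hl : l ≫ U'.ι.imageι = (σ.hom ⁻¹ᵁ U').ι.imageι ≫ σ.hom := IsClosedImmersion.lift_fac _ _ _
  have : IsIso l := IsClosedImmersion.isIso_of_ker_eq _ _ l hl e
  exact ⟨asIso l, hl⟩

variable {I : Type u} [SmallCategory I] (F : I ⥤ Pair.{u}) (i : I) {V : Pair.{u}} (s : V ⟶ F.obj i)

/-- The underlying schemes of a system of modulus pairs. -/
abbrev tot : I ⥤ Scheme.{u} := F ⋙ Pair.forget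

/-- The pull-backs of the blown-up scheme. -/
noncomputable abbrev bc : Over i ⥤ Scheme.{u} :=
  Groth.Agent.Lib.Lim.Basic.bcDiagram (tot F) (i₀ := i) s.hom

/-- Their projections to the blown-up scheme. -/
noncomputable abbrev bcFst : bc F i s ⟶ (Functor.const (Over i)).obj V.total :=
  Groth.Agent.Lib.Lim.Basic.bcFst (tot F) (i₀ := i) s.hom

instance quasiCompact_interior : QuasiCompact (_root_.ModPair.interior V.mod).ι :=
  Lib.ModPair.quasiCompact_interior (Lib.ModPair.isLP_of_effCartier V.isEffCartier)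

/-- The total spaces of the ambient products. -/
noncomputable def diagram : Over i ⥤ Scheme.{u} :=
  ImageLimit.diagram (bcFst F i s) (_root_.ModPair.interior V.mod)

/-- Their inclusions into the fibre products. -/
noncomputable def incl : diagram F i s ⟶ bc F i s :=
  ImageLimit.incl (bcFst F i s) (_root_.ModPair.interior V.mod)

/-- The projection of the ambient product to the system. -/
noncomputable def proj (j : Over i) : (diagram F i s).obj j ⟶ (F.obj j.left).total :=
  (incl F i s).app j ≫ pullback.snd s.hom (F.map j.hom).hom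

/-- The projection of the ambient product to the blown-up scheme. -/
noncomputable def projV (j : Over i) : (diagram F i s).obj j ⟶ V.total :=
  (incl F i s).app j ≫ pullback.fst s.hom (F.map j.hom).hom

theorem map_proj {j k : Over i} (f : j ⟶ k) :
    (diagram F i s).map f ≫ proj F i s k = proj F i s j ≫ (F.map f.left).hom := by
  rw [proj, proj, ← Category.assoc, (incl F i s).naturality f, Category.assoc, Category.assoc]
  congr 1
  exact Groth.Agent.Lib.Lim.Basic.bcDiagram_map_snd (tot F) s.hom f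

theorem map_projV {j k : Over i} (f : j ⟶ k) :
    (diagram F i s).map f ≫ projV F i s k = projV F i s j := by
  rw [projV, projV, ← Category.assoc, (incl F i s).naturality f, Category.assoc]
  congr 1
  exact Groth.Agent.Lib.Lim.Basic.bcDiagram_map_fst (tot F) s.hom f

theorem proj_w (j : Over i) :
    projV F i s j ≫ s.hom = proj F i s j ≫ (F.map j.hom).hom := by
  rw [proj, projV, Category.assoc, Category.assoc, pullback.condition]

variable {F i s}

theorem prodInterior_eq (hs : Pair.admBlowup s) {T : Pair.{u}} (g : T ⟶ F.obj i)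
    (hg : _root_.ModPair.IsMinimal T.mod (F.obj i).mod g.hom) :
    _root_.ModPair.prodInterior s.hom g.hom V.mod T.mod =
      pullback.fst s.hom g.hom ⁻¹ᵁ _root_.ModPair.interior V.mod := by
  refine le_antisymm inf_le_left (le_inf le_rfl fun x hx => ?_)
  rw [Lib.ModPair.interior_of_isMinimal hg]
  show (pullback.snd s.hom g.hom ≫ g.hom) x ∈ _root_.ModPair.interior (F.obj i).mod
  rw [← pullback.condition]
  have h : pullback.fst s.hom g.hom x ∈ s.hom ⁻¹ᵁ _root_.ModPair.interior (F.obj i).mod := by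
    rw [← Lib.ModPair.interior_of_isMinimal hs.1]; exact hx
  exact h

theorem mprod_facts (hs : Pair.admBlowup s) {T : Pair.{u}} (g : T ⟶ F.obj i)
    (hg : _root_.ModPair.IsMinimal T.mod (F.obj i).mod g.hom) :
    BlowUp.IsEffCartierIdeal (T.mod.comap
        ((pullback.fst s.hom g.hom ⁻¹ᵁ _root_.ModPair.interior V.mod).ι.imageι ≫
          pullback.snd s.hom g.hom)) ∧
      _root_.ModPair.IsAdmBlowup (T.mod.comap
        ((pullback.fst s.hom g.hom ⁻¹ᵁ _root_.ModPair.interior V.mod).ι.imageι ≫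
          pullback.snd s.hom g.hom)) T.mod
        ((pullback.fst s.hom g.hom ⁻¹ᵁ _root_.ModPair.interior V.mod).ι.imageι ≫
          pullback.snd s.hom g.hom) ∧
      _root_.ModPair.IsAmbient (T.mod.comap
        ((pullback.fst s.hom g.hom ⁻¹ᵁ _root_.ModPair.interior V.mod).ι.imageι ≫
          pullback.snd s.hom g.hom)) V.mod
        ((pullback.fst s.hom g.hom ⁻¹ᵁ _root_.ModPair.interior V.mod).ι.imageι ≫
          pullback.fst s.hom g.hom) := by
  have h := Lib.ModPair.isAdmBlowup_mprod (IX := V.mod) (F.obj i).isEffCartier T.isEffCartier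
    g.hom g.cond s.hom hs
  unfold _root_.ModPair.mprodι _root_.ModPair.mprod at h
  rw [prodInterior_eq hs g hg] at h
  exact h

variable (hs : Pair.admBlowup s)
  (hmin : ∀ (j k : I) (t : j ⟶ k),
    _root_.ModPair.IsMinimal (F.obj j).mod (F.obj k).mod (F.map t).hom)

include hs hmin in
theorem facts (j : Over i) :
    BlowUp.IsEffCartierIdeal ((F.obj j.left).mod.comap (proj F i s j)) ∧
      _root_.ModPair.IsAdmBlowup ((F.obj j.left).mod.comap (proj F i s j)) (F.obj j.left).mod
        (proj F i s j) ∧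
      _root_.ModPair.IsAmbient ((F.obj j.left).mod.comap (proj F i s j)) V.mod (projV F i s j) :=
  mprod_facts hs (F.map j.hom) (hmin _ _ j.hom)

include hmin in
theorem mod_map {j k : Over i} (f : j ⟶ k) :
    (F.obj j.left).mod.comap (proj F i s j) =
      ((F.obj k.left).mod.comap (proj F i s k)).comap ((diagram F i s).map f) := by
  rw [← Scheme.IdealSheafData.comap_comp, map_proj, Scheme.IdealSheafData.comap_comp,
    ← hmin _ _ f.left]

/-- The ambient product at a stage, as a pair. -/
noncomputable def pair (j : Over i) : Pair.{u} := ⟨_, _, (facts hs hmin j).1⟩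

/-- Its admissible blow-up to the system. -/
noncomputable def pairProj (j : Over i) : pair hs hmin j ⟶ F.obj j.left :=
  ⟨proj F i s j, le_rfl⟩

theorem admBlowup_pairProj (j : Over i) : Pair.admBlowup (pairProj hs hmin j) :=
  (facts hs hmin j).2.1

/-- Its morphism to the blown-up pair. -/
noncomputable def pairProjV (j : Over i) : pair hs hmin j ⟶ V :=
  ⟨projV F i s j, (facts hs hmin j).2.2⟩

theorem pairProjV_w (j : Over i) :
    pairProjV hs hmin j ≫ s = pairProj hs hmin j ≫ F.map j.hom :=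
  Pair.Hom.ext (proj_w F i s j)

instance isAffineHom_map [∀ {j k : I} (t : j ⟶ k), IsAffineHom ((tot F).map t)] {j k : Over i}
    (f : j ⟶ k) : IsAffineHom ((diagram F i s).map f) :=
  ImageLimit.isAffineHom_map (bcFst F i s) (_root_.ModPair.interior V.mod) f

include hs hmin in
theorem compactSpace_obj [∀ j, CompactSpace (F.obj j).total] (j : Over i) :
    CompactSpace ((diagram F i s).obj j) :=
  have : IsProper (proj F i s j) := (facts hs hmin j).2.1.2.1
  QuasiCompact.compactSpace_of_compactSpace (proj F i s j)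

include hs hmin in
theorem quasiSeparatedSpace_obj [∀ j, QuasiSeparatedSpace (F.obj j).total] (j : Over i) :
    QuasiSeparatedSpace ((diagram F i s).obj j) :=
  have : IsProper (proj F i s j) := (facts hs hmin j).2.1.2.1
  quasiSeparatedSpace_of_quasiSeparated (proj F i s j)

include hs hmin in
theorem dominant_map [∀ {j k : I} (t : j ⟶ k), IsAffineHom ((tot F).map t)]
    (hdom : ∀ (j k : I) (t : j ⟶ k), IsSchemeTheoreticallyDominant (F.map t).hom)
    {j k : Over i} (f : j ⟶ k) : IsSchemeTheoreticallyDominant ((diagram F i s).map f) := by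
  let m := (diagram F i s).map f
  let Ft : (F.obj j.left).total ⟶ (F.obj k.left).total := (F.map f.left).hom
  let U := _root_.ModPair.interior (F.obj k.left).mod
  let pj := proj F i s j
  let pk := proj F i s k
  obtain ⟨hej, ⟨-, -, hisoj⟩, -⟩ := facts hs hmin j
  obtain ⟨hek, ⟨-, -, hisok⟩, -⟩ := facts hs hmin k
  have hU : _root_.ModPair.interior (F.obj j.left).mod = Ft ⁻¹ᵁ U :=
    Lib.ModPair.interior_of_isMinimal (hmin _ _ f.left)
  have : IsIso (pk ∣_ U) := hisok
  have : IsIso (pj ∣_ (Ft ⁻¹ᵁ U)) := hU ▸ hisoj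
  have : IsAffineHom Ft := inferInstanceAs (IsAffineHom ((tot F).map f.left))
  have : IsSchemeTheoreticallyDominant (Ft ∣_ U) :=
    have := hdom _ _ f.left
    IsSchemeTheoreticallyDominant.of_isPullback (isPullback_morphismRestrict Ft U).flip
  have e : m ⁻¹ᵁ (pk ⁻¹ᵁ U) = pj ⁻¹ᵁ (Ft ⁻¹ᵁ U) := by
    rw [← Scheme.Hom.comp_preimage, ← Scheme.Hom.comp_preimage, map_proj]
  have hm : (((diagram F i s).obj j).isoOfEq e.symm).hom ≫ (m ∣_ (pk ⁻¹ᵁ U)) =
      (pj ∣_ (Ft ⁻¹ᵁ U)) ≫ (Ft ∣_ U) ≫ inv (pk ∣_ U) := by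
    rw [← Category.assoc (pj ∣_ (Ft ⁻¹ᵁ U)), IsIso.eq_comp_inv, ← cancel_mono U.ι]
    simp only [Category.assoc, morphismRestrict_ι, morphismRestrict_ι_assoc,
      Scheme.isoOfEq_hom_ι_assoc]
    rw [map_proj]
  have hd : IsSchemeTheoreticallyDominant (pj ⁻¹ᵁ (Ft ⁻¹ᵁ U)).ι := by
    have := Lib.ModPair.std_interior hej
    rw [Lib.ModPair.interior_comap, hU] at this
    exact this
  have hd' : IsSchemeTheoreticallyDominant (pk ⁻¹ᵁ U).ι := by
    have := Lib.ModPair.std_interior hek
    rwa [Lib.ModPair.interior_comap] at this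
  refine ⟨le_bot_iff.mp ?_⟩
  have h1 : ((pj ⁻¹ᵁ (Ft ⁻¹ᵁ U)).ι ≫ m).ker = ⊥ := by
    have : (pj ⁻¹ᵁ (Ft ⁻¹ᵁ U)).ι ≫ m =
        ((pj ∣_ (Ft ⁻¹ᵁ U)) ≫ (Ft ∣_ U) ≫ inv (pk ∣_ U)) ≫ (pk ⁻¹ᵁ U).ι := by
      rw [← hm, Category.assoc, morphismRestrict_ι, Scheme.isoOfEq_hom_ι_assoc]
    rw [this]
    exact Scheme.Hom.ker_eq_bot _
  rw [← h1]
  exact Scheme.Hom.le_ker_comp _ _

end Groth.Agent.H69.MProdSystem
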