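import Groth.Agent.H69.MonoVal
import Groth.Agent.Lib.Spectral.Noetherian
import Groth.Agent.H75.RedSub
import Mathlib.AlgebraicGeometry.Morphisms.Immersion

/-!
# Generic lifting forces quasi-compactness; immersions have both lifting properties
-/

set_option autoImplicit false
set_option linter.unusedVariables false
set_option linter.style.haveILetI false
set_option backward.isDefEq.respectTransparency false
universe u
open CategoryTheory Limits AlgebraicGeometry IsLocalRing Groth.Agent.Lib Topology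

namespace Groth.Agent.H69.MonoQc

variable {X Y : Scheme.{u}}

theorem quasiCompact_of_dense [IsLocallyNoetherian X] (f : Y ⟶ X) [Mono f]
    (hc : ∀ (A : Type u) [CommRing A] [IsDomain A] (s : Spec (CommRingCat.of A) ⟶ X)
      (D : Set ↥(Spec (CommRingCat.of A))), Dense D →
        (∀ p ∈ D, ∃ l : Spec ((Spec (CommRingCat.of A)).residueField p) ⟶ Y,
            l ≫ f = (Spec (CommRingCat.of A)).fromSpecResidueField p ≫ s) →
          ∃ U : (Spec (CommRingCat.of A)).Opens, (U : Set ↥(Spec (CommRingCat.of A))).Nonempty ∧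
            ∃ l : (U : Scheme.{u}) ⟶ Y, l ≫ f = U.ι ≫ s) : QuasiCompact f := by
  rw [quasiCompact_iff_forall_isAffineOpen]
  intro U hU
  haveI : IsAffine (U : Scheme.{u}) := hU
  haveI : IsNoetherian (U : Scheme.{u}) := ⟨⟩
  let E : Set (U : Scheme.{u}) := U.ι ⁻¹' Set.range f
  let P : Set (U : Scheme.{u}) → Prop := fun Z =>
    ∃ K : Set Y, IsCompact K ∧ K ⊆ f ⁻¹' U ∧ ∀ y : Y, f y ∈ U.ι '' Z → y ∈ K
  suffices hP : P Set.univ by
    obtain ⟨K, hK, hKU, hK'⟩ := hP
    convert hK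
    refine Set.Subset.antisymm (fun y hy => hK' y ?_) hKU
    exact ⟨⟨f y, hy⟩, trivial, rfl⟩
  refine Spectral.Noetherian.closed_induction (P := P)
    ⟨∅, isCompact_empty, Set.empty_subset _, fun y ⟨_, h, _⟩ => h.elim⟩
    (fun Z Z' _ _ ⟨K, hK, hKU, h1⟩ ⟨K', hK', hKU', h2⟩ =>
      ⟨K ∪ K', hK.union hK', Set.union_subset hKU hKU', fun y hy => by
        rw [Set.image_union] at hy
        exact hy.imp (h1 y) (h2 y)⟩)
    (fun Z hZ hZi ih => ?_) isClosed_univ
  by_cases hd : Z ⊆ closure (E ∩ Z)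
  swap
  · obtain ⟨K, hK, hKU, hK'⟩ := ih (closure (E ∩ Z)) isClosed_closure
      ⟨closure_minimal Set.inter_subset_right hZ, hd⟩
    refine ⟨K, hK, hKU, fun y ⟨z, hz, e⟩ => hK' y ⟨z, subset_closure ⟨⟨y, e.symm⟩, hz⟩, e⟩⟩
  let C : TopologicalSpace.Closeds (U : Scheme.{u}) := ⟨Z, hZ⟩
  let Q : Scheme.{u} := (Scheme.IdealSheafData.vanishingIdeal (X := (U : Scheme.{u})) C).subscheme
  let i : Q ⟶ U := (Scheme.IdealSheafData.vanishingIdeal (X := (U : Scheme.{u})) C).subschemeι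
  have hi : Set.range i = Z := by
    rw [Scheme.IdealSheafData.range_subschemeι, Scheme.IdealSheafData.coe_support_vanishingIdeal]
    rfl
  haveI : IsAffine Q := isAffine_of_isAffineHom i
  haveI : IsReduced Q := H75.RedSub.isReduced_vanishingIdeal (X := (U : Scheme.{u})) C
  haveI : IrreducibleSpace Q := by
    obtain ⟨z, hz⟩ := hZi.1
    obtain ⟨q, -⟩ := hi.ge hz
    haveI : PreirreducibleSpace Q := ⟨fun u v hu hv ⟨a, _, ha⟩ ⟨b, _, hb⟩ => by
      obtain ⟨u', hu', rfl⟩ := i.isEmbedding.isInducing.isOpen_iff.1 hu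
      obtain ⟨v', hv', rfl⟩ := i.isEmbedding.isInducing.isOpen_iff.1 hv
      obtain ⟨c, hcZ, hcu, hcv⟩ :=
        hZi.2 u' v' hu' hv' ⟨i a, hi.le ⟨a, rfl⟩, ha⟩ ⟨i b, hi.le ⟨b, rfl⟩, hb⟩
      obtain ⟨q', rfl⟩ := hi.ge hcZ
      exact ⟨q', trivial, hcu, hcv⟩⟩
    exact { toNonempty := ⟨q⟩ }
  haveI : IsIntegral Q := isIntegral_of_irreducibleSpace_of_isReduced Q
  haveI : IsLocallyNoetherian Q := LocallyOfFiniteType.isLocallyNoetherian i
  let k : Spec Γ(Q, ⊤) ⟶ (U : Scheme.{u}) := Q.isoSpec.inv ≫ i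
  have hk : Set.range k = Z := by
    rw [Scheme.Hom.comp_base, TopCat.coe_comp, Set.range_comp,
      Set.range_eq_univ.2 Q.isoSpec.inv.surjective, Set.image_univ, hi]
  haveI : TopologicalSpace.NoetherianSpace (Spec Γ(Q, ⊤)) := k.isEmbedding.isInducing.noetherianSpace
  have hD : Dense (k ⁻¹' E) := by
    intro p
    rw [k.isEmbedding.isInducing.closure_eq_preimage_closure_image, Set.image_preimage_eq_inter_range, hk]
    exact hd (hk.le ⟨p, rfl⟩)
  obtain ⟨O, hO, l, hl⟩ := hc Γ(Q, ⊤) (k ≫ U.ι) (k ⁻¹' E) hD fun p ⟨y, hy⟩ => MonoVal.lift_point f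
    (K := (Spec Γ(Q, ⊤)).residueField p) _ y (by
      rw [Scheme.Hom.comp_apply]
      refine (congrArg (k ≫ U.ι) (Scheme.fromSpecResidueField_apply p _)).trans ?_
      rw [Scheme.Hom.comp_apply]
      exact hy.symm)
  obtain ⟨O', hO', hOO'⟩ := k.isEmbedding.isInducing.isOpen_iff.1 O.2
  obtain ⟨p₀, hp₀⟩ := hO
  obtain ⟨K, hK, hKU, hK'⟩ := ih (Z \ O') (hZ.sdiff hO')
    ⟨Set.sdiff_subset, fun h => (h (hk.le ⟨p₀, rfl⟩)).2 (hOO'.ge hp₀)⟩
  haveI : CompactSpace (O : Scheme.{u}) :=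
    isCompact_iff_compactSpace.mp
      (@TopologicalSpace.NoetherianSpace.isCompact ↥(Spec Γ(Q, ⊤)) _ ‹TopologicalSpace.NoetherianSpace ↥(Spec Γ(Q, ⊤))› _)
  refine ⟨K ∪ Set.range l, hK.union (isCompact_range l.continuous), Set.union_subset hKU ?_, ?_⟩
  · rintro _ ⟨o, rfl⟩
    show f (l o) ∈ U
    rw [← Scheme.Hom.comp_apply, hl]
    exact (k (O.ι o)).2
  · rintro y ⟨z, hz, e⟩
    by_cases hzO : z ∈ O'
    · obtain ⟨p, rfl⟩ := hk.ge hz
      refine Or.inr ⟨⟨p, hOO'.le hzO⟩, f.injective ?_⟩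
      rw [← Scheme.Hom.comp_apply, hl, ← e]
      rfl
    · exact Or.inl (hK' y ⟨z, ⟨hz, hzO⟩, e⟩)

theorem immersion_hasLift (f : Y ⟶ X) [IsImmersion f] (S : ValuativeCommSq f)
    (h : ∃ l₀ : Spec (CommRingCat.of (ResidueField S.R)) ⟶ Y,
        l₀ ≫ f = Spec.map (CommRingCat.ofHom (residue S.R)) ≫ S.i₂) : S.commSq.HasLift := by
  obtain ⟨l₀, hl₀⟩ := h
  let U : X.Opens := f.coborderRange
  let g := f.liftCoborder
  have hg : g ≫ U.ι = f := f.liftCoborder_ι
  have hgU : ∀ y, f y ∈ U := fun y => by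
    have e : U.ι (g y) = f y := congrArg (fun φ : Y ⟶ X => φ y) hg
    exact e ▸ (g y).2
  have hc : S.i₂ (closedPoint S.R) ∈ U := by
    have e : S.i₂ (closedPoint S.R) = f (l₀ (closedPoint (ResidueField S.R))) := by
      rw [← Scheme.Hom.comp_apply l₀ f, hl₀, Scheme.Hom.comp_apply]
      exact congrArg S.i₂ (comap_closedPoint (residue S.R)).symm
    rw [e]
    exact hgU _
  let i₂ : Spec (CommRingCat.of S.R) ⟶ U := IsOpenImmersion.lift U.ι S.i₂ (by
    rw [Scheme.Opens.range_ι]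
    rintro _ ⟨p, rfl⟩
    exact ((specializes_closedPoint (R := S.R) p).map S.i₂.continuous).mem_open U.2 hc)
  have hi₂ : i₂ ≫ U.ι = S.i₂ := IsOpenImmersion.lift_fac _ _ _
  obtain ⟨L, hL1, hL2⟩ := DvrCrit.existence_apply (DvrCrit.existence_of_universallyClosed g)
    (A := S.R) (K := S.K) S.i₁ i₂ (by
      rw [← cancel_mono U.ι, Category.assoc, Category.assoc, hg, hi₂, S.commSq.w])
  exact ⟨⟨{ l := L, fac_left := hL2, fac_right := ((congrArg (L ≫ ·) hg.symm).trans (Category.assoc _ _ _).symm).trans (by rw [hL1, hi₂]) }⟩⟩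

theorem immersion_dense (f : Y ⟶ X) [IsImmersion f] (A : Type u) [CommRing A] [IsDomain A]
    (s : Spec (CommRingCat.of A) ⟶ X) (D : Set ↥(Spec (CommRingCat.of A))) (hD : Dense D)
    (hl : ∀ p ∈ D, ∃ l : Spec ((Spec (CommRingCat.of A)).residueField p) ⟶ Y,
        l ≫ f = (Spec (CommRingCat.of A)).fromSpecResidueField p ≫ s) :
    ∃ U : (Spec (CommRingCat.of A)).Opens, (U : Set ↥(Spec (CommRingCat.of A))).Nonempty ∧
      ∃ l : (U : Scheme.{u}) ⟶ Y, l ≫ f = U.ι ≫ s := by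
  let V : X.Opens := f.coborderRange
  let g := f.liftCoborder
  have hg : g ≫ V.ι = f := f.liftCoborder_ι
  let O := s ⁻¹ᵁ V
  have hDO : ∀ p ∈ D, p ∈ O ∧ s p ∈ Set.range f := by
    intro p hp
    obtain ⟨l, hl⟩ := hl p hp
    have e : f (l (closedPoint _)) = s p := by
      rw [← Scheme.Hom.comp_apply, hl, Scheme.Hom.comp_apply]
      exact congrArg s (Scheme.fromSpecResidueField_apply p _)
    refine ⟨?_, _, e⟩
    show s p ∈ V
    rw [← e, ← hg, Scheme.Hom.comp_apply]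
    exact (g _).2
  obtain ⟨p, hp⟩ := hD.nonempty
  refine ⟨O, ⟨p, (hDO p hp).1⟩, ?_⟩
  let sO : (O : Scheme.{u}) ⟶ V := s ∣_ V
  haveI : Surjective (pullback.snd g sO) := ⟨fun q => by
    refine Scheme.Pullback.range_snd (f := g) (g := sO) |>.ge ?_
    have hq : q.1 ∈ closure (D ∩ (O : Set _)) := hD.open_subset_closure_inter O.2 |>.trans
      (by rw [Set.inter_comm]; exact subset_rfl) q.2
    have hq' : q ∈ closure (O.ι ⁻¹' D) := by
      rw [O.ι.isEmbedding.isInducing.closure_eq_preimage_closure_image, Set.image_preimage_eq_inter_range,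
        Scheme.Opens.range_ι]
      exact hq
    refine closure_minimal ?_ (g.isClosedEmbedding.isClosed_range.preimage sO.continuous) hq'
    intro q' hq'
    obtain ⟨y, hy⟩ := (hDO _ hq').2
    refine ⟨y, V.ι.injective ?_⟩
    rw [← Scheme.Hom.comp_apply, hg, hy]
    exact (congrArg (fun φ : (O : Scheme.{u}) ⟶ X => φ q') (morphismRestrict_ι s V)).symm⟩
  haveI : IsIso (pullback.snd g sO) := isIso_of_isClosedImmersion_of_surjective _
  refine ⟨inv (pullback.snd g sO) ≫ pullback.fst g sO, ?_⟩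
  refine (congrArg ((inv (pullback.snd g sO) ≫ pullback.fst g sO) ≫ ·) hg.symm).trans ?_
  rw [Category.assoc, ← Category.assoc (pullback.fst g sO), pullback.condition, Category.assoc,
    IsIso.inv_hom_id_assoc]
  exact morphismRestrict_ι s V

end Groth.Agent.H69.MonoQc
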