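import Groth.Agent.Lib.DvrCrit.MonoLift
import Groth.Agent.Lib.DvrCrit.Existence
import Groth.Agent.Lib.DvrCrit.Abstract
import Groth.Agent.Lib.Lim.AvoidFibre

/-!
# Reflection of specializations after base change: valuative and finite type criteria
-/

set_option autoImplicit false
set_option linter.unusedVariables false
set_option linter.style.haveILetI false
set_option backward.isDefEq.respectTransparency false
universe u
open CategoryTheory Limits AlgebraicGeometry IsLocalRing Groth.Agent.Lib Groth.Agent.Lib.DvrCrit TensorProduct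

namespace Groth.Agent.H69.MonoVal

variable {X Y : Scheme.{u}} (f : Y ⟶ X)

theorem lift_point [Mono f] {K : Type u} [Field K] (a : Spec (CommRingCat.of K) ⟶ X) (y : Y)
    (h : a (closedPoint K) = f y) : ∃ l : Spec (CommRingCat.of K) ⟶ Y, l ≫ f = a := by
  haveI : IsIso (f.residueFieldMap y) :=
    (ConcreteCategory.isIso_iff_bijective _).2 (residueFieldMap_bijective_of_mono f y)
  obtain ⟨⟨x, φ⟩, rfl⟩ := (Scheme.SpecToEquivOfField K X).symm.surjective a
  obtain rfl : x = f y := (Scheme.fromSpecResidueField_apply x _).symm.trans h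
  refine ⟨Spec.map (inv (f.residueFieldMap y) ≫ φ) ≫ Y.fromSpecResidueField y, ?_⟩
  rw [Category.assoc, ← Scheme.Hom.SpecMap_residueFieldMap_fromSpecResidueField, ← Spec.map_comp_assoc,
    IsIso.hom_inv_id_assoc]
  rfl

theorem reflects_of_lift [Mono f]
    (H : ∀ S : ValuativeCommSq f,
      (∃ l₀ : Spec (CommRingCat.of (ResidueField S.R)) ⟶ Y,
          l₀ ≫ f = Spec.map (CommRingCat.ofHom (residue S.R)) ≫ S.i₂) → S.commSq.HasLift)
    {X' : Scheme.{u}} (g : X' ⟶ X) (y₀ y₁ : ↥(pullback f g))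
    (h : pullback.snd f g y₁ ⤳ pullback.snd f g y₀) : y₁ ⤳ y₀ := by
  let P : Scheme.{u} := pullback f g
  let p : P ⟶ X' := pullback.snd f g
  let q : P ⟶ Y := pullback.fst f g
  let θ : X'.presheaf.stalk (p y₀) ⟶ P.residueField y₁ :=
    X'.presheaf.stalkSpecializes h ≫ p.stalkMap y₁ ≫ P.residue y₁
  obtain ⟨R, hR, hloc⟩ := exists_factor_valuationRing θ.hom
  let ψ : X'.presheaf.stalk (p y₀) ⟶ CommRingCat.of R :=
    CommRingCat.ofHom (θ.hom.codRestrict R.toSubring hR)
  let φ := Spec.map ψ ≫ X'.fromSpecStalk (p y₀)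
  have hφc : φ (closedPoint R) = p y₀ := by
    haveI : IsLocalHom ψ.hom := hloc
    have e : (Spec.map ψ) (closedPoint R) = closedPoint _ := comap_closedPoint ψ.hom
    rw [Scheme.Hom.comp_apply, e, Scheme.fromSpecStalk_closedPoint]
  have hφg : gen R ≫ φ = P.fromSpecResidueField y₁ ≫ p := by
    rw [← Category.assoc, ← Spec.map_comp]
    show Spec.map θ ≫ _ = _
    simp only [θ, Spec.map_comp, Category.assoc, Scheme.SpecMap_stalkSpecializes_fromSpecStalk,
      Scheme.SpecMap_stalkMap_fromSpecStalk]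
    show _ = Spec.map (P.residue y₁) ≫ P.fromSpecStalk y₁ ≫ p
    rw [← Scheme.SpecMap_stalkMap_fromSpecStalk]
  let S : ValuativeCommSq f :=
    { R := R, K := P.residueField y₁, i₁ := P.fromSpecResidueField y₁ ≫ q, i₂ := φ ≫ g,
      commSq := ⟨by
        show _ = gen R ≫ φ ≫ g
        rw [← Category.assoc (gen R), hφg, Category.assoc, Category.assoc, pullback.condition]⟩ }
  obtain ⟨l₀, hl₀⟩ := lift_point f (Spec.map (CommRingCat.ofHom (residue R)) ≫ φ ≫ g) (q y₀) (by
    rw [Scheme.Hom.comp_apply, Scheme.Hom.comp_apply,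
      show (Spec.map (CommRingCat.ofHom (residue R))) (closedPoint (ResidueField R)) = closedPoint R from
        comap_closedPoint (residue R), hφc, ← Scheme.Hom.comp_apply, ← Scheme.Hom.comp_apply,
      pullback.condition])
  obtain ⟨⟨L⟩⟩ := H S ⟨l₀, hl₀⟩
  let l : Spec (CommRingCat.of R) ⟶ P := pullback.lift L.l φ L.fac_right
  have hlg : gen R ≫ l = P.fromSpecResidueField y₁ := by
    apply pullback.hom_ext
    · rw [Category.assoc, pullback.lift_fst]; exact L.fac_left
    · rw [Category.assoc, pullback.lift_snd]; exact hφg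
  have hlc : l (closedPoint R) = y₀ := by
    refine Scheme.Hom.injective p ?_
    rw [← Scheme.Hom.comp_apply, pullback.lift_snd, hφc]
  have := specializes_of_gen (Y := P) y₁ R l hlg
  rwa [hlc] at this

theorem hasLift_of_reflects [Mono f]
    (H : ∀ (X' : Scheme.{u}) (g : X' ⟶ X) (y₀ y₁ : ↥(pullback f g)),
        (pullback.snd f g) y₁ ⤳ (pullback.snd f g) y₀ → y₁ ⤳ y₀)
    (S : ValuativeCommSq f)
    (h₀ : ∃ l₀ : Spec (CommRingCat.of (ResidueField S.R)) ⟶ Y,
        l₀ ≫ f = Spec.map (CommRingCat.ofHom (residue S.R)) ≫ S.i₂) : S.commSq.HasLift := by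
  obtain ⟨l₀, hl₀⟩ := h₀
  let P : Scheme.{u} := pullback f S.i₂
  let p : P ⟶ Spec (CommRingCat.of S.R) := pullback.snd f S.i₂
  let k : Spec (CommRingCat.of S.K) ⟶ P :=
    pullback.lift S.i₁ (Spec.map (CommRingCat.ofHom (algebraMap S.R S.K))) S.commSq.w
  let k₀ : Spec (CommRingCat.of (ResidueField S.R)) ⟶ P :=
    pullback.lift l₀ (Spec.map (CommRingCat.ofHom (residue S.R))) hl₀
  let y₁ := k (closedPoint S.K)
  let y₀ := k₀ (closedPoint (ResidueField S.R))
  have hp₀ : p y₀ = closedPoint S.R := by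
    rw [← Scheme.Hom.comp_apply, pullback.lift_snd]
    exact comap_closedPoint (residue S.R)
  have hsp : y₁ ⤳ y₀ := H _ S.i₂ y₀ y₁ (by
    rw [hp₀]
    exact specializes_closedPoint _)
  let θ : P.presheaf.stalk y₀ ⟶ CommRingCat.of S.K :=
    P.presheaf.stalkSpecializes hsp ≫ Scheme.stalkClosedPointTo k
  have hθ : Spec.map θ ≫ P.fromSpecStalk y₀ = k := by
    simp only [θ, Spec.map_comp, Category.assoc, Scheme.SpecMap_stalkSpecializes_fromSpecStalk]
    exact Scheme.Spec_stalkClosedPointTo_fromSpecStalk _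
  obtain ⟨α, hα⟩ := Spec.map_surjective (P.fromSpecStalk y₀ ≫ p)
  have hloc : ∀ a : S.R, a ∈ maximalIdeal S.R → α.hom a ∈ maximalIdeal (P.presheaf.stalk y₀) := by
    intro a ha
    have e : (Spec.map α) (closedPoint (P.presheaf.stalk y₀)) = closedPoint S.R := by
      rw [hα, Scheme.Hom.comp_apply, Scheme.fromSpecStalk_closedPoint, hp₀]
    exact (congrArg PrimeSpectrum.asIdeal e).ge ha
  have hθα : α ≫ θ = CommRingCat.ofHom (algebraMap S.R S.K) := by
    apply Spec.map_injective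
    rw [Spec.map_comp, hα, ← Category.assoc, hθ, pullback.lift_snd]
  have hmem : ∀ u, θ.hom u ∈ (algebraMap S.R S.K).range := by
    intro u
    by_contra hu
    rcases ValuationRing.isInteger_or_isInteger S.R (θ.hom u) with ⟨a, ha⟩ | ⟨a, ha⟩
    · exact hu ⟨a, ha⟩
    · have hu0 : θ.hom u ≠ 0 := fun h => hu (h ▸ zero_mem _)
      have ham : a ∈ maximalIdeal S.R := by
        by_contra han
        obtain ⟨v, hv⟩ : IsUnit a := not_not.1 han
        refine hu ⟨((v⁻¹ : (S.R)ˣ) : S.R), ?_⟩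
        rw [map_units_inv, hv, ha, inv_inv]
      have h1 : θ.hom (α.hom a * u - 1) = 0 := by
        rw [map_sub, map_mul, map_one, show θ.hom (α.hom a) = (θ.hom u)⁻¹ from
          (congr(($hθα).hom a)).trans ha, inv_mul_cancel₀ hu0, sub_self]
      have h2 : α.hom a * u - 1 ∈ maximalIdeal (P.presheaf.stalk y₀) :=
        le_maximalIdeal (RingHom.ker_ne_top θ.hom) h1
      have h3 := sub_mem (Ideal.mul_mem_right u _ (hloc a ham)) h2
      rw [sub_sub_cancel] at h3
      exact (maximalIdeal.isMaximal _).ne_top ((Ideal.eq_top_iff_one _).2 h3)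
  choose r hr using hmem
  have hinj := IsFractionRing.injective S.R S.K
  let ψ : P.presheaf.stalk y₀ ⟶ CommRingCat.of S.R := CommRingCat.ofHom
    { toFun := r
      map_one' := hinj (by rw [hr, map_one, map_one])
      map_mul' := fun u v => hinj (by rw [hr, map_mul, map_mul, hr, hr])
      map_zero' := hinj (by rw [hr, map_zero, map_zero])
      map_add' := fun u v => hinj (by rw [hr, map_add, map_add, hr, hr]) }
  have hψθ : ψ ≫ CommRingCat.ofHom (algebraMap S.R S.K) = θ := by ext u; exact hr u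
  have hαψ : α ≫ ψ = 𝟙 _ := by
    ext a
    refine hinj ?_
    show algebraMap S.R S.K (r (α.hom a)) = algebraMap S.R S.K a
    rw [hr]
    exact congr(($hθα).hom a)
  refine ⟨⟨{ l := Spec.map ψ ≫ P.fromSpecStalk y₀ ≫ pullback.fst f S.i₂, fac_left := ?_, fac_right := ?_ }⟩⟩
  · rw [← Category.assoc, ← Spec.map_comp, hψθ, ← Category.assoc, hθ, pullback.lift_fst]
  · simp only [Category.assoc]
    rw [pullback.condition, ← Category.assoc (P.fromSpecStalk y₀), ← hα, ← Category.assoc,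
      ← Spec.map_comp, hαψ, Spec.map_id, Category.id_comp]

theorem exists_finset {A C B : Type u} [CommRing A] [CommRing C] [CommRing B] [Algebra A C] [Algebra A B]
    (t : C ⊗[A] B) : ∃ s : Finset B, ∀ (P : Type u) [CommRing P] [Algebra A P] (φ : P →ₐ[A] B),
      (s : Set B) ⊆ Set.range φ → ∃ t', Algebra.TensorProduct.map (AlgHom.id A C) φ t' = t := by
  classical
  induction t using TensorProduct.induction_on with
  | zero => exact ⟨∅, fun P _ _ φ _ => ⟨0, map_zero _⟩⟩
  | tmul c b =>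
    refine ⟨{b}, fun P _ _ φ hs => ?_⟩
    obtain ⟨b', hb'⟩ := hs (Finset.mem_coe.2 (Finset.mem_singleton_self b))
    exact ⟨c ⊗ₜ b', by simp [hb']⟩
  | add x y hx hy =>
    obtain ⟨s, hs⟩ := hx
    obtain ⟨t, ht⟩ := hy
    refine ⟨s ∪ t, fun P _ _ φ h' => ?_⟩
    rw [Finset.coe_union, Set.union_subset_iff] at h'
    obtain ⟨x', rfl⟩ := hs P φ h'.1
    obtain ⟨y', rfl⟩ := ht P φ h'.2
    exact ⟨x' + y', map_add _ _ _⟩

open Lim.AvoidFibre in
theorem reflects_of_finiteType
    (h : ∀ (X' : Scheme.{u}) (g : X' ⟶ X) [LocallyOfFiniteType g] (y₀ y₁ : ↥(pullback f g)),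
      (pullback.snd f g) y₁ ⤳ (pullback.snd f g) y₀ → y₁ ⤳ y₀)
    {X' : Scheme.{u}} (g : X' ⟶ X) (y₀ y₁ : ↥(pullback f g))
    (hs : pullback.snd f g y₁ ⤳ pullback.snd f g y₀) : y₁ ⤳ y₀ := by
  obtain ⟨U, hU, hxU, -⟩ := exists_isAffineOpen_mem_and_subset
    (x := g (pullback.snd f g y₀)) (U := (⊤ : X.Opens)) trivial
  obtain ⟨W', hW', hyW, hWU⟩ := exists_isAffineOpen_mem_and_subset
    (x := pullback.snd f g y₀) (U := g ⁻¹ᵁ U) hxU
  let B := Γ(X', W')
  letI : Algebra Γ(X, U) B := (g.appLE U W' hWU).hom.toAlgebra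
  have hb : base hU B = hW'.fromSpec ≫ g := IsAffineOpen.SpecMap_appLE_fromSpec g hU hW' hWU
  let π : pullback f (base hU B) ⟶ pullback f g :=
    pullback.map f (base hU B) f g (𝟙 Y) hW'.fromSpec (𝟙 X) (by simp) (by rw [Category.comp_id, hb])
  haveI : IsOpenImmersion π := by dsimp [π]; infer_instance
  have hπ : ∀ y, pullback.snd f g y ∈ W' → y ∈ Set.range π := by
    intro y hy
    rw [Scheme.Pullback.range_map]
    exact ⟨⟨_, rfl⟩, hW'.range_fromSpec.ge hy⟩
  obtain ⟨z₀, rfl⟩ := hπ y₀ hyW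
  obtain ⟨z₁, rfl⟩ := hπ y₁ (hs.mem_open W'.2 hyW)
  have hzs : pullback.snd f (base hU B) z₁ ⤳ pullback.snd f (base hU B) z₀ := by
    rw [hW'.fromSpec.isOpenEmbedding.isInducing.specializes_iff.symm]
    have e : π ≫ pullback.snd f g = pullback.snd f (base hU B) ≫ hW'.fromSpec := pullback.lift_snd _ _ _
    have e' : ∀ z, pullback.snd f g (π z) = hW'.fromSpec (pullback.snd f (base hU B) z) := fun z =>
      congrArg (fun φ : pullback f (base hU B) ⟶ X' => φ z) e
    rw [e' z₀, e' z₁] at hs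
    exact hs
  refine Specializes.map ?_ π.continuous
  have key : ∀ (s : Finset B), ∃ (P : Type u) (_ : CommRing P) (_ : Algebra Γ(X, U) P) (φ : P →ₐ[Γ(X, U)] B),
      (s : Set B) ⊆ Set.range φ ∧ bc f hU φ z₁ ⤳ bc f hU φ z₀ := by
    intro s
    classical
    let φ : MvPolynomial s Γ(X, U) →ₐ[Γ(X, U)] B := MvPolynomial.aeval fun i => (i : B)
    refine ⟨MvPolynomial s Γ(X, U), inferInstance, inferInstance, φ,
      fun b hb => ⟨MvPolynomial.X ⟨b, hb⟩, by simp [φ]⟩, ?_⟩
    haveI := base_lfp hU (MvPolynomial s Γ(X, U))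
    refine h _ (base hU (MvPolynomial s Γ(X, U))) _ _ ?_
    rw [← Scheme.Hom.comp_apply, ← Scheme.Hom.comp_apply, bc, pullback.lift_snd, Scheme.Hom.comp_apply,
      Scheme.Hom.comp_apply]
    exact hzs.map (Scheme.Hom.continuous _)
  obtain ⟨V, hV, hyV, hVU⟩ := exists_isAffineOpen_mem_and_subset (x := pullback.fst f (base hU B) z₀)
    (U := f ⁻¹ᵁ U) (by
      show f (pullback.fst f (base hU B) z₀) ∈ U
      rw [← Scheme.Hom.comp_apply, pullback.condition, Scheme.Hom.comp_apply]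
      exact hU.range_fromSpec.le ⟨_, rfl⟩)
  have hfst : ∀ {P : Type u} [CommRing P] [Algebra Γ(X, U) P] (φ : P →ₐ[Γ(X, U)] B) (z),
      pullback.fst f (base hU P) (bc f hU φ z) = pullback.fst f (base hU B) z := fun φ z => by
    rw [← Scheme.Hom.comp_apply, bc, pullback.lift_fst, Category.comp_id]
  have hyV₁ : pullback.fst f (base hU B) z₁ ∈ V := by
    obtain ⟨P, _, _, φ, -, hφ⟩ := key ∅
    have := hφ.map (pullback.fst f (base hU P)).continuous
    rw [hfst, hfst] at this
    exact this.mem_open V.2 hyV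
  letI := (f.appLE U V hVU).hom.toAlgebra
  obtain ⟨Q₀, rfl⟩ : z₀ ∈ Set.range (chart f hU hV hVU B) := by rw [range_chart]; exact hyV
  obtain ⟨Q₁, rfl⟩ : z₁ ∈ Set.range (chart f hU hV hVU B) := by rw [range_chart]; exact hyV₁
  refine Specializes.map ?_ (chart f hU hV hVU B).continuous
  refine (PrimeSpectrum.le_iff_specializes Q₁ Q₀).1 fun t ht => ?_
  obtain ⟨s, hs'⟩ := exists_finset t
  obtain ⟨P, _, _, φ, hsφ, hφ⟩ := key s
  obtain ⟨t', rfl⟩ := hs' P φ hsφ
  rw [← Scheme.Hom.comp_apply, ← Scheme.Hom.comp_apply, ← chart_bc, Scheme.Hom.comp_apply,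
    Scheme.Hom.comp_apply, (chart f hU hV hVU P).isOpenEmbedding.isInducing.specializes_iff] at hφ
  exact (PrimeSpectrum.le_iff_specializes _ _).2 hφ ht

end Groth.Agent.H69.MonoVal
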