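import Groth.Agent.Lib.Lim.SmoothEtale
import Groth.Agent.Lib.Lim.LocalLimit
import Mathlib.AlgebraicGeometry.Gluing

/-!
# The Néron mapping property at a point of the base
-/

set_option autoImplicit false
set_option linter.style.haveILetI false
set_option linter.unusedVariables false
set_option linter.unnecessarySeqFocus false
set_option backward.isDefEq.respectTransparency false

universe u

open CategoryTheory CategoryTheory.Limits AlgebraicGeometry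
open Groth.Agent.Lib.Lim Groth.Agent.Lib.Lim.Descend Groth.Agent.Lib.Lim.Basic

namespace Groth.Agent.H69.NeronLoc

variable {S N : Scheme.{u}}

/-- Morphisms over `S` from the part of `Y` over `U` extend uniquely. -/
def Ext {Y : Scheme.{u}} (b : Y ⟶ S) (U : S.Opens) (n : N ⟶ S) : Prop :=
  (∀ g₁ g₂ : Y ⟶ N, g₁ ≫ n = b → g₂ ≫ n = b →
    (b ⁻¹ᵁ U).ι ≫ g₁ = (b ⁻¹ᵁ U).ι ≫ g₂ → g₁ = g₂) ∧
  ∀ g : ((b ⁻¹ᵁ U : Y.Opens) : Scheme.{u}) ⟶ N, g ≫ n = (b ⁻¹ᵁ U).ι ≫ b →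
    ∃ G : Y ⟶ N, G ≫ n = b ∧ (b ⁻¹ᵁ U).ι ≫ G = g

/-- The restriction of a morphism over `S` to an open, written on preimages. -/
theorem map_left (U : S.Opens) {Y M : Over S} (f : Y ⟶ M) :
    (pullbackRestrictIsoRestrict Y.hom U).inv ≫ ((Over.pullback U.ι).map f).left ≫
      pullback.fst M.hom U.ι = (Y.hom ⁻¹ᵁ U).ι ≫ f.left := by
  rw [show ((Over.pullback U.ι).map f).left ≫ pullback.fst M.hom U.ι =
    pullback.fst Y.hom U.ι ≫ f.left from pullback.lift_fst _ _ _, pullbackRestrictIsoRestrict_inv_fst_assoc]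

/-- The bijectivity of restriction of morphisms is `Ext`. -/
theorem bijective_iff (U : S.Opens) (Y M : Over S) :
    Function.Bijective (fun f : Y ⟶ M => (Over.pullback U.ι).map f) ↔ Ext Y.hom U M.hom := by
  constructor
  · intro h
    refine ⟨fun g₁ g₂ h₁ h₂ e => ?_, fun g hg => ?_⟩
    · refine congrArg CommaMorphism.left
        (h.1 (a₁ := Over.homMk g₁ h₁) (a₂ := Over.homMk g₂ h₂) (Over.OverMorphism.ext ?_))
      rw [← cancel_epi (pullbackRestrictIsoRestrict Y.hom U).inv]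
      apply pullback.hom_ext
      · rw [Category.assoc, Category.assoc, map_left, map_left]; exact e
      · rw [Category.assoc, Category.assoc]; exact congrArg _ ((Over.w _).trans (Over.w _).symm)
    · obtain ⟨f, hf⟩ := h.2 (Over.homMk (pullback.lift ((pullbackRestrictIsoRestrict Y.hom U).hom ≫ g)
        (pullback.snd Y.hom U.ι) (by
          rw [Category.assoc, hg, pullbackRestrictIsoRestrict_hom_ι_assoc, pullback.condition]))
        (pullback.lift_snd _ _ _))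
      refine ⟨f.left, Over.w f, ?_⟩
      rw [← map_left, show (Over.pullback U.ι).map f = _ from hf]
      simp
  · intro h
    refine ⟨fun f₁ f₂ e => Over.OverMorphism.ext (h.1 _ _ (Over.w f₁) (Over.w f₂) ?_), fun φ => ?_⟩
    · rw [← map_left, ← map_left, show (Over.pullback U.ι).map f₁ = _ from e]
    · obtain ⟨G, hG, hGg⟩ := h.2 ((pullbackRestrictIsoRestrict Y.hom U).inv ≫ φ.left ≫
        pullback.fst M.hom U.ι) (by
          rw [Category.assoc, Category.assoc, pullback.condition,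
            show φ.left ≫ pullback.snd M.hom U.ι ≫ U.ι = pullback.snd Y.hom U.ι ≫ U.ι from
              congrArg (· ≫ U.ι) (Over.w φ) |>.symm.symm |> (Category.assoc _ _ _).symm.trans,
            ← pullback.condition, pullbackRestrictIsoRestrict_inv_fst_assoc])
      refine ⟨Over.homMk G hG, Over.OverMorphism.ext ?_⟩
      rw [← cancel_epi (pullbackRestrictIsoRestrict Y.hom U).inv]
      apply pullback.hom_ext
      · rw [Category.assoc, Category.assoc, map_left]; exact hGg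
      · rw [Category.assoc, Category.assoc]; exact congrArg _ ((Over.w _).trans (Over.w _).symm)

/-- `Ext` along a base change of the target. -/
theorem ext_pullback {L Y : Scheme.{u}} (σ : L ⟶ S) (b : Y ⟶ L) (U : S.Opens) (n : N ⟶ S)
    (h : Ext (b ≫ σ) U n) : Ext b (σ ⁻¹ᵁ U) (pullback.snd n σ) := by
  refine ⟨fun g₁ g₂ h₁ h₂ e => ?_, fun g hg => ?_⟩
  · refine pullback.hom_ext (h.1 _ _ ?_ ?_ ?_) (h₁.trans h₂.symm)
    · rw [Category.assoc, pullback.condition, reassoc_of% h₁]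
    · rw [Category.assoc, pullback.condition, reassoc_of% h₂]
    · exact (Category.assoc _ _ _).symm.trans ((congrArg (· ≫ pullback.fst n σ) e).trans
        (Category.assoc _ _ _))
  · obtain ⟨G, hG, hGg⟩ := h.2 (g ≫ pullback.fst n σ) (by
      rw [Category.assoc, pullback.condition, reassoc_of% hg]; rfl)
    exact ⟨pullback.lift G b hG, pullback.lift_snd _ _ _, pullback.hom_ext
      (by rw [Category.assoc, pullback.lift_fst]; exact hGg)
      (by rw [Category.assoc, pullback.lift_snd, hg])⟩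

/-- Extension is local on `Y`: it is enough to extend on affine opens. -/
theorem ext_of_affine {Y : Scheme.{u}} (b : Y ⟶ S) (U : S.Opens) (n : N ⟶ S)
    (h : ∀ W : Y.Opens, IsAffineOpen W → Ext (W.ι ≫ b) U n) : Ext b U n := by
  have hinj : ∀ (Z : Scheme.{u}) (i : Z ⟶ Y) [IsOpenImmersion i] (g₁ g₂ : Z ⟶ N),
      g₁ ≫ n = i ≫ b → g₂ ≫ n = i ≫ b →
      ((i ≫ b) ⁻¹ᵁ U).ι ≫ g₁ = ((i ≫ b) ⁻¹ᵁ U).ι ≫ g₂ → g₁ = g₂ := by
    intro Z i _ g₁ g₂ h₁ h₂ e
    refine Scheme.hom_ext_of_forall _ _ fun z => ?_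
    obtain ⟨W, hW, hzW, -⟩ := exists_isAffineOpen_mem_and_subset (x := z) (U := ⊤) trivial
    refine ⟨W, hzW, ?_⟩
    have hW' := hW.image_of_isOpenImmersion i
    let k : (W : Scheme.{u}) ≅ ((i ''ᵁ W : Y.Opens) : Scheme.{u}) := i.isoImage W
    have hk : k.inv ≫ W.ι ≫ i = (i ''ᵁ W).ι := i.isoImage_inv_ι W
    rw [← cancel_epi k.inv]
    refine (h _ hW').1 _ _ ?_ ?_ ?_
    · rw [Category.assoc, Category.assoc, h₁, ← hk, Category.assoc, Category.assoc]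
    · rw [Category.assoc, Category.assoc, h₂, ← hk, Category.assoc, Category.assoc]
    · let m : ((((i ''ᵁ W).ι ≫ b) ⁻¹ᵁ U : _) : Scheme.{u}) ⟶ ((i ≫ b) ⁻¹ᵁ U : _) :=
        IsOpenImmersion.lift ((i ≫ b) ⁻¹ᵁ U).ι
          ((((i ''ᵁ W).ι ≫ b) ⁻¹ᵁ U).ι ≫ k.inv ≫ W.ι) (by
            rw [Scheme.Opens.range_ι]
            rintro _ ⟨a, rfl⟩
            show b ((k.inv ≫ W.ι ≫ i) a.1) ∈ U
            rw [hk]
            exact a.2)
      have hm : m ≫ ((i ≫ b) ⁻¹ᵁ U).ι = (((i ''ᵁ W).ι ≫ b) ⁻¹ᵁ U).ι ≫ k.inv ≫ W.ι :=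
        IsOpenImmersion.lift_fac _ _ _
      rw [← reassoc_of% hm, ← reassoc_of% hm, e]
  refine ⟨fun g₁ g₂ h₁ h₂ e => hinj Y (𝟙 Y) g₁ g₂ (by simpa using h₁) (by simpa using h₂) ?_,
    fun g hg => ?_⟩
  · exact (congrArg (fun c : Y ⟶ S => (c ⁻¹ᵁ U).ι ≫ g₁ = (c ⁻¹ᵁ U).ι ≫ g₂) (Category.id_comp b)).mpr e
  let 𝒰 := Y.openCoverOfIsOpenCover (fun W : Y.affineOpens => (W : Y.Opens)) (iSup_affineOpens_eq_top Y)
  let r : ∀ W : Y.affineOpens, ((((W : Y.Opens).ι ≫ b) ⁻¹ᵁ U : _) : Scheme.{u}) ⟶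
      ((b ⁻¹ᵁ U : Y.Opens) : Scheme.{u}) := fun W => (W : Y.Opens).ι ∣_ (b ⁻¹ᵁ U)
  have hr : ∀ W, r W ≫ (b ⁻¹ᵁ U).ι = (((W : Y.Opens).ι ≫ b) ⁻¹ᵁ U).ι ≫ (W : Y.Opens).ι :=
    fun W => morphismRestrict_ι _ _
  choose G hG hGg using fun W : Y.affineOpens => (h W W.2).2 (r W ≫ g) (by
    rw [Category.assoc, hg, reassoc_of% (hr W)])
  have hcompat : ∀ x y, pullback.fst (𝒰.f x) (𝒰.f y) ≫ G x = pullback.snd (𝒰.f x) (𝒰.f y) ≫ G y := by
    rintro (x : Y.affineOpens) (y : Y.affineOpens)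
    haveI : IsOpenImmersion (pullback.fst (𝒰.f x) (𝒰.f y) ≫ 𝒰.f x) := inferInstance
    refine hinj _ (pullback.fst (𝒰.f x) (𝒰.f y) ≫ 𝒰.f x) _ _ ?_ ?_ ?_
    · rw [Category.assoc, hG, Category.assoc]; rfl
    · rw [Category.assoc, hG, pullback.condition, Category.assoc]; rfl
    · let Q := ((pullback.fst (𝒰.f x) (𝒰.f y) ≫ 𝒰.f x) ≫ b) ⁻¹ᵁ U
      let qx : (Q : Scheme.{u}) ⟶ _ := IsOpenImmersion.lift ((((x : Y.Opens).ι ≫ b) ⁻¹ᵁ U)).ι
        (Q.ι ≫ pullback.fst (𝒰.f x) (𝒰.f y)) (by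
          rw [Scheme.Opens.range_ι]; rintro _ ⟨a, rfl⟩; exact a.2)
      let qy : (Q : Scheme.{u}) ⟶ _ := IsOpenImmersion.lift ((((y : Y.Opens).ι ≫ b) ⁻¹ᵁ U)).ι
        (Q.ι ≫ pullback.snd (𝒰.f x) (𝒰.f y)) (by
          rw [Scheme.Opens.range_ι]; rintro _ ⟨a, rfl⟩
          show b (((pullback.snd (𝒰.f x) (𝒰.f y)) ≫ 𝒰.f y) a.1) ∈ U
          rw [← pullback.condition]; exact a.2)
      have hx : qx ≫ _ = Q.ι ≫ pullback.fst (𝒰.f x) (𝒰.f y) := IsOpenImmersion.lift_fac _ _ _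
      have hy : qy ≫ _ = Q.ι ≫ pullback.snd (𝒰.f x) (𝒰.f y) := IsOpenImmersion.lift_fac _ _ _
      rw [← reassoc_of% hx, ← reassoc_of% hy, hGg, hGg]
      have hq : qx ≫ r x = qy ≫ r y := by
        rw [← cancel_mono (b ⁻¹ᵁ U).ι, Category.assoc, Category.assoc, hr, hr, reassoc_of% hx,
          reassoc_of% hy]
        exact congrArg _ pullback.condition
      rw [reassoc_of% hq]
  refine ⟨𝒰.glueMorphisms G hcompat, ?_, ?_⟩
  · refine Scheme.Cover.hom_ext 𝒰 _ _ fun x => ?_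
    rw [← Category.assoc, Scheme.Cover.ι_glueMorphisms, hG]; rfl
  · refine Scheme.hom_ext_of_forall _ _ fun z => ?_
    obtain ⟨W, hW, hzW, -⟩ := exists_isAffineOpen_mem_and_subset (x := z.1) (U := ⊤) trivial
    refine ⟨(b ⁻¹ᵁ U).ι ⁻¹ᵁ W, hzW, ?_⟩
    let l : ((((b ⁻¹ᵁ U).ι ⁻¹ᵁ W : _)) : Scheme.{u}) ⟶ ((((W.ι ≫ b) ⁻¹ᵁ U : _)) : Scheme.{u}) :=
      IsOpenImmersion.lift ((W.ι ≫ b) ⁻¹ᵁ U).ι ((b ⁻¹ᵁ U).ι ∣_ W) (by
        rw [Scheme.Opens.range_ι]; rintro _ ⟨a, rfl⟩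
        show b ((((b ⁻¹ᵁ U).ι ∣_ W) ≫ W.ι) a) ∈ U
        rw [morphismRestrict_ι]
        exact a.1.2)
    have hl : l ≫ _ = (b ⁻¹ᵁ U).ι ∣_ W := IsOpenImmersion.lift_fac _ _ _
    rw [← morphismRestrict_ι_assoc, ← reassoc_of% hl]
    have h1 : W.ι ≫ 𝒰.glueMorphisms G hcompat = G ⟨W, hW⟩ :=
      Scheme.Cover.ι_glueMorphisms 𝒰 G hcompat ⟨W, hW⟩
    rw [h1]
    erw [hGg ⟨W, hW⟩]
    have h2 : l ≫ r ⟨W, hW⟩ = ((b ⁻¹ᵁ U).ι ⁻¹ᵁ W).ι := by
      rw [← cancel_mono (b ⁻¹ᵁ U).ι, Category.assoc, hr, reassoc_of% hl, morphismRestrict_ι]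
    rw [reassoc_of% h2]

/-- The Néron mapping property for a smooth affine scheme over the local scheme at a point. -/
theorem ext_local [IsLocallyNoetherian S] (U : S.Opens) (n : N ⟶ S) [LocallyOfFinitePresentation n]
    (hN : ∀ (Y : Scheme.{u}) (b : Y ⟶ S), Smooth b → Ext b U n) (s : S) {W : Scheme.{u}} [IsAffine W]
    (f₀ : W ⟶ Spec (S.presheaf.stalk s)) [Smooth f₀] : Ext (f₀ ≫ S.fromSpecStalk s) U n := by
  obtain ⟨V, hV, hsV, -⟩ := exists_isAffineOpen_mem_and_subset (x := s) (U := (⊤ : S.Opens)) trivial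
  let p : PrimeSpectrum Γ(S, V) := hV.primeIdealOf ⟨s, hsV⟩
  letI : Algebra Γ(S, V) (S.presheaf.stalk s) :=
    TopCat.Presheaf.algebra_section_stalk S.presheaf ⟨s, hsV⟩
  haveI : IsLocalization.AtPrime (S.presheaf.stalk s) p.asIdeal := hV.isLocalization_stalk ⟨s, hsV⟩
  let e := IsLocalization.algEquiv p.asIdeal.primeCompl (Localization.AtPrime p.asIdeal)
    (S.presheaf.stalk s)
  let ε : CommRingCat.of (Localization.AtPrime p.asIdeal) ≅ S.presheaf.stalk s :=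
    e.toRingEquiv.toCommRingCatIso
  let η : Spec (S.presheaf.stalk s) ⟶ Spec (LocalLimit.loc p) := Spec.map ε.hom
  haveI : IsIso η := inferInstanceAs (IsIso (Spec.map ε.hom))
  have hη : η ≫ LocalLimit.toSpec p ≫ hV.fromSpec = S.fromSpecStalk s := by
    rw [← hV.fromSpecStalk_eq_fromSpecStalk hsV]
    show _ = Spec.map (S.presheaf.germ V s hsV) ≫ hV.fromSpec
    rw [← Category.assoc, ← Spec.map_comp]
    congr 2
    ext a
    exact e.commutes a
  haveI : IsLocallyNoetherian (Spec (S.presheaf.stalk s)) := inferInstance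
  let D := LocalLimit.diag p
  let c := LocalLimit.cone p
  have hc : IsLimit c := LocalLimit.isLimit p
  haveI : ∀ i, IsAffine (D.obj i) := fun i => inferInstanceAs (IsAffine ((LocalLimit.diag p).obj i))
  haveI : ∀ {i j : LocalLimit.Nhd p} (φ : i ⟶ j), IsAffineHom (D.map φ) := fun φ => inferInstance
  let f : W ⟶ c.pt := f₀ ≫ η
  haveI : Smooth f := inferInstanceAs (Smooth (f₀ ≫ η))
  obtain ⟨i, Y₀, a₀, π₀, hYc, hYq, hYf, hπ₀⟩ := FPDescend.exists_descent hc f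
  obtain ⟨j, φ, hsm⟩ := SmoothEtale.smooth_descends D c hc (fun _ _ _ => inferInstance) i
    inferInstance inferInstance a₀ hYc hYq hYf f π₀ hπ₀ ‹Smooth f›
  let Y := pullback a₀ (D.map φ)
  let a : Y ⟶ D.obj j := pullback.snd a₀ (D.map φ)
  haveI : Smooth a := hsm
  haveI : CompactSpace Y := FPDescend.compactSpace_stage a₀ φ
  haveI : QuasiSeparatedSpace Y := FPDescend.quasiSeparatedSpace_stage a₀ φ
  let π : W ⟶ Y := pullback.lift π₀ (f ≫ c.π.app j) (by rw [Category.assoc, c.w, hπ₀.w])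
  have hπ : IsPullback π f a (c.π.app j) := FPDescend.move hπ₀ φ
  let ν : D.obj j ⟶ S := (LocalLimit.op' p j).ι ≫ hV.fromSpec
  haveI : IsOpenImmersion ν := inferInstanceAs (IsOpenImmersion ((LocalLimit.op' p j).ι ≫ hV.fromSpec))
  have hπν : π ≫ a ≫ ν = f₀ ≫ S.fromSpecStalk s := by
    rw [reassoc_of% hπ.w, ← hη]
    show (f₀ ≫ η) ≫ c.π.app j ≫ _ ≫ _ = _
    rw [← reassoc_of% (LocalLimit.cone_π_ι p j), Category.assoc]
  haveI : IsLocallyNoetherian Y := LocallyOfFiniteType.isLocallyNoetherian (a ≫ ν)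
  haveI : IsNoetherian Y := ⟨⟩
  have hsmooth : ∀ {k : LocalLimit.Nhd p} (ψ : k ⟶ j), Smooth (pullback.fst a (D.map ψ) ≫ a ≫ ν) :=
    fun ψ => by
      haveI : IsOpenImmersion (D.map ψ) :=
        inferInstanceAs (IsOpenImmersion ((Spec Γ(S, V)).homOfLE (leOfHom ψ)))
      infer_instance
  constructor
  · intro g₁ g₂ h₁ h₂ hU
    obtain ⟨k₁, ψ₁, G₁, hG₁, hG₁'⟩ := exists_bc_hom hc hπ n (a ≫ ν) g₁ (h₁.trans hπν.symm)
    obtain ⟨k₂, ψ₂, G₂, hG₂, hG₂'⟩ := exists_bc_hom hc hπ n (a ≫ ν) g₂ (h₂.trans hπν.symm)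
    obtain ⟨k, u₁, u₂, hu⟩ := IsCofiltered.cospan ψ₁ ψ₂
    let Z := pullback a (D.map (u₁ ≫ ψ₁))
    let b : Z ⟶ S := pullback.fst _ _ ≫ a ≫ ν
    haveI : Smooth b := hsmooth _
    let πk : W ⟶ Z := pullback.lift π (f ≫ c.π.app k) (by rw [Category.assoc, c.w, hπ.w])
    have hπk : IsPullback πk f (pullback.snd a (D.map (u₁ ≫ ψ₁))) (c.π.app k) := FPDescend.move hπ _
    let t₁ : Z ⟶ pullback a (D.map ψ₁) := pullback.lift (pullback.fst _ _)
      (pullback.snd _ _ ≫ D.map u₁) (by rw [Category.assoc, ← D.map_comp, pullback.condition])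
    let t₂ : Z ⟶ pullback a (D.map ψ₂) := pullback.lift (pullback.fst _ _)
      (pullback.snd _ _ ≫ D.map u₂) (by rw [Category.assoc, ← D.map_comp, ← hu, pullback.condition])
    have ht₁ : πk ≫ t₁ = pullback.lift π (f ≫ c.π.app k₁) (by rw [Category.assoc, c.w, hπ.w]) := by
      apply pullback.hom_ext <;> simp [πk, t₁] <;> exact congrArg (f ≫ ·) (c.w _)
    have ht₂ : πk ≫ t₂ = pullback.lift π (f ≫ c.π.app k₂) (by rw [Category.assoc, c.w, hπ.w]) := by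
      apply pullback.hom_ext <;> simp [πk, t₂] <;> exact congrArg (f ≫ ·) (c.w _)
    have hb₁ : (t₁ ≫ G₁) ≫ n = b := by rw [Category.assoc, hG₁, pullback.lift_fst_assoc]
    have hb₂ : (t₂ ≫ G₂) ≫ n = b := by rw [Category.assoc, hG₂, pullback.lift_fst_assoc]
    -- the part over `U`
    let O := b ⁻¹ᵁ U
    haveI : IsLocallyNoetherian Z := LocallyOfFiniteType.isLocallyNoetherian b
    haveI : CompactSpace Z := FPDescend.compactSpace_stage a _
    haveI : IsNoetherian Z := ⟨⟩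
    have hO : IsPullback (πk ∣_ O) ((πk ⁻¹ᵁ O).ι ≫ f) (O.ι ≫ pullback.snd a (D.map (u₁ ≫ ψ₁)))
        (c.π.app k) := (isPullback_morphismRestrict πk O).paste_vert hπk
    haveI : LocallyOfFiniteType n := inferInstance
    haveI : CompactSpace O := isCompact_iff_compactSpace.mp (TopologicalSpace.NoetherianSpace.isCompact _)
    obtain ⟨m, χ, hm⟩ := exists_bc_comp_eq hc hO n (O.ι ≫ t₁ ≫ G₁) (O.ι ≫ t₂ ≫ G₂)
      (by rw [Category.assoc, hb₁, Category.assoc, hb₂]) (by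
        rw [morphismRestrict_ι_assoc, morphismRestrict_ι_assoc, reassoc_of% ht₁, reassoc_of% ht₂,
          hG₁', hG₂']
        have hle : πk ⁻¹ᵁ O ≤ (f₀ ≫ S.fromSpecStalk s) ⁻¹ᵁ U := by
          intro w hw
          have : b (πk w) ∈ U := hw
          rw [← Scheme.Hom.comp_apply] at this
          show (f₀ ≫ S.fromSpecStalk s) w ∈ U
          rw [← hπν]
          convert this using 2
          simp [b, πk]
        rw [← W.homOfLE_ι hle, Category.assoc, Category.assoc, hU])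
    let Z' := pullback a (D.map (χ ≫ u₁ ≫ ψ₁))
    let b' : Z' ⟶ S := pullback.fst _ _ ≫ a ≫ ν
    haveI : Smooth b' := hsmooth _
    let t : Z' ⟶ Z := pullback.lift (pullback.fst _ _) (pullback.snd _ _ ≫ D.map χ)
      (by rw [Category.assoc, ← D.map_comp, pullback.condition])
    have htb : t ≫ b = b' := by simp [t, b, b']
    have key : t ≫ t₁ ≫ G₁ = t ≫ t₂ ≫ G₂ := by
      refine (hN Z' b' inferInstance).1 _ _ (by rw [Category.assoc, hb₁, htb])
        (by rw [Category.assoc, hb₂, htb]) ?_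
      let o : ((b' ⁻¹ᵁ U : Z'.Opens) : Scheme.{u}) ⟶ (O : Scheme.{u}) :=
        IsOpenImmersion.lift O.ι ((b' ⁻¹ᵁ U).ι ≫ t) (by
          rw [Scheme.Opens.range_ι]; rintro _ ⟨z, rfl⟩
          show (t ≫ b) z.1 ∈ U
          rw [htb]; exact z.2)
      have ho : o ≫ O.ι = (b' ⁻¹ᵁ U).ι ≫ t := IsOpenImmersion.lift_fac _ _ _
      let l : ((b' ⁻¹ᵁ U : Z'.Opens) : Scheme.{u}) ⟶
          pullback (O.ι ≫ pullback.snd a (D.map (u₁ ≫ ψ₁))) (D.map χ) :=
        pullback.lift o ((b' ⁻¹ᵁ U).ι ≫ pullback.snd _ _) (by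
          rw [reassoc_of% ho, Category.assoc, pullback.lift_snd])
      have := congrArg (l ≫ ·) hm
      simp only [l] at this
      erw [pullback.lift_fst_assoc, pullback.lift_fst_assoc, reassoc_of% ho, reassoc_of% ho] at this
      exact this
    have h3 := congrArg (pullback.lift π (f ≫ c.π.app m) (by rw [Category.assoc, c.w, hπ.w]) ≫ ·) key
    have h4 : pullback.lift π (f ≫ c.π.app m) (by rw [Category.assoc, c.w, hπ.w]) ≫ t = πk := by
      apply pullback.hom_ext <;> simp [πk, t] <;> exact congrArg (f ≫ ·) (c.w _)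
    simp only [reassoc_of% h4] at h3
    rwa [reassoc_of% ht₁, reassoc_of% ht₂, hG₁', hG₂'] at h3
  · intro g hg
    let T := (a ≫ ν) ⁻¹ᵁ U
    haveI : CompactSpace T := isCompact_iff_compactSpace.mp (TopologicalSpace.NoetherianSpace.isCompact _)
    have hT : IsPullback (π ∣_ T) ((π ⁻¹ᵁ T).ι ≫ f) (T.ι ≫ a) (c.π.app j) :=
      (isPullback_morphismRestrict π T).paste_vert hπ
    have hTW : π ⁻¹ᵁ T = (f₀ ≫ S.fromSpecStalk s) ⁻¹ᵁ U := by rw [← hπν]; rfl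
    let gW : ((π ⁻¹ᵁ T : W.Opens) : Scheme.{u}) ⟶ N := W.homOfLE hTW.le ≫ g
    obtain ⟨k, ψ, g', hg', hg''⟩ := exists_bc_hom hc hT n (T.ι ≫ a ≫ ν) gW (by
      rw [morphismRestrict_ι_assoc, hπν, Category.assoc, hg, Scheme.homOfLE_ι_assoc])
    let Z := pullback a (D.map ψ)
    let b : Z ⟶ S := pullback.fst _ _ ≫ a ≫ ν
    haveI : Smooth b := hsmooth ψ
    let o : ((b ⁻¹ᵁ U : Z.Opens) : Scheme.{u}) ⟶ (T : Scheme.{u}) := pullback.fst a (D.map ψ) ∣_ T
    have ho : o ≫ T.ι = (b ⁻¹ᵁ U).ι ≫ pullback.fst _ _ := morphismRestrict_ι _ _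
    let l : ((b ⁻¹ᵁ U : Z.Opens) : Scheme.{u}) ⟶ pullback (T.ι ≫ a) (D.map ψ) :=
      pullback.lift o ((b ⁻¹ᵁ U).ι ≫ pullback.snd _ _) (by
        rw [reassoc_of% ho, Category.assoc, pullback.condition])
    obtain ⟨G, hG, hGg⟩ := (hN Z b inferInstance).2 (l ≫ g') (by
      rw [Category.assoc, hg', pullback.lift_fst_assoc, reassoc_of% ho])
    let πk : W ⟶ Z := pullback.lift π (f ≫ c.π.app k) (by rw [Category.assoc, c.w, hπ.w])
    refine ⟨πk ≫ G, by rw [Category.assoc, hG, ← hπν, pullback.lift_fst_assoc], ?_⟩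
    haveI : IsIso (W.homOfLE hTW.le) := ⟨W.homOfLE hTW.ge, (cancel_mono (π ⁻¹ᵁ T).ι).1 (by simp),
      (cancel_mono ((f₀ ≫ S.fromSpecStalk s) ⁻¹ᵁ U).ι).1 (by simp)⟩
    rw [← cancel_epi (W.homOfLE hTW.le)]
    show _ = gW
    rw [← hg'', Scheme.homOfLE_ι_assoc]
    let oW : ((π ⁻¹ᵁ T : W.Opens) : Scheme.{u}) ⟶ ((b ⁻¹ᵁ U : Z.Opens) : Scheme.{u}) :=
      IsOpenImmersion.lift (b ⁻¹ᵁ U).ι ((π ⁻¹ᵁ T).ι ≫ πk) (by
        rw [Scheme.Opens.range_ι]; rintro _ ⟨w, rfl⟩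
        show (πk ≫ b) w.1 ∈ U
        rw [show πk ≫ b = π ≫ a ≫ ν from pullback.lift_fst_assoc _ _ _ _]
        exact w.2)
    have hoW : oW ≫ (b ⁻¹ᵁ U).ι = (π ⁻¹ᵁ T).ι ≫ πk := IsOpenImmersion.lift_fac _ _ _
    rw [← reassoc_of% hoW, hGg, ← Category.assoc]
    congr 1
    apply pullback.hom_ext
    · rw [Category.assoc, pullback.lift_fst, pullback.lift_fst, ← cancel_mono T.ι, Category.assoc, ho,
        reassoc_of% hoW, morphismRestrict_ι, pullback.lift_fst]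
    · rw [Category.assoc, pullback.lift_snd, pullback.lift_snd, reassoc_of% hoW, pullback.lift_snd]
      simp [f]

end Groth.Agent.H69.NeronLoc
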