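import Groth.Agent.H69.NilLocal
import Mathlib.CategoryTheory.Limits.Shapes.Pullback.IsPullback.Basic

/-! Gluing local lifts along a nilimmersion which is injective on stalks over the overlaps. -/

set_option autoImplicit false
set_option linter.style.haveILetI false
set_option backward.isDefEq.respectTransparency false
set_option backward.isDefEq.respectTransparency.types false
set_option maxHeartbeats 1000000
universe u

open CategoryTheory CategoryTheory.Limits AlgebraicGeometry Opposite TopologicalSpace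
open Groth.Agent.Lib Groth.Agent.Lib.Modules Groth.Agent.Lib.Modules.StalkModule
open Groth.Agent.Lib.DerivedOX.PullbackStalk
open Groth.Agent.H69.NilLocal

noncomputable section

namespace Groth.Agent.H69.NilGlue

section stalk
variable {V Y : Scheme.{u}} (j : Y ⟶ V) [IsOpenImmersion j] {M N : V.Modules}

theorem stalk_restrict_map (f : M ⟶ N) (p : Y) (w : (M.restrict j).presheaf.stalk p) :
    StalkRestrict.restrictStalkAddEquiv j N p (stalkMapₗ ((Scheme.Modules.restrictFunctor j).map f) p w) =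
      stalkMapₗ f (j p) (StalkRestrict.restrictStalkAddEquiv j M p w) := by
  obtain ⟨O, hO, m, rfl⟩ := (M.restrict j).presheaf.exists_germ_eq (x := p) w
  erw [stalkMapₗ_germ, StalkRestrict.restrictStalkAddEquiv_germ,
    StalkRestrict.restrictStalkAddEquiv_germ, stalkMapₗ_germ]
  rfl

theorem bijective_restrict_iff (f : M ⟶ N) (p : Y) :
    Function.Bijective (stalkMapₗ ((Scheme.Modules.restrictFunctor j).map f) p) ↔
      Function.Bijective (stalkMapₗ f (j p)) := by
  let a := StalkRestrict.restrictStalkAddEquiv j M p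
  let b := StalkRestrict.restrictStalkAddEquiv j N p
  have h : (b ∘ stalkMapₗ ((Scheme.Modules.restrictFunctor j).map f) p) = stalkMapₗ f (j p) ∘ a :=
    funext (stalk_restrict_map j f p)
  rw [← Function.Bijective.of_comp_iff' b.bijective, h, Function.Bijective.of_comp_iff _ a.bijective]

theorem bijective_unit (p : Y) :
    Function.Bijective (stalkMapₗ ((Scheme.Modules.restrictAdjunction j).unit.app M) (j p)) := by
  refine (bijective_restrict_iff j _ p).1 ?_
  haveI : IsIso ((Scheme.Modules.restrictFunctor j).map ((Scheme.Modules.restrictAdjunction j).unit.app M) ≫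
      (Scheme.Modules.restrictAdjunction j).counit.app ((Scheme.Modules.restrictFunctor j).obj M)) := by
    erw [(Scheme.Modules.restrictAdjunction j).left_triangle_components]
    infer_instance
  haveI : IsIso ((Scheme.Modules.restrictFunctor j).map ((Scheme.Modules.restrictAdjunction j).unit.app M)) :=
    IsIso.of_isIso_comp_right _
      ((Scheme.Modules.restrictAdjunction j).counit.app ((Scheme.Modules.restrictFunctor j).obj M))
  exact (isIso_iff_stalkMapₗ_bijective _).1 inferInstance p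

end stalk

theorem app_bijective {Y : Scheme.{u}} {F G : Y.Modules} (φ : F ⟶ G) (O : Y.Opens)
    (h : ∀ p ∈ O, Function.Bijective (stalkMapₗ φ p)) : Function.Bijective (φ.app O) :=
  TopCat.Presheaf.app_bijective_of_stalkFunctor_map_bijective
    (F := (⟨F.presheaf, F.isSheaf⟩ : TopCat.Sheaf Ab.{u} Y))
    (G := (⟨G.presheaf, G.isSheaf⟩ : TopCat.Sheaf Ab.{u} Y)) ⟨φ.mapPresheaf⟩ O fun p hp => h p hp

theorem bijective_stalk_push {V Y : Scheme.{u}} (j : Y ⟶ V) {F G : Y.Modules} (φ : F ⟶ G)
    (O : V.Opens) (h : ∀ p, j p ∈ O → Function.Bijective (stalkMapₗ φ p)) {x : V} (hx : x ∈ O) :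
    Function.Bijective (stalkMapₗ ((Scheme.Modules.pushforward j).map φ) x) := by
  let ψ := (Scheme.Modules.pushforward j).map φ
  have hb : ∀ O' : V.Opens, O' ≤ O → Function.Bijective (ψ.app O') := fun O' hO =>
    app_bijective φ (j ⁻¹ᵁ O') fun p hp => h p (hO hp)
  refine ⟨?_, fun v => ?_⟩
  · rw [injective_iff_map_eq_zero]
    intro a ha
    obtain ⟨O₁, hx₁, s, rfl⟩ := TopCat.Presheaf.exists_germ_eq _ a
    rw [stalkMapₗ_germ] at ha
    obtain ⟨O₂, hx₂, i₁, i₂, he⟩ := TopCat.Presheaf.germ_eq _ x hx₁ hx₁ (ψ.app O₁ s) 0 (ha.trans (map_zero _).symm)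
    let O₃ := O₂ ⊓ O
    let i : O₃ ⟶ O₁ := homOfLE (inf_le_left.trans i₁.le)
    have h0 : ψ.app O₃ (((Scheme.Modules.pushforward j).obj F).presheaf.map i.op s) = 0 := by
      refine (ConcreteCategory.congr_hom (ψ.mapPresheaf.naturality i.op) s).trans ?_
      have e := congrArg (((Scheme.Modules.pushforward j).obj G).presheaf.map
        (homOfLE (inf_le_left : O₃ ≤ O₂)).op) he
      rw [map_zero, map_zero, ← ConcreteCategory.comp_apply, ← Functor.map_comp] at e
      exact e
    rw [← TopCat.Presheaf.germ_res_apply _ i x ⟨hx₂, hx⟩ s,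
      (hb O₃ inf_le_right).1 (h0.trans (map_zero _).symm), map_zero]
  · obtain ⟨O₁, hx₁, s, rfl⟩ := TopCat.Presheaf.exists_germ_eq _ v
    let i : O₁ ⊓ O ⟶ O₁ := homOfLE inf_le_left
    obtain ⟨t, ht⟩ := (hb (O₁ ⊓ O) inf_le_right).2
      (((Scheme.Modules.pushforward j).obj G).presheaf.map i.op s)
    refine ⟨((Scheme.Modules.pushforward j).obj F).presheaf.germ (O₁ ⊓ O) x ⟨hx₁, hx⟩ t, ?_⟩
    rw [stalkMapₗ_germ]
    exact (congrArg _ ht).trans (TopCat.Presheaf.germ_res_apply _ i x _ s)

theorem bijective_pullback_fst {V : Scheme.{u}} {A B C : V.Modules} (a : A ⟶ C) (b : B ⟶ C) (x : V)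
    (hb : Function.Bijective (stalkMapₗ b x)) :
    Function.Bijective (stalkMapₗ (pullback.fst a b) x) := by
  have h := (IsPullback.of_hasPullback a b).map (stalkModFunctor V x)
  haveI : IsIso ((stalkModFunctor V x).map b) := (ConcreteCategory.isIso_iff_bijective _).2 hb
  haveI := h.isIso_fst_of_isIso
  exact ConcreteCategory.bijective_of_isIso ((stalkModFunctor V x).map (pullback.fst a b))

theorem bijective_pullback_snd {V : Scheme.{u}} {A B C : V.Modules} (a : A ⟶ C) (b : B ⟶ C) (x : V)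
    (ha : Function.Bijective (stalkMapₗ a x)) :
    Function.Bijective (stalkMapₗ (pullback.snd a b) x) := by
  have h := (IsPullback.of_hasPullback a b).map (stalkModFunctor V x)
  haveI : IsIso ((stalkModFunctor V x).map a) := (ConcreteCategory.isIso_iff_bijective _).2 ha
  haveI := h.isIso_snd_of_isIso
  exact ConcreteCategory.bijective_of_isIso ((stalkModFunctor V x).map (pullback.snd a b))

variable {V Z : Scheme.{u}} (g : Z ⟶ V)

/-- Sections killed on `Z`, in the stalk. -/
abbrev S (x : V) : Set (V.presheaf.stalk x) :=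
  {a | ∃ (O : V.Opens) (h : x ∈ O) (s : Γ(V, O)), g.app O s = 0 ∧ a = V.presheaf.germ O x h s}

theorem span_le_ker (z : Z) : Ideal.span (S g (g z)) ≤ RingHom.ker (g.stalkMap z).hom := by
  refine Ideal.span_le.2 ?_
  rintro _ ⟨O, h, s, hs, rfl⟩
  show g.stalkMap z (V.presheaf.germ O (g z) h s) = 0
  rw [Scheme.Hom.germ_stalkMap_apply, hs, map_zero]

theorem span_eq_bot {x : V} (h : ∃ z, g z = x ∧ Function.Injective (g.stalkMap z)) :
    Ideal.span (S g x) = ⊥ := by
  obtain ⟨z, rfl, hz⟩ := h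
  exact le_bot_iff.1 fun a ha => hz ((span_le_ker g z ha).trans (map_zero _).symm)

theorem goodAt_span {Y : Scheme.{u}} (j : Y ⟶ V) (p : Y) :
    Ideal.span {a : Y.presheaf.stalk p | ∃ (O : V.Opens) (h : j p ∈ O) (s : Γ(V, O)),
      g.app O s = 0 ∧ a = j.stalkMap p (V.presheaf.germ O (j p) h s)} =
      (Ideal.span (S g (j p))).map (j.stalkMap p).hom := by
  rw [Ideal.map_span]
  refine congrArg Ideal.span (Set.ext fun a => ⟨?_, ?_⟩)
  · rintro ⟨O, h, s, hs, rfl⟩; exact ⟨_, ⟨O, h, s, hs, rfl⟩, rfl⟩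
  · rintro ⟨_, ⟨O, h, s, hs, rfl⟩, rfl⟩; exact ⟨O, h, s, hs, rfl⟩

theorem bijective_of_goodAt {Y : Scheme.{u}} (j : Y ⟶ V) {F N : Y.Modules} {φ : F ⟶ N} {p : Y}
    (hφ : GoodAt g j φ p) (h : ∃ z, g z = j p ∧ Function.Injective (g.stalkMap z)) :
    Function.Bijective (stalkMapₗ φ p) := by
  refine ⟨(injective_iff_map_eq_zero _).2 fun e he => ?_, hφ.1⟩
  have := hφ.2 e he
  rw [goodAt_span g j p, span_eq_bot g h, Ideal.map_bot, Submodule.bot_smul] at this
  exact this

theorem good_of_goodAt {Y : Scheme.{u}} (j : Y ⟶ V) [IsOpenImmersion j] {E M : V.Modules} (q : E ⟶ M)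
    {F : Y.Modules} (φ : F ⟶ M.restrict j) (α : E.restrict j ≅ F)
    (hα : (Scheme.Modules.restrictFunctor j).map q = α.hom ≫ φ) (p : Y) (hφ : GoodAt g j φ p) :
    Good g q (j p) := by
  let a := StalkRestrict.restrictStalkAddEquiv j E p
  let b := StalkRestrict.restrictStalkAddEquiv j M p
  have hq : ∀ w, stalkMapₗ q (j p) (a w) = b (stalkMapₗ φ p (stalkLinearEquiv α p w)) := fun w => by
    refine (stalk_restrict_map j q p w).symm.trans ?_
    rw [hα, stalkMapₗ_comp]
    rfl
  refine ⟨fun v => ?_, fun e he => ?_⟩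
  · obtain ⟨w, hw⟩ := hφ.1 (b.symm v)
    refine ⟨a ((stalkLinearEquiv α p).symm w), ?_⟩
    rw [hq, LinearEquiv.apply_symm_apply, hw, AddEquiv.apply_symm_apply]
  · obtain ⟨w, rfl⟩ := a.surjective e
    rw [hq] at he
    have h := hφ.2 _ (b.injective (he.trans (map_zero b).symm))
    rw [goodAt_span g j p] at h
    have hw : w ∈ ((Ideal.span (S g (j p))).map (j.stalkMap p).hom) •
        (⊤ : Submodule (Y.presheaf.stalk p) ((E.restrict j).presheaf.stalk p)) := by
      have := Submodule.mem_map_of_mem (f := (stalkLinearEquiv α p).symm.toLinearMap) h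
      rw [Submodule.map_smul''] at this
      have h' := Submodule.smul_mono le_rfl le_top this
      rwa [LinearEquiv.coe_toLinearMap, LinearEquiv.symm_apply_apply] at h'
    refine Submodule.smul_induction_on hw (fun c hc y _ => ?_) (fun c d hc hd => ?_)
    · obtain ⟨c', hc', rfl⟩ := (Ideal.mem_map_iff_of_surjective _
        (ConcreteCategory.bijective_of_isIso (j.stalkMap p)).2).1 hc
      show StalkRestrict.restrictStalkAddEquiv j E p _ ∈ _
      rw [StalkRestrict.restrictStalkAddEquiv_smul]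
      exact Submodule.smul_mem_smul hc' trivial
    · show a (c + d) ∈ _
      rw [map_add]; exact add_mem hc hd

theorem transpose_eq {C D : Type*} [Category* C] [Category* D] {L : C ⥤ D} {R : D ⥤ C} (adj : L ⊣ R)
    {P E M : C} {F : D} (q : E ⟶ M) (φ : F ⟶ L.obj M) (f : P ⟶ E) (s : P ⟶ R.obj F)
    (h : f ≫ q ≫ adj.unit.app M = s ≫ R.map φ) : L.map (f ≫ q) = (L.map s ≫ adj.counit.app F) ≫ φ := by
  have h' := congrArg (fun t => L.map t ≫ adj.counit.app (L.obj M)) h
  simpa using h'

theorem step_self {Y : Scheme.{u}} (j : Y ⟶ V) [IsOpenImmersion j] {E M : V.Modules} (q : E ⟶ M)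
    {F : Y.Modules} (φ : F ⟶ M.restrict j) (hq : ∀ p, Function.Bijective (stalkMapₗ q (j p))) :
    ∃ α : (pullback (q ≫ (Scheme.Modules.restrictAdjunction j).unit.app M)
        ((Scheme.Modules.pushforward j).map φ)).restrict j ≅ F,
      (Scheme.Modules.restrictFunctor j).map (pullback.fst (q ≫ (Scheme.Modules.restrictAdjunction j).unit.app M)
        ((Scheme.Modules.pushforward j).map φ) ≫ q) = α.hom ≫ φ := by
  let R := Scheme.Modules.restrictFunctor j
  let adj := Scheme.Modules.restrictAdjunction j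
  let a := q ≫ adj.unit.app M
  let b := (Scheme.Modules.pushforward j).map φ
  haveI : IsIso (R.map (pullback.snd a b)) :=
    (isIso_iff_stalkMapₗ_bijective _).2 fun p => (bijective_restrict_iff j _ p).2
      (bijective_pullback_snd a b _ (by
        rw [stalkMapₗ_comp]
        exact (bijective_unit j p).comp (hq p)))
  exact ⟨asIso (R.map (pullback.snd a b)) ≪≫ asIso (adj.counit.app F),
    transpose_eq adj q φ _ _ pullback.condition⟩

theorem step_other {Y : Scheme.{u}} (j : Y ⟶ V) [IsOpenImmersion j] {P E M : V.Modules} (f : P ⟶ E) (q : E ⟶ M)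
    {F : Y.Modules} (φ : F ⟶ M.restrict j) (hf : ∀ p, Function.Bijective (stalkMapₗ f (j p)))
    (α : E.restrict j ≅ F) (hα : (Scheme.Modules.restrictFunctor j).map q = α.hom ≫ φ) :
    ∃ β : P.restrict j ≅ F, (Scheme.Modules.restrictFunctor j).map (f ≫ q) = β.hom ≫ φ := by
  haveI : IsIso ((Scheme.Modules.restrictFunctor j).map f) :=
    (isIso_iff_stalkMapₗ_bijective _).2 fun p => (bijective_restrict_iff j _ p).2 (hf p)
  refine ⟨asIso ((Scheme.Modules.restrictFunctor j).map f) ≪≫ α, ?_⟩
  rw [Functor.map_comp, hα, Iso.trans_hom, asIso_hom, Category.assoc]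

variable {κ : Type} {Y : κ → Scheme.{u}} (j : ∀ i, Y i ⟶ V) [∀ i, IsOpenImmersion (j i)] {M : V.Modules}
  (F : ∀ i, (Y i).Modules) (φ : ∀ i, F i ⟶ M.restrict (j i))

/-- Gluing local lifts. -/
theorem exists_glued (hφ : ∀ i p, GoodAt g (j i) (φ i) p)
    (hov : ∀ i k, i ≠ k → ∀ p p', j i p = j k p' → ∃ z, g z = j i p ∧ Function.Injective (g.stalkMap z))
    (s : Finset κ) :
    ∃ (E : V.Modules) (q : E ⟶ M),
      (∀ i ∈ s, ∃ α : E.restrict (j i) ≅ F i,
        (Scheme.Modules.restrictFunctor (j i)).map q = α.hom ≫ φ i) ∧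
      ∀ l ∉ s, ∀ p : Y l, Function.Bijective (stalkMapₗ q (j l p)) := by
  classical
  induction s using Finset.induction_on with
  | empty =>
    refine ⟨M, 𝟙 M, fun i hi => absurd hi (Finset.notMem_empty i), fun l _ p => ?_⟩
    rw [stalkMapₗ_id]
    exact Function.bijective_id
  | @insert k s hk IH =>
    obtain ⟨E, q, hE, hq⟩ := IH
    let R := Scheme.Modules.restrictFunctor (j k)
    let adj := Scheme.Modules.restrictAdjunction (j k)
    let a := q ≫ adj.unit.app M
    let b := (Scheme.Modules.pushforward (j k)).map (φ k)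
    have hb : ∀ l, l ≠ k → ∀ p : Y l, Function.Bijective (stalkMapₗ b (j l p)) := fun l hl p => by
      refine bijective_stalk_push (j k) (φ k) (j l).opensRange (fun p' hp' => ?_) ⟨p, rfl⟩
      obtain ⟨p₁, hp₁⟩ := hp'
      exact bijective_of_goodAt g (j k) (hφ k p') (hov k l (Ne.symm hl) p' p₁ hp₁.symm)
    refine ⟨pullback a b, pullback.fst a b ≫ q, fun i hi => ?_, fun l hl p => ?_⟩
    · rcases Finset.mem_insert.1 hi with rfl | hi
      · exact step_self (j i) q (φ i) (hq i hk)
      · obtain ⟨α, hα⟩ := hE i hi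
        exact step_other (j i) _ q (φ i) (fun p => bijective_pullback_fst a b _
          (hb i (fun h => hk (h ▸ hi)) p)) α hα
    · rw [Finset.mem_insert, not_or] at hl
      rw [stalkMapₗ_comp]
      exact (hq l hl.2 p).comp (bijective_pullback_fst a b _ (hb l hl.1 p))

/-- The pullback of a glued lift. -/
theorem isIso_transpose [IsClosedImmersion g] {E : V.Modules} {E' : Z.Modules}
    (q : E ⟶ (Scheme.Modules.pushforward g).obj E') (hq : ∀ z, Good g q (g z)) :
    IsIso (((Scheme.Modules.pullbackPushforwardAdjunction g).homEquiv E E').symm q) := by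
  let adj := Scheme.Modules.pullbackPushforwardAdjunction g
  let ψ := (adj.homEquiv E E').symm q
  have hψ : adj.unit.app E ≫ (Scheme.Modules.pushforward g).map ψ = q :=
    (adj.homEquiv_unit ..).symm.trans ((adj.homEquiv E E').apply_symm_apply q)
  rw [isIso_iff_stalkMapₗ_bijective]
  intro z
  let un : E.presheaf.stalk (g z) → ((Scheme.Modules.pullback g).obj E).presheaf.stalk z := fun e =>
    pushStalkMap g z _ (stalkMapₗ (adj.unit.app E) (g z) e)
  have hcomp : ∀ e, stalkMapₗ ψ z (un e) = pushStalkMap g z E' (stalkMapₗ q (g z) e) := fun e => by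
    rw [← hψ, stalkMapₗ_comp]
    exact (pushStalkMap_natural g z ψ _).symm
  have hpb := PushClosed.Unit.bijective_pushStalkMap g E' z
  haveI := PushClosed.Unit.epi_unit g E
  have hsurj : Function.Surjective un :=
    (PushClosed.Unit.bijective_pushStalkMap g _ z).2.comp
      ((epi_iff_stalkMapₗ_surjective _).1 inferInstance (g z))
  refine ⟨(injective_iff_map_eq_zero _).2 fun y hy => ?_, fun v => ?_⟩
  · obtain ⟨e, rfl⟩ := hsurj y
    rw [hcomp] at hy
    have he := (hq z).2 e (hpb.1 (hy.trans (map_zero _).symm))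
    refine Submodule.smul_induction_on (p := fun e => un e = 0) he (fun c hc m _ => ?_) (fun a b ha hb => ?_)
    · show pushStalkMap g z _ (stalkMapₗ (adj.unit.app E) (g z) (c • m)) = 0
      rw [map_smul, pushStalkMap_smul, RingHom.mem_ker.1 (span_le_ker g z hc), zero_smul]
    · show pushStalkMap g z _ (stalkMapₗ (adj.unit.app E) (g z) (a + b)) = 0
      rw [map_add, map_add]
      exact (congrArg₂ (· + ·) ha hb).trans (add_zero 0)
  · obtain ⟨v', rfl⟩ := hpb.2 v
    obtain ⟨e, rfl⟩ := (hq z).1 v'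
    exact ⟨un e, hcomp e⟩

theorem exists_lift [IsClosedImmersion g] [Surjective g] {κ : Type} [Fintype κ] (U : κ → V.Opens)
    (hU : ∀ i, IsAffineOpen (U i)) (hcov : ∀ x, ∃ i, x ∈ U i)
    (hov : ∀ i k, i ≠ k → ∀ z, g z ∈ U i → g z ∈ U k → Function.Injective (g.stalkMap z))
    (E' : Z.Modules) (hE' : FlatMod.IsFinLocFree E') :
    ∃ E : V.Modules, FlatMod.IsFinLocFree E ∧ Nonempty ((Scheme.Modules.pullback g).obj E ≅ E') := by
  choose F φ hF hφ using fun i => exists_local_lift g E' hE' (hU i)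
  let j := fun i => (hU i).fromSpec
  have hov' : ∀ i k, i ≠ k → ∀ p p', j i p = j k p' →
      ∃ z, g z = j i p ∧ Function.Injective (g.stalkMap z) := fun i k hik p p' h => by
    obtain ⟨z, hz⟩ := g.surjective (j i p)
    refine ⟨z, hz, hov i k hik z ?_ ?_⟩
    · rw [hz]; exact (hU i).opensRange_fromSpec.le ⟨p, rfl⟩
    · rw [hz, h]; exact (hU k).opensRange_fromSpec.le ⟨p', rfl⟩
  obtain ⟨E, q, hq, -⟩ := exists_glued g j F φ hφ hov' Finset.univ
  have hmem : ∀ x, ∃ i p, j i p = x := fun x => by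
    obtain ⟨i, hi⟩ := hcov x
    exact ⟨i, (hU i).opensRange_fromSpec.ge hi⟩
  refine ⟨E, Kaehler.LocFree.isFinLocFree_of_charts E fun x => ?_, ?_⟩
  · obtain ⟨i, p, rfl⟩ := hmem x
    obtain ⟨α, -⟩ := hq i (Finset.mem_univ i)
    obtain ⟨W, n, hp, ⟨e⟩⟩ := hF i p
    exact ⟨_, W.ι ≫ j i, inferInstance, n, ⟨⟨p, hp⟩, rfl⟩,
      ⟨(Scheme.Modules.restrictFunctorComp W.ι (j i)).app E ≪≫
        (Scheme.Modules.restrictFunctor W.ι).mapIso α ≪≫ e⟩⟩
  · have hgood : ∀ x, Good g q x := fun x => by
      obtain ⟨i, p, rfl⟩ := hmem x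
      obtain ⟨α, hα⟩ := hq i (Finset.mem_univ i)
      exact good_of_goodAt g (j i) q (φ i) α hα p (hφ i p)
    haveI := isIso_transpose g q fun z => hgood (g z)
    exact ⟨asIso (((Scheme.Modules.pullbackPushforwardAdjunction g).homEquiv E E').symm q)⟩

end Groth.Agent.H69.NilGlue
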