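import Groth.Agent.H22.Nil
import Groth.Agent.Lib.Modules.StalkRestrict
import Groth.Agent.Lib.Modules.AffineSections
import Groth.Agent.Lib.BettiExact.Converse
import Groth.Agent.Lib.QCoh.Pushforward
import Groth.Agent.Lib.SqZeroMod.Basic

/-! Lifting finite locally free modules along a nilimmersion over one affine chart. -/

set_option autoImplicit false
set_option linter.style.haveILetI false
set_option backward.isDefEq.respectTransparency false
set_option backward.isDefEq.respectTransparency.types false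
set_option maxHeartbeats 1000000
universe u

open CategoryTheory CategoryTheory.Limits AlgebraicGeometry Opposite TopologicalSpace
open Groth.Agent.Lib Groth.Agent.Lib.Modules Groth.Agent.Lib.Modules.StalkModule
open scoped TensorProduct

noncomputable section

namespace Groth.Agent.H69.NilLocal

/-- A presentation by a projective module with kernel `I • ⊤`. -/
theorem exists_cover {R : Type u} [CommRing R] {B : Type u} [CommRing B] (τ : R →+* B)
    (hτ : Function.Surjective τ) (hnil : ∀ a ∈ RingHom.ker τ, IsNilpotent a)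
    (G : Type u) [AddCommGroup G] [Module R G] [Module B G] (hsm : ∀ (r : R) (x : G), r • x = τ r • x)
    [Module.Finite B G] [Module.Projective B G] :
    ∃ (P : Type u) (_ : AddCommGroup P) (_ : Module R P), Module.Finite R P ∧ Module.Projective R P ∧
      ∃ π : P →ₗ[R] G, Function.Surjective π ∧
        LinearMap.ker π ≤ RingHom.ker τ • (⊤ : Submodule R P) := by
  let I := RingHom.ker τ
  let e : R ⧸ I ≃+* B := RingHom.quotientKerEquivOfSurjective hτ
  letI : Module (R ⧸ I) G := Module.compHom G e.toRingHom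
  haveI : IsScalarTower R (R ⧸ I) G := IsScalarTower.of_algebraMap_smul fun r x => (hsm r x).symm
  letI : Algebra B (R ⧸ I) := e.symm.toRingHom.toAlgebra
  haveI : IsScalarTower B (R ⧸ I) G := IsScalarTower.of_algebraMap_smul fun b x => by
    show e (e.symm b) • x = b • x
    rw [e.apply_symm_apply]
  haveI : Module.Finite (R ⧸ I) G := Module.Finite.of_restrictScalars_finite B (R ⧸ I) G
  haveI : RingHomInvPair (e : R ⧸ I →+* B) (e.symm : B →+* R ⧸ I) := RingHomInvPair.of_ringEquiv e
  haveI : RingHomInvPair (e.symm : B →+* R ⧸ I) (e : R ⧸ I →+* B) := RingHomInvPair.of_ringEquiv e.symm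
  haveI : Module.Projective (R ⧸ I) G :=
    Module.Projective.of_equiv (σ := (e.symm : B →+* R ⧸ I))
      ({ toFun := fun x => x, invFun := fun x => x, map_add' := fun _ _ => rfl,
         map_smul' := fun b x => by
           show b • x = e (e.symm b) • x
           rw [e.apply_symm_apply] } : G ≃ₛₗ[(e.symm : B →+* R ⧸ I)] G)
  obtain ⟨n, P, h1, h2, ⟨q⟩⟩ := Groth.Agent.H22.Nil.exists_finite_projective_lift hnil G
  refine ⟨P, inferInstance, inferInstance, h2, h1,
    (q.toLinearMap.restrictScalars R) ∘ₗ TensorProduct.mk R (R ⧸ I) P 1, ?_, ?_⟩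
  · exact q.surjective.comp (TensorProduct.mk_surjective R P (R ⧸ I) Ideal.Quotient.mk_surjective)
  · intro p hp
    have h0 : (1 : R ⧸ I) ⊗ₜ[R] p = 0 := q.injective (hp.trans (map_zero q).symm)
    have := congrArg (TensorProduct.quotTensorEquivQuotSMul P I) h0
    rw [map_zero, ← (Ideal.Quotient.mk I).map_one, TensorProduct.quotTensorEquivQuotSMul_mk_tmul,
      one_smul, Submodule.Quotient.mk_eq_zero] at this
    exact this

theorem tilde_map_stalk {R : CommRingCat.{u}} {P G : ModuleCat.{u} R} (π : P ⟶ G)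
    (hπ : Function.Surjective π) (I : Ideal R) (hker : LinearMap.ker π.hom ≤ I • ⊤)
    (p : PrimeSpectrum.Top R) :
    Function.Surjective (stalkMapₗ (tilde.map π) p) ∧
      ∀ e, stalkMapₗ (tilde.map π) p e = 0 →
        e ∈ Ideal.span ((fun a => (Spec R).presheaf.germ ⊤ p trivial ((Scheme.ΓSpecIso R).inv a)) '' (I : Set R)) •
          (⊤ : Submodule ((Spec R).presheaf.stalk p) ((tilde P).presheaf.stalk p)) := by
  let aP := (tilde.toStalk P p).hom
  let aG := (tilde.toStalk G p).hom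
  have hnat : ∀ m, stalkMapₗ (tilde.map π) p (aP m) = aG (π m) := by
    intro m
    refine (stalkMapₗ_germ (tilde.map π) (U := ⊤) trivial (tilde.toOpen P ⊤ m)).trans ?_
    exact congrArg ((tilde G).presheaf.germ (⊤ : (Spec R).Opens) p trivial).hom
      (ConcreteCategory.congr_hom (tilde.toOpen_map_app π ⊤) m :)
  have hu : ∀ r : p.asIdeal.primeCompl,
      IsUnit ((Spec R).presheaf.germ ⊤ p trivial ((Scheme.ΓSpecIso R).inv (r : R))) := fun r =>
    IsLocalization.map_units ((Spec.structureSheaf R).presheaf.stalk p) r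
  have hsmul : ∀ (M : ModuleCat.{u} R) (r : R) (w : (tilde M).presheaf.stalk p),
      r • w = (Spec R).presheaf.germ ⊤ p trivial ((Scheme.ΓSpecIso R).inv r) • w := fun M r w => rfl
  have hlin : ∀ (r : R) w, stalkMapₗ (tilde.map π) p (r • w) = r • stalkMapₗ (tilde.map π) p w :=
    fun r w => by rw [hsmul, map_smul, ← hsmul]
  refine ⟨fun y => ?_, fun e he => ?_⟩
  · obtain ⟨⟨m, s⟩, hs⟩ := IsLocalizedModule.surj p.asIdeal.primeCompl aG y
    obtain ⟨m', rfl⟩ := hπ m
    obtain ⟨w, hw⟩ := ((Module.End.isUnit_iff _).1 (IsLocalizedModule.map_units aP s)).2 (aP m')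
    refine ⟨w, ((Module.End.isUnit_iff _).1 (IsLocalizedModule.map_units aG s)).1 ?_⟩
    show (s : R) • stalkMapₗ (tilde.map π) p w = (s : R) • y
    rw [← hlin]
    exact ((congrArg _ (show (s : R) • w = aP m' from hw)).trans (hnat m')).trans hs.symm
  · obtain ⟨⟨m, s⟩, hs⟩ := IsLocalizedModule.surj p.asIdeal.primeCompl aP e
    have h1 : aG (π m) = 0 := by
      rw [← hnat, ← hs]
      show stalkMapₗ (tilde.map π) p ((s : R) • e) = 0
      rw [hlin, he, smul_zero]
    obtain ⟨t, ht⟩ := (IsLocalizedModule.eq_zero_iff p.asIdeal.primeCompl aG).1 h1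
    have hm : (t : R) • m ∈ I • (⊤ : Submodule R P) := hker (by
      rw [LinearMap.mem_ker, map_smul]; exact ht)
    have key : ∀ m' ∈ I • (⊤ : Submodule R P), aP m' ∈ Ideal.span ((fun a => (Spec R).presheaf.germ ⊤ p trivial ((Scheme.ΓSpecIso R).inv a)) '' (I : Set R)) •
        (⊤ : Submodule ((Spec R).presheaf.stalk p) ((tilde P).presheaf.stalk p)) := by
      intro m' hm'
      refine Submodule.smul_induction_on hm' (fun a ha y _ => ?_) (fun a b ha hb => ?_)
      · rw [map_smul, hsmul]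
        exact Submodule.smul_mem_smul (Ideal.subset_span ⟨a, ha, rfl⟩) trivial
      · rw [map_add]; exact add_mem ha hb
    refine (Submodule.smul_mem_iff_of_isUnit _ (hu (t * s))).1 ?_
    rw [← hsmul]
    have : ((t * s : p.asIdeal.primeCompl) : R) • e = aP ((t : R) • m) := by
      rw [map_smul, Submonoid.coe_mul, mul_smul]
      exact congrArg _ hs
    rw [this]
    exact key _ hm

/-- `q` is surjective at `x` and its kernel comes from sections killed on `Z`. -/
def Good {V Z : Scheme.{u}} (g : Z ⟶ V) {E M : V.Modules} (q : E ⟶ M) (x : V) : Prop :=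
  Function.Surjective (stalkMapₗ q x) ∧ ∀ e, stalkMapₗ q x e = 0 →
    e ∈ (Ideal.span {a : V.presheaf.stalk x | ∃ (O : V.Opens) (h : x ∈ O) (s : Γ(V, O)),
      g.app O s = 0 ∧ a = V.presheaf.germ O x h s}) • (⊤ : Submodule (V.presheaf.stalk x) (E.presheaf.stalk x))

/-- The same condition for a morphism into a restriction along an open immersion. -/
def GoodAt {V Z Y : Scheme.{u}} (g : Z ⟶ V) (j : Y ⟶ V) {F N : Y.Modules} (φ : F ⟶ N) (p : Y) : Prop :=
  Function.Surjective (stalkMapₗ φ p) ∧ ∀ e, stalkMapₗ φ p e = 0 →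
    e ∈ (Ideal.span {a : Y.presheaf.stalk p | ∃ (O : V.Opens) (h : j p ∈ O) (s : Γ(V, O)),
      g.app O s = 0 ∧ a = j.stalkMap p (V.presheaf.germ O (j p) h s)}) •
      (⊤ : Submodule (Y.presheaf.stalk p) (F.presheaf.stalk p))

theorem exists_local_lift {V Z : Scheme.{u}} (g : Z ⟶ V) [IsClosedImmersion g] [Surjective g]
    (E' : Z.Modules) (hE' : FlatMod.IsFinLocFree E') {U : V.Opens} (hU : IsAffineOpen U) :
    ∃ (F : (Spec Γ(V, U)).Modules)
      (φ : F ⟶ ((Scheme.Modules.pushforward g).obj E').restrict hU.fromSpec),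
      FlatMod.IsFinLocFree F ∧ ∀ p, GoodAt g hU.fromSpec φ p := by
  let R := Γ(V, U)
  let j := hU.fromSpec
  let U₀ := j ''ᵁ ⊤
  have hU₀ : IsAffineOpen U₀ := (isAffineOpen_top (Spec R)).image_of_isOpenImmersion j
  let N := ((Scheme.Modules.pushforward g).obj E').restrict j
  haveI : E'.IsQuasicoherent := AffineSections.isQCoh_of_isFinLocFree hE'
  haveI := QCoh.Pushforward.isQCoh_pushforward g (M := E')
  haveI : IsIso N.fromTildeΓ := inferInstance
  let ρ : Γ(Spec R, ⊤) →+* Γ(V, U₀) := (j.appIso ⊤).inv.hom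
  let τ : (R : Type u) →+* Γ(Z, g ⁻¹ᵁ U₀) :=
    (g.app U₀).hom.comp (ρ.comp (Scheme.ΓSpecIso R).inv.hom)
  have hρ : Function.Bijective (ρ.comp (Scheme.ΓSpecIso R).inv.hom) :=
    (ConcreteCategory.bijective_of_isIso (j.appIso ⊤).inv).comp
      (ConcreteCategory.bijective_of_isIso (Scheme.ΓSpecIso R).inv)
  have hτ : Function.Surjective τ := (g.app_surjective U₀ hU₀).comp hρ.2
  have hnil : ∀ a ∈ RingHom.ker τ, IsNilpotent a := by
    intro a ha
    let a' := ρ ((Scheme.ΓSpecIso R).inv a)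
    have h0 : g.app U₀ a' = 0 := ha
    have hb : V.basicOpen a' = ⊥ := by
      refine eq_bot_iff.2 fun x hx => ?_
      obtain ⟨z, rfl⟩ := g.surjective x
      have hz : z ∈ g ⁻¹ᵁ V.basicOpen a' := hx
      rw [Scheme.preimage_basicOpen, h0, Scheme.basicOpen_zero] at hz
      exact hz
    exact (IsNilpotent.map_iff hρ.1).1
      (Scheme.isNilpotent_iff_basicOpen_eq_bot_of_isCompact hU₀.isCompact a' |>.2 hb)
  let G : ModuleCat.{u} R := ModuleCat.of R Γ(N, ⊤)
  have hfp := AffineSections.finite_projective_sections hE' (hU₀.preimage g)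
  haveI : Module.Finite Γ(Z, g ⁻¹ᵁ U₀) Γ(E', g ⁻¹ᵁ U₀) := hfp.1
  haveI : Module.Projective Γ(Z, g ⁻¹ᵁ U₀) Γ(E', g ⁻¹ᵁ U₀) := hfp.2
  letI : Module (R : Type u) Γ(E', g ⁻¹ᵁ U₀) := Module.compHom _ τ
  have hsm : ∀ (r : R) (x : Γ(N, ⊤)),
      r • x = (show Γ(N, ⊤) from τ r • (show Γ(E', g ⁻¹ᵁ U₀) from x)) := by
    intro r x
    have h := Scheme.Modules.smul_Spec_def (M := N) (U := ⊤) r x
    have hid : (Spec R).presheaf.map (Opens.leTop (⊤ : (Spec R).Opens)).op = 𝟙 _ :=
      (Spec R).presheaf.map_id (op ⊤)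
    rw [hid] at h
    exact h
  obtain ⟨P, _, _, hPf, hPp, π₀, hπ₀, hker₀⟩ :=
    exists_cover τ hτ hnil Γ(E', g ⁻¹ᵁ U₀) (fun _ _ => rfl)
  let π : P →ₗ[(R : Type u)] Γ(N, ⊤) :=
    { toFun := fun x => π₀ x
      map_add' := map_add π₀
      map_smul' := fun r x => (map_smul π₀ r x).trans (hsm r (π₀ x)).symm }
  have hπ : Function.Surjective π := hπ₀
  have hker : LinearMap.ker π ≤ RingHom.ker τ • (⊤ : Submodule R P) := hker₀
  haveI : Module.FinitePresentation R (ModuleCat.of R P) := Module.finitePresentation_of_projective R P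
  haveI : Module.Flat R (ModuleCat.of R P) := inferInstanceAs (Module.Flat R P)
  let π' : ModuleCat.of R P ⟶ G := ModuleCat.ofHom π
  refine ⟨tilde (ModuleCat.of R P), tilde.map π' ≫ N.fromTildeΓ,
    BettiExact.Converse.isFinLocFree_tilde _, fun p => ?_⟩
  have hbi := (isIso_iff_stalkMapₗ_bijective N.fromTildeΓ).1 inferInstance p
  obtain ⟨h1, h2⟩ := tilde_map_stalk π' hπ (RingHom.ker τ) hker p
  refine ⟨?_, fun e he => ?_⟩
  · rw [stalkMapₗ_comp]
    exact hbi.2.comp h1
  rw [stalkMapₗ_comp, LinearMap.comp_apply] at he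
  refine Submodule.smul_mono (Ideal.span_mono ?_) le_rfl (h2 e (hbi.1 (he.trans (map_zero _).symm)))
  rintro _ ⟨a, ha, rfl⟩
  have hp : j p ∈ U₀ := ⟨p, trivial, rfl⟩
  refine ⟨U₀, hp, ρ ((Scheme.ΓSpecIso R).inv a), ha, ?_⟩
  rw [Scheme.Hom.germ_stalkMap_apply]
  show _ = (Spec R).presheaf.germ _ _ _ (j.app U₀ ((j.appIso ⊤).inv ((Scheme.ΓSpecIso R).inv a)))
  rw [← ConcreteCategory.comp_apply (j.appIso ⊤).inv, Scheme.Hom.appIso_inv_app]
  exact (TopCat.Presheaf.germ_res_apply _ _ _ _ _).symm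

end Groth.Agent.H69.NilLocal
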