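import Mathlib.RingTheory.DiscreteValuationRing.TFAE
import Mathlib.RingTheory.Localization.Integral
import Mathlib.RingTheory.Ideal.MinimalPrime.Noetherian
import Mathlib.RingTheory.KrullDimension.Basic
import Mathlib.RingTheory.KrullDimension.Field
import Mathlib.RingTheory.KrullDimension.Zero

/-!
# One dimensional local rings integrally closed in an algebra where nonzerodivisors are units
-/

set_option autoImplicit false
set_option linter.style.haveILetI false
universe u

namespace Groth.Agent.H69.NormDvr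

open IsLocalRing

variable {R B : Type u} [CommRing R] [IsLocalRing R] [CommRing B] [Algebra R B]

/-- The domain step. -/
theorem isDomain_of [IsNoetherianRing R] [IsReduced R]
    (hinj : Function.Injective (algebraMap R B))
    (hic : ∀ b : B, IsIntegral R b → b ∈ Set.range (algebraMap R B))
    (hm : maximalIdeal R ∉ minimalPrimes R) (hmin : ∀ P : Ideal R, P.IsPrime → P ≠ maximalIdeal R → P ∈ minimalPrimes R)
    (hu : ∀ t : R, (∀ P ∈ minimalPrimes R, t ∉ P) → IsUnit (algebraMap R B t)) : IsDomain R := by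
  classical
  obtain ⟨P, hP⟩ := (Ideal.nonempty_minimalPrimes (I := (⊥ : Ideal R)) (by simp))
  haveI := hP.1.1
  by_cases hone : ∀ Q ∈ minimalPrimes R, Q = P
  · have h0 : P = ⊥ := by
      refine eq_bot_iff.2 fun x hx => ?_
      have : x ∈ sInf (minimalPrimes R) := Submodule.mem_sInf.2 fun Q hQ => (hone Q hQ).symm ▸ hx
      rw [minimalPrimes_eq_minimals] at this
      have hn : x ∈ nilradical R := by
        rw [nilradical_eq_sInf]
        refine Submodule.mem_sInf.2 fun (Q : Ideal R) hQ => ?_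
        haveI : Q.IsPrime := hQ
        obtain ⟨Q', hQ', hle⟩ := Ideal.exists_minimalPrimes_le (I := (⊥ : Ideal R)) (J := Q) bot_le
        exact hle ((hone Q' hQ').symm ▸ hx)
      simpa [nilradical_eq_zero] using hn
    exact IsDomain.of_bot_isPrime (A := R) (hbp := h0 ▸ hP.1.1)
  push Not at hone
  obtain ⟨Q₀, hQ₀, hQ₀P⟩ := hone
  let T := (minimalPrimes.finite_of_isNoetherianRing R).toFinset.erase P
  have hT : ∀ Q, Q ∈ T ↔ Q ≠ P ∧ Q ∈ minimalPrimes R := fun Q => by simp [T]
  obtain ⟨a, haT, haP⟩ : ∃ a, a ∈ T.inf id ∧ a ∉ P := by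
    by_contra! h
    obtain ⟨Q, hQ, hle⟩ := (Ideal.IsPrime.inf_le' hP.1.1).1 (show T.inf id ≤ P from h)
    exact ((hT Q).1 hQ).1 (le_antisymm hle (hP.2 ⟨((hT Q).1 hQ).2.1.1, bot_le⟩ hle))
  obtain ⟨b, hbP, hb⟩ : ∃ b ∈ P, ∀ Q ∈ T, b ∉ Q := by
    by_contra! h
    have : (P : Set R) ⊆ ⋃ Q ∈ (T : Set (Ideal R)), (Q : Set R) := fun x hx => by
      obtain ⟨Q, hQ, hxQ⟩ := h x hx
      exact Set.mem_biUnion hQ hxQ
    obtain ⟨Q, hQ, hle⟩ := (Ideal.subset_union_prime (s := T) (f := id) ⊥ ⊥
      fun Q hQ _ _ => ((hT Q).1 hQ).2.1.1).1 this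
    exact ((hT Q).1 hQ).1 (le_antisymm (((hT Q).1 hQ).2.2 ⟨hP.1.1, bot_le⟩ hle) hle)
  have haQ : ∀ Q ∈ T, a ∈ Q := fun Q hQ => (Finset.inf_le (f := id) hQ) haT
  have hab : a * b = 0 := by
    have hn : a * b ∈ nilradical R := by
      rw [nilradical_eq_sInf]
      refine Submodule.mem_sInf.2 fun (J : Ideal R) hJ => ?_
      haveI : J.IsPrime := hJ
      obtain ⟨Q, hQ, hle⟩ := Ideal.exists_minimalPrimes_le (I := (⊥ : Ideal R)) (J := J) bot_le
      by_cases e : Q = P
      · exact hle (Q.mul_mem_left a (e.symm ▸ hbP : b ∈ Q))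
      · exact hle (Q.mul_mem_right b (haQ Q ((hT Q).2 ⟨e, hQ⟩)))
    simpa [nilradical_eq_zero] using hn
  have hsum : ∀ Q ∈ minimalPrimes R, a + b ∉ Q := fun Q hQ hmem => by
    by_cases e : Q = P
    · subst e
      exact haP ((Q.add_mem_iff_left hbP).1 hmem)
    · exact hb Q ((hT Q).2 ⟨e, hQ⟩) ((Q.add_mem_iff_right (haQ Q ((hT Q).2 ⟨e, hQ⟩))).1 hmem)
  obtain ⟨u, hu'⟩ := hu _ hsum
  let e : B := algebraMap R B a * ↑u⁻¹
  have hab' : algebraMap R B a * algebraMap R B b = 0 := by rw [← map_mul, hab, map_zero]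
  have h1 : algebraMap R B a * (algebraMap R B a + algebraMap R B b) = algebraMap R B a * algebraMap R B a := by
    rw [mul_add, hab', add_zero]
  have he : e * e = e := by
    have : (u : B) = algebraMap R B a + algebraMap R B b := by rw [hu', map_add]
    calc e * e = (algebraMap R B a * algebraMap R B a) * (↑u⁻¹ * ↑u⁻¹) := by simp only [e]; ring
      _ = (algebraMap R B a * (u : B)) * (↑u⁻¹ * ↑u⁻¹) := by rw [this, h1]
      _ = e * ((u : B) * ↑u⁻¹) := by simp only [e]; ring
      _ = e := by simp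
  obtain ⟨r, hr⟩ := hic e ⟨Polynomial.X ^ 2 - Polynomial.X, Polynomial.monic_X_pow_sub (by simp), by
    simp [pow_two, he]⟩
  have hr' : r * r = r := hinj (by rw [map_mul, hr, he])
  have hsplit : a = r * (a + b) := hinj (by rw [map_mul, hr, ← hu']; simp [e, mul_assoc])
  rcases IsLocalRing.isUnit_or_isUnit_one_sub_self r with h | h
  · have : r = 1 := h.mul_eq_left.1 hr'
    rw [this, one_mul, left_eq_add] at hsplit
    exact absurd (hsplit ▸ Q₀.zero_mem : b ∈ Q₀) (hb Q₀ ((hT Q₀).2 ⟨hQ₀P, hQ₀⟩))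
  · have : r = 0 := by
      have h2 : (1 - r) * r = 0 := by rw [sub_mul, one_mul, hr', sub_self]
      exact (h.mul_right_eq_zero).1 h2
    rw [this, zero_mul] at hsplit
    exact absurd (hsplit ▸ P.zero_mem) haP

/-- The criterion. -/
theorem isDVR_of [IsNoetherianRing R] [IsReduced R]
    (hinj : Function.Injective (algebraMap R B))
    (hic : ∀ b : B, IsIntegral R b → b ∈ Set.range (algebraMap R B))
    (hd : ringKrullDim R = 1)
    (hu : ∀ t : R, (∀ P : Ideal R, P.IsPrime → P ≠ maximalIdeal R → t ∉ P) →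
      IsUnit (algebraMap R B t)) :
    ∃ _ : IsDomain R, IsDiscreteValuationRing R := by
  haveI : Ring.KrullDimLE 1 R := Ring.krullDimLE_iff.2 hd.le
  have hm : maximalIdeal R ∉ minimalPrimes R := fun h => by
    have h0 : Ring.KrullDimLE 0 R := Ring.krullDimLE_zero_iff.2 fun P hP => by
      haveI := hP
      have h' := le_maximalIdeal hP.ne_top
      rw [le_antisymm h' (h.2 ⟨hP, bot_le⟩ h')]
      infer_instance
    have := Ring.krullDimLE_iff.1 h0
    rw [hd] at this
    norm_num at this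
  have hmin : ∀ P : Ideal R, P.IsPrime → P ≠ maximalIdeal R → P ∈ minimalPrimes R := fun P hP hne =>
    (Ring.krullDimLE_one_iff.1 inferInstance P hP).resolve_right fun h => hne (eq_maximalIdeal h)
  haveI hdom := isDomain_of hinj hic hm hmin fun t ht =>
    hu t fun P hP hne => ht P (hmin P hP hne)
  refine ⟨hdom, ?_⟩
  have hu0 : ∀ x : R, x ≠ 0 → IsUnit (algebraMap R B x) := fun x hx => hu x fun P hP hne hxP => by
    have hle : (⊥ : Ideal R) ≤ P := bot_le
    have := (hmin P hP hne).2 ⟨Ideal.isPrime_bot, le_refl _⟩ hle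
    exact hx (by simpa using this hxP)
  let K := FractionRing R
  let φ : K →+* B := IsLocalization.lift (M := nonZeroDivisors R) fun x => hu0 x (nonZeroDivisors.coe_ne_zero x)
  have hφ : φ.comp (algebraMap R K) = algebraMap R B := IsLocalization.lift_comp _
  haveI : IsIntegrallyClosed R := (isIntegrallyClosed_iff K).2 fun {x} hx => by
    obtain ⟨p, hp, hpx⟩ := hx
    obtain ⟨r, hr⟩ := hic (φ x) ⟨p, hp, by
      rw [← hφ, ← Polynomial.hom_eval₂, hpx, map_zero]⟩
    haveI : Nontrivial B := hinj.nontrivial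
    refine ⟨r, φ.injective ?_⟩
    rw [← hr]
    exact RingHom.congr_fun hφ r
  have hnf : ¬ IsField R := fun hF => by
    rw [ringKrullDim_eq_zero_of_isField hF] at hd
    exact absurd hd (by norm_num)
  have t := (IsDiscreteValuationRing.TFAE R hnf).out 0 3
  refine t.2 ⟨inferInstance, maximalIdeal R,
    ⟨fun h => hnf (isField_iff_maximalIdeal_eq.2 h), inferInstance⟩, fun P ⟨hP0, hP⟩ => ?_⟩
  exact eq_maximalIdeal (Ring.krullDimLE_one_iff_of_noZeroDivisors.1 inferInstance P hP0 hP)

end Groth.Agent.H69.NormDvr
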