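import Mathlib.RingTheory.Localization.Integral
import Mathlib.RingTheory.Polynomial.ScaleRoots

/-!
# Being integrally closed in an algebra passes to localizations
-/

set_option autoImplicit false
set_option linter.style.haveILetI false
universe u

namespace Groth.Agent.H69.NormLoc

variable {A G R B : Type u} [CommRing A] [CommRing G] [CommRing R] [CommRing B]
  [Algebra A G] [Algebra A R] [Algebra G B] [Algebra R B] [Algebra A B]
  [IsScalarTower A G B] [IsScalarTower A R B] (M : Submonoid A) [IsLocalization M R]
  [IsLocalization (Algebra.algebraMapSubmonoid G M) B]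

include M in
theorem algebraMap_injective (h : Function.Injective (algebraMap A G)) :
    Function.Injective (algebraMap R B) := by
  haveI : IsLocalization (Submonoid.map (algebraMap A G) M) B :=
    inferInstanceAs (IsLocalization (Algebra.algebraMapSubmonoid G M) B)
  have e : algebraMap R B = IsLocalization.map B (algebraMap A G) M.le_comap_map := by
    refine IsLocalization.ringHom_ext M ?_
    rw [IsLocalization.map_comp, ← IsScalarTower.algebraMap_eq, ← IsScalarTower.algebraMap_eq]
  rw [e]
  exact IsLocalization.map_injective_of_injective M R B h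

include M in
theorem mem_range_of_isIntegral (hic : ∀ y : G, IsIntegral A y → y ∈ Set.range (algebraMap A G))
    (b : B) (hb : IsIntegral R b) : b ∈ Set.range (algebraMap R B) := by
  obtain ⟨⟨y, ⟨_, s, hs, rfl⟩⟩, hy⟩ := IsLocalization.surj (Algebra.algebraMapSubmonoid G M) b
  obtain ⟨⟨m, hm⟩, hmb⟩ := hb.exists_multiple_integral_of_isLocalization M
  obtain ⟨p, hp, hpz⟩ : IsIntegral A (algebraMap G B (algebraMap A G m * y)) := by
    have := (hmb.smul s)
    convert this using 1
    rw [Submonoid.smul_def, map_mul, ← IsScalarTower.algebraMap_apply, ← hy]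
    show _ = s • (m • b)
    rw [Algebra.smul_def, Algebra.smul_def, ← IsScalarTower.algebraMap_apply]
    ring
  obtain ⟨⟨_, k, hk, rfl⟩, hk'⟩ := (IsLocalization.map_eq_zero_iff (Algebra.algebraMapSubmonoid G M) B
    (Polynomial.eval₂ (algebraMap A G) (algebraMap A G m * y) p)).1 (by
      rw [Polynomial.hom_eval₂, ← IsScalarTower.algebraMap_eq]; exact hpz)
  obtain ⟨a, ha⟩ := hic (algebraMap A G k * (algebraMap A G m * y)) (by
    by_cases hn : p.natDegree = 0
    · rw [Polynomial.eq_one_of_monic_natDegree_zero hp hn, Polynomial.eval₂_one, mul_one] at hk'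
      rw [show algebraMap A G k = 0 from hk', zero_mul]
      exact isIntegral_zero
    · refine ⟨p.scaleRoots k, (Polynomial.monic_scaleRoots_iff k).2 hp, ?_⟩
      obtain ⟨d, hd⟩ := Nat.exists_eq_succ_of_ne_zero hn
      rw [Polynomial.scaleRoots_eval₂_mul, hd, pow_succ, mul_assoc, hk', mul_zero])
  obtain ⟨ι, hι⟩ := (IsLocalization.map_units R (⟨k * m * s, M.mul_mem (M.mul_mem hk hm) hs⟩ : M))
  refine ⟨algebraMap A R a * ↑ι⁻¹, ?_⟩
  have hunit : IsUnit (algebraMap A B (k * m * s)) := by
    rw [IsScalarTower.algebraMap_apply A R B, show algebraMap A R (k * m * s) = ι from hι.symm]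
    exact ι.isUnit.map _
  have ha' := congrArg (algebraMap G B) ha
  rw [map_mul, map_mul, ← IsScalarTower.algebraMap_apply, ← IsScalarTower.algebraMap_apply,
    ← IsScalarTower.algebraMap_apply, ← hy, ← IsScalarTower.algebraMap_apply] at ha'
  have h1 : algebraMap R B (↑ι⁻¹) * algebraMap A B (k * m * s) = 1 := by
    rw [IsScalarTower.algebraMap_apply A R B, show algebraMap A R (k * m * s) = ι from hι.symm,
      ← map_mul, Units.inv_mul, map_one]
  refine hunit.mul_right_cancel ?_
  rw [map_mul, mul_assoc, h1, mul_one, ← IsScalarTower.algebraMap_apply, ha', map_mul, map_mul]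
  ring

end Groth.Agent.H69.NormLoc
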