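import Groth.Prelude.Def_Pi1
import Mathlib.AlgebraicGeometry.Normalization
import Mathlib.AlgebraicGeometry.Properties
import Mathlib.AlgebraicGeometry.Stalk
import Mathlib.RingTheory.Polynomial.ScaleRoots
import Mathlib.RingTheory.IntegralClosure.IntegrallyClosed

/-!
# The normalization in a normal scheme is normal
-/

set_option autoImplicit false
set_option linter.style.haveILetI false
set_option linter.unusedVariables false
set_option backward.isDefEq.respectTransparency false
set_option backward.isDefEq.respectTransparency.types false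

universe u

open CategoryTheory AlgebraicGeometry TopologicalSpace Polynomial

namespace Groth.Agent.H69.NormalizationNormal

/-- A ring inside a finite product of fields, containing the idempotents and closed under integral
quotients, is normal; each prime contains exactly one of the kernels. -/
theorem normal_of_data {B : Type u} [CommRing B] {T : Type u} [Finite T] (K : T → Type u) [∀ x, Field (K x)]
    (ev : ∀ x, B →+* K x) (hinj : ∀ r, (∀ x, ev x r = 0) → r = 0) (e : T → B)
    (he : ∀ x, ev x (e x) = 1) (he' : ∀ x y, y ≠ x → ev y (e x) = 0)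
    (hcl : ∀ a b : B, (∀ x, ev x b ≠ 0) → ∀ p : B[X], p.Monic →
      (∀ x, p.eval₂ (ev x) (ev x a / ev x b) = 0) → ∃ c, c * b = a)
    (P : Ideal B) [P.IsPrime] :
    (IsDomain (Localization.AtPrime P) ∧ IsIntegrallyClosed (Localization.AtPrime P)) ∧
      ∃! x, RingHom.ker (ev x) ≤ P := by
  classical
  haveI := Fintype.ofFinite T
  haveI : Nontrivial B := ⟨⟨0, 1, fun h => by
    rcases isEmpty_or_nonempty T with hT | ⟨⟨x⟩⟩
    · exact Ideal.IsPrime.ne_top ‹_› ((Ideal.eq_top_iff_one P).2 (h ▸ P.zero_mem))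
    · exact zero_ne_one (by rw [← map_zero (ev x), h, map_one])⟩⟩
  obtain ⟨x, hx⟩ : ∃ x, e x ∉ P := by
    by_contra h
    push Not at h
    have h1 : (∑ x, e x) - 1 = 0 := hinj _ fun y => by
      rw [map_sub, map_sum, map_one, Finset.sum_eq_single y (fun b _ hb => he' b y hb.symm) (by simp), he, sub_self]
    exact Ideal.IsPrime.ne_top ‹_› ((Ideal.eq_top_iff_one P).2 (sub_eq_zero.1 h1 ▸ P.sum_mem fun x _ => h x))
  have hmul : ∀ r, ev x r = 0 → e x * r = 0 := fun r hr => hinj _ fun y => by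
    rw [map_mul]
    rcases eq_or_ne y x with rfl | hy
    · rw [hr, mul_zero]
    · rw [he' x y hy, zero_mul]
  have hker : RingHom.ker (ev x) ≤ P := fun r hr =>
    ((Ideal.IsPrime.mem_or_mem ‹_› (show e x * r ∈ P by rw [hmul r hr]; exact P.zero_mem))).resolve_left hx
  have huniq : ∃! y, RingHom.ker (ev y) ≤ P := ⟨x, hker, fun y hy => by
    by_contra hne
    exact hx (hy (show ev y (e x) = 0 from he' x y hne))⟩
  have hs : ∀ s ∉ P, ev x s ≠ 0 := fun s hs h => hs (hker h)
  let φ : Localization.AtPrime P →+* K x := IsLocalization.lift (M := P.primeCompl) (g := ev x)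
    (fun s => isUnit_iff_ne_zero.2 (hs s.1 s.2))
  have hφe : ∀ r, φ (algebraMap B _ r) = ev x r := fun r => IsLocalization.lift_eq _ r
  have hφ : Function.Injective φ := (injective_iff_map_eq_zero φ).2 fun z hz => by
    obtain ⟨r, s, rfl⟩ := IsLocalization.exists_mk'_eq P.primeCompl z
    rw [IsLocalization.lift_mk'_spec, mul_zero] at hz
    exact (IsLocalization.mk'_eq_zero_iff _ _).2 ⟨⟨e x, hx⟩, hmul r hz⟩
  haveI hdom : IsDomain (Localization.AtPrime P) := hφ.isDomain φ
  refine ⟨⟨hdom, (isIntegrallyClosed_iff (FractionRing (Localization.AtPrime P))).2 fun {z} hz => ?_⟩, huniq⟩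
  obtain ⟨α, β, hβ, rfl⟩ := IsFractionRing.div_surjective (A := Localization.AtPrime P) z
  obtain ⟨a, s, rfl⟩ := IsLocalization.exists_mk'_eq P.primeCompl α
  obtain ⟨b, t, rfl⟩ := IsLocalization.exists_mk'_eq P.primeCompl β
  let ψ : FractionRing (Localization.AtPrime P) →+* K x := IsFractionRing.lift hφ
  have hψ : ∀ r, ψ (algebraMap _ _ r) = φ r := fun r => IsFractionRing.lift_algebraMap hφ r
  -- the element in the field of `x`
  have hb : ev x b ≠ 0 := fun h0 => nonZeroDivisors.ne_zero hβ (hφ (by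
    rw [map_zero, IsLocalization.lift_mk'_spec, mul_zero, h0]))
  have hst : ev x s.1 ≠ 0 ∧ ev x t.1 ≠ 0 := ⟨hs _ s.2, hs _ t.2⟩
  set w : K x := ev x (a * t.1) / ev x (b * s.1) with hw
  have hz' : ψ (algebraMap _ _ (IsLocalization.mk' (Localization.AtPrime P) a s) /
      algebraMap _ _ (IsLocalization.mk' (Localization.AtPrime P) b t)) = w := by
    rw [map_div₀, hψ, hψ]
    have e1 : φ (IsLocalization.mk' (Localization.AtPrime P) a s) = ev x a / ev x s.1 := by
      rw [eq_div_iff hst.1, mul_comm]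
      exact ((IsLocalization.lift_mk'_spec _ _ _ _).1 rfl).symm
    have e2 : φ (IsLocalization.mk' (Localization.AtPrime P) b t) = ev x b / ev x t.1 := by
      rw [eq_div_iff hst.2, mul_comm]
      exact ((IsLocalization.lift_mk'_spec _ _ _ _).1 rfl).symm
    rw [e1, e2, hw, map_mul, map_mul, div_div_div_eq, mul_comm (ev x s.1)]
  -- integral over `B` after multiplying by an element outside `P`
  letI : Algebra B (K x) := (ev x).toAlgebra
  letI : Algebra (Localization.AtPrime P) (K x) := φ.toAlgebra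
  haveI : IsScalarTower B (Localization.AtPrime P) (K x) := .of_algebraMap_eq fun r => (hφe r).symm
  have hwint : IsIntegral (Localization.AtPrime P) w := by
    rw [← hz']
    obtain ⟨q, hq, hq0⟩ := hz
    refine ⟨q, hq, ?_⟩
    rw [show algebraMap (Localization.AtPrime P) (K x) = ψ.comp (algebraMap _ _) from RingHom.ext fun r => (hψ r).symm,
      ← Polynomial.hom_eval₂, hq0, map_zero]
  obtain ⟨m, hm⟩ := IsIntegral.exists_multiple_integral_of_isLocalization P.primeCompl w hwint
  obtain ⟨p, hp, hp0⟩ := hm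
  have hp1 : p.eval₂ (ev x) (ev x (m.1 * (a * t.1)) / ev x (b * s.1)) = 0 := by
    rw [map_mul, mul_div_assoc]
    have : ev x m.1 * w = m • w := (Algebra.smul_def m.1 w).symm
    rw [← hw, this]
    exact hp0
  -- make it global
  let a' := e x * (m.1 * (a * t.1))
  let b' := e x * (b * s.1) + (1 - e x)
  let p' : B[X] := X ^ p.natDegree + C (e x) * (p - X ^ p.natDegree)
  have hb' : ∀ y, ev y b' ≠ 0 := fun y => by
    rcases eq_or_ne y x with rfl | hy
    · simp only [b', map_add, map_mul, map_sub, map_one, he, one_mul, sub_self, add_zero]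
      exact mul_ne_zero hb hst.1
    · simp only [b', map_add, map_mul, map_sub, map_one, he' x y hy, zero_mul, sub_zero, zero_add]
      exact one_ne_zero
  have hpn : p.natDegree ≠ 0 := fun h0 => by
    rw [Polynomial.eq_one_of_monic_natDegree_zero hp h0, eval₂_one] at hp1
    exact one_ne_zero hp1
  have hp' : p'.Monic := by
    refine (monic_X_pow _).add_of_left ?_
    rw [degree_X_pow]
    refine (degree_mul_le _ _).trans_lt ?_
    refine lt_of_le_of_lt (add_le_add degree_C_le le_rfl) ?_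
    rw [zero_add, ← degree_eq_natDegree hp.ne_zero]
    exact degree_sub_lt (by rw [degree_X_pow, degree_eq_natDegree hp.ne_zero]) hp.ne_zero
      (by rw [hp, monic_X_pow])
  obtain ⟨c, hc⟩ := hcl a' b' hb' p' hp' fun y => by
    rcases eq_or_ne y x with rfl | hy
    · simp only [p', a', b', eval₂_add, eval₂_mul, eval₂_sub, eval₂_C, eval₂_X_pow, map_add, map_mul,
        map_sub, map_one, he, one_mul, sub_self, add_zero, add_sub_cancel]
      simpa only [map_mul] using hp1
    · simp [p', a', b', he' x y hy, zero_pow hpn]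
  -- conclude
  refine ⟨IsLocalization.mk' _ c m, ?_⟩
  apply (RingHom.injective ψ)
  rw [hz', hψ, hw, eq_div_iff (by rw [map_mul]; exact mul_ne_zero hb hst.1)]
  have hms : ev x m.1 ≠ 0 := hs _ m.2
  have e3 : φ (IsLocalization.mk' (Localization.AtPrime P) c m) = ev x c / ev x m.1 := by
    rw [eq_div_iff hms, mul_comm]
    exact ((IsLocalization.lift_mk'_spec _ _ _ _).1 rfl).symm
  have hc' := congrArg (ev x) hc
  simp only [a', b', map_add, map_mul, map_sub, map_one, he, one_mul, sub_self, add_zero] at hc'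
  rw [e3, div_mul_eq_mul_div, div_eq_iff hms, map_mul, map_mul, hc']
  ring

variable {Y : Scheme.{u}}

theorem closure_mem_irreducibleComponents_iff {X : Type*} [TopologicalSpace X] [QuasiSober X] [T0Space X] (x : X) :
    closure {x} ∈ irreducibleComponents X ↔ ∀ y, y ⤳ x → y = x := by
  constructor
  · intro h y hy
    have h1 : closure ({x} : Set X) ⊆ closure {y} := (specializes_iff_closure_subset.1 hy)
    exact (inseparable_iff_closure_eq.2 (le_antisymm (h.2 isIrreducible_singleton.closure h1) h1)).eq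
  · intro h
    refine ⟨isIrreducible_singleton.closure, fun Z hZ hle => ?_⟩
    obtain ⟨y, hy⟩ := QuasiSober.sober hZ.closure isClosed_closure
    have hyx : y ⤳ x := specializes_iff_mem_closure.2 (hy.def.symm ▸ subset_closure (hle (subset_closure rfl)))
    rw [h y hyx] at hy
    exact fun z hz => hy.def.symm ▸ subset_closure hz

/-- On a scheme whose local rings are domains, a point lies on one component. -/
theorem generic_unique (hY : Pi1.IsNormalScheme Y) {x x' w : Y} (hx : closure {x} ∈ irreducibleComponents ↥Y)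
    (hx' : closure {x'} ∈ irreducibleComponents ↥Y) (h : x ⤳ w) (h' : x' ⤳ w) : x = x' := by
  haveI := (hY w).1
  let g : Y := Y.fromSpecStalk w (⟨⊥, Ideal.isPrime_bot⟩ : PrimeSpectrum (Y.presheaf.stalk w))
  have hg : ∀ v : Y, v ⤳ w → g ⤳ v := fun v hv => by
    obtain ⟨q, rfl⟩ : v ∈ Set.range (Y.fromSpecStalk w) := by rw [Scheme.range_fromSpecStalk]; exact hv
    exact ((PrimeSpectrum.le_iff_specializes ⟨⊥, Ideal.isPrime_bot⟩ q).1 bot_le).map (Y.fromSpecStalk w).continuous
  rw [← (closure_mem_irreducibleComponents_iff x).1 hx g (hg x h),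
    (closure_mem_irreducibleComponents_iff x').1 hx' g (hg x' h')]

/-- The generic points in an open. -/
abbrev Gen (W : Y.Opens) : Type u := {x : Y // x ∈ W ∧ closure {x} ∈ irreducibleComponents ↥Y}

theorem finite_gen (hfin : LocallyFinite (fun Z : ↥(irreducibleComponents ↥Y) => (Z : Set ↥Y)))
    {W : Y.Opens} (hW : IsCompact (W : Set Y)) : Finite (Gen W) := by
  haveI := (hfin.finite_nonempty_inter_compact hW).to_subtype
  refine Finite.of_injective (β := {Z : ↥(irreducibleComponents ↥Y) | ((Z : Set ↥Y) ∩ (W : Set Y)).Nonempty})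
    (fun x => ⟨⟨closure {x.1}, x.2.2⟩, x.1, subset_closure rfl, x.2.1⟩) fun x y h => ?_
  have h' : closure ({x.1} : Set Y) = closure {y.1} := congrArg (fun Z => (Z.1 : Set Y)) h
  exact Subtype.ext (inseparable_iff_closure_eq.2 h').eq

theorem exists_gen {W : Y.Opens} {w : Y} (hw : w ∈ W) : ∃ x : Gen W, x.1 ⤳ w := by
  obtain ⟨Z, hZ, hwZ⟩ : ∃ Z ∈ irreducibleComponents ↥Y, w ∈ Z :=
    ⟨irreducibleComponent w, irreducibleComponent_mem_irreducibleComponents w, mem_irreducibleComponent⟩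
  obtain ⟨x, hx⟩ := QuasiSober.sober hZ.1 (isClosed_of_mem_irreducibleComponents Z hZ)
  have hxw : x ⤳ w := specializes_iff_mem_closure.2 (hx.def.symm ▸ hwZ)
  exact ⟨⟨x, hxw.mem_open W.isOpen hw, hx.def.symm ▸ hZ⟩, hxw⟩

theorem ev_germ_eq_zero {W : Y.Opens} {w : Y} (hw : w ∈ W) (x : Gen W) (hxw : x.1 ⤳ w) (s : Γ(Y, W))
    (h : Y.presheaf.germ W w hw s = 0) : Y.evaluation W x.1 x.2.1 s = 0 := by
  have e : Y.presheaf.germ W x.1 x.2.1 = Y.presheaf.germ W w hw ≫ Y.presheaf.stalkSpecializes hxw :=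
    (TopCat.Presheaf.germ_stalkSpecializes _ hw hxw).symm
  show Y.residue x.1 (Y.presheaf.germ W x.1 x.2.1 s) = 0
  rw [e, CommRingCat.comp_apply, h, map_zero, map_zero]

theorem eq_zero_of_ev [IsReduced Y] {W : Y.Opens} (s : Γ(Y, W))
    (hs : ∀ x : Gen W, Y.evaluation W x.1 x.2.1 s = 0) : s = 0 := by
  refine eq_zero_of_basicOpen_eq_bot s (Opens.ext (Set.eq_empty_iff_forall_notMem.2 fun z hz => ?_))
  obtain ⟨x, hxz⟩ := exists_gen (Y.basicOpen_le s hz)
  exact (Scheme.evaluation_eq_zero_iff_notMem_basicOpen _ x.1 x.2.1 s).1 (hs x)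
    (hxz.mem_open (Y.basicOpen s).isOpen hz)

theorem exists_idempotent (hY : Pi1.IsNormalScheme Y) {W : Y.Opens} [Finite (Gen W)] (x : Gen W) :
    ∃ e : Γ(Y, W), Y.evaluation W x.1 x.2.1 e = 1 ∧ ∀ y : Gen W, y ≠ x → Y.evaluation W y.1 y.2.1 e = 0 := by
  let C : Bool → Set Y := fun b => bif b then (⋃ y : {y : Gen W // y ≠ x}, closure {y.1.1})ᶜ else (closure {x.1})ᶜ
  have hC : ∀ b, IsOpen (C b) := fun b => by
    cases b
    · exact isClosed_closure.isOpen_compl
    · exact (isClosed_iUnion_of_finite fun _ => isClosed_closure).isOpen_compl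
  let U : Bool → Y.Opens := fun b => W ⊓ ⟨C b, hC b⟩
  have hnot : ∀ w ∈ U true, w ∉ U false → x.1 ⤳ w := fun w h1 h2 => by
    by_contra h
    exact h2 ⟨h1.1, fun h' => h (specializes_iff_mem_closure.2 h')⟩
  have hcov : W ≤ iSup U := fun w hw => by
    obtain ⟨y, hy⟩ := exists_gen hw
    rcases eq_or_ne y x with rfl | hne
    · refine Opens.mem_iSup.2 ⟨true, hw, fun h => ?_⟩
      obtain ⟨z, hz⟩ := Set.mem_iUnion.1 h
      exact z.2 (Subtype.ext (generic_unique hY z.1.2.2 y.2.2 (specializes_iff_mem_closure.2 hz) hy))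
    · refine Opens.mem_iSup.2 ⟨false, hw, fun h => hne ?_⟩
      exact Subtype.ext (generic_unique hY y.2.2 x.2.2 hy (specializes_iff_mem_closure.2 h))
  have hdisj : ∀ w, w ∈ U true → w ∈ U false → False := fun w h1 h2 => by
    obtain ⟨y, hy⟩ := exists_gen (W := W) h1.1
    rcases eq_or_ne y x with rfl | hne
    · exact h2.2 (specializes_iff_mem_closure.1 hy)
    · exact h1.2 (Set.mem_iUnion.2 ⟨⟨y, hne⟩, specializes_iff_mem_closure.1 hy⟩)
  let sf : ∀ b, Γ(Y, U b) := fun b => bif b then 1 else 0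
  obtain ⟨e, he, -⟩ := Y.sheaf.existsUnique_gluing' U W (fun b => homOfLE inf_le_left) hcov sf fun b b' => by
    refine TopCat.Presheaf.section_ext Y.sheaf _ _ _ fun w hw => ?_
    obtain ⟨h1, h2⟩ := hw
    cases b <;> cases b'
    · rfl
    · exact (hdisj w h2 h1).elim
    · exact (hdisj w h1 h2).elim
    · rfl
  have hev : ∀ (b : Bool) (y : Y) (hy : y ∈ U b), Y.evaluation W y hy.1 e = Y.evaluation (U b) y hy (sf b) := by
    intro b y hy
    show Y.residue y (Y.presheaf.germ W y hy.1 e) = Y.residue y (Y.presheaf.germ (U b) y hy (sf b))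
    rw [← he b]
    exact congrArg _ (TopCat.Presheaf.germ_res_apply Y.presheaf (homOfLE inf_le_left) y hy e).symm
  refine ⟨e, ?_, fun y hy => ?_⟩
  · have h1 : x.1 ∈ U true := ⟨x.2.1, fun h => by
      obtain ⟨z, hz⟩ := Set.mem_iUnion.1 h
      exact z.2 (Subtype.ext (generic_unique hY z.1.2.2 x.2.2 (specializes_iff_mem_closure.2 hz) specializes_rfl))⟩
    rw [hev true x.1 h1]
    exact map_one _
  · have h1 : y.1 ∈ U false := ⟨y.2.1, fun h => hy
      (Subtype.ext (generic_unique hY y.2.2 x.2.2 specializes_rfl (specializes_iff_mem_closure.2 h)))⟩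
    rw [hev false y.1 h1]
    exact map_zero _

theorem exists_quotient (hY : Pi1.IsNormalScheme Y) [IsReduced Y] {W : Y.Opens} (a b : Γ(Y, W))
    (hb : ∀ x : Gen W, Y.evaluation W x.1 x.2.1 b ≠ 0) (p : Γ(Y, W)[X]) (hp : p.Monic)
    (hroot : ∀ x : Gen W, p.eval₂ (Y.evaluation W x.1 x.2.1).hom
      (Y.evaluation W x.1 x.2.1 a / Y.evaluation W x.1 x.2.1 b) = 0) :
    ∃ c : Γ(Y, W), c * b = a := by
  have hE : (scaleRoots p b).eval a = 0 := eq_zero_of_ev _ fun x => by
    show (Y.evaluation W x.1 x.2.1).hom _ = 0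
    rw [← eval₂_at_apply]
    have h0 := scaleRoots_eval₂_mul (p := p) (Y.evaluation W x.1 x.2.1).hom
      (Y.evaluation W x.1 x.2.1 a / Y.evaluation W x.1 x.2.1 b) b
    rw [hroot x, mul_zero, mul_div_cancel₀ _ (hb x)] at h0
    exact h0
  have hloc : ∀ w : W, ∃ c : Y.presheaf.stalk w.1, c * Y.presheaf.germ W w.1 w.2 b = Y.presheaf.germ W w.1 w.2 a := by
    intro w
    haveI := (hY w.1).1
    haveI := (hY w.1).2
    let O := Y.presheaf.stalk w.1
    let g : Γ(Y, W) →+* O := (Y.presheaf.germ W w.1 w.2).hom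
    let L := FractionRing O
    let φ : Γ(Y, W) →+* L := (algebraMap O L).comp g
    have hgb : φ b ≠ 0 := fun h0 => by
      obtain ⟨x, hx⟩ := exists_gen (W := W) w.2
      exact hb x (ev_germ_eq_zero w.2 x hx b (IsFractionRing.injective O L (h0.trans (map_zero _).symm)))
    have h0 := scaleRoots_eval₂_mul (p := p) φ (φ a / φ b) b
    rw [mul_div_cancel₀ _ hgb, eval₂_at_apply, hE, map_zero] at h0
    have hint : IsIntegral O (φ a / φ b) := ⟨p.map g, hp.map g, by
      rw [eval₂_map]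
      exact (mul_eq_zero.1 h0.symm).resolve_left (pow_ne_zero _ hgb)⟩
    obtain ⟨c, hc⟩ := IsIntegrallyClosed.isIntegral_iff.1 hint
    exact ⟨c, IsFractionRing.injective O L (by rw [map_mul, hc]; exact div_mul_cancel₀ _ hgb)⟩
  choose c hc using hloc
  have hU : ∀ w : W, ∃ (V : Y.Opens) (hwV : w.1 ∈ V) (hV : V ≤ W) (s : Γ(Y, V)),
      s * Y.presheaf.map (homOfLE hV).op b = Y.presheaf.map (homOfLE hV).op a := by
    intro w
    obtain ⟨V, hwV, s, hs⟩ := Y.presheaf.exists_germ_eq (c w)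
    have h1 : Y.presheaf.germ (V ⊓ W) w.1 ⟨hwV, w.2⟩ (Y.presheaf.map (homOfLE inf_le_left).op s *
        Y.presheaf.map (homOfLE inf_le_right).op b) =
        Y.presheaf.germ (V ⊓ W) w.1 ⟨hwV, w.2⟩ (Y.presheaf.map (homOfLE inf_le_right).op a) := by
      rw [map_mul, TopCat.Presheaf.germ_res_apply, TopCat.Presheaf.germ_res_apply,
        TopCat.Presheaf.germ_res_apply, hs, hc]
    obtain ⟨V', hwV', i₁, i₂, hV'⟩ := Y.presheaf.germ_eq w.1 _ _ _ _ h1
    refine ⟨V', hwV', i₁.le.trans inf_le_right, Y.presheaf.map (homOfLE (i₁.le.trans inf_le_left)).op s, ?_⟩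
    rw [map_mul] at hV'
    simp only [← CategoryTheory.comp_apply, ← Functor.map_comp] at hV' ⊢
    exact hV'
  choose V hwV hV s hs using hU
  have hne : ∀ (w : W) (z : Y) (hz : z ∈ V w), Y.presheaf.germ W z (hV w hz) b ≠ 0 := fun w z hz h0 => by
    obtain ⟨x, hx⟩ := exists_gen (W := W) (hV w hz)
    exact hb x (ev_germ_eq_zero (hV w hz) x hx b h0)
  have hgerm : ∀ (w : W) (z : Y) (hz : z ∈ V w),
      Y.presheaf.germ (V w) z hz (s w) * Y.presheaf.germ W z (hV w hz) b = Y.presheaf.germ W z (hV w hz) a := by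
    intro w z hz
    rw [← TopCat.Presheaf.germ_res_apply Y.presheaf (homOfLE (hV w)) z hz b, ← map_mul, hs w,
      TopCat.Presheaf.germ_res_apply]
  obtain ⟨(C : Γ(Y, W)), hC, -⟩ := Y.sheaf.existsUnique_gluing' V W (fun w => homOfLE (hV w))
    (fun w hw => Opens.mem_iSup.2 ⟨⟨w, hw⟩, hwV _⟩) s fun w w' => by
    refine TopCat.Presheaf.section_ext Y.sheaf _ _ _ fun z hz => ?_
    haveI := (hY z).1
    show Y.presheaf.germ _ z hz (Y.presheaf.map _ (s w)) = Y.presheaf.germ _ z hz (Y.presheaf.map _ (s w'))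
    rw [TopCat.Presheaf.germ_res_apply, TopCat.Presheaf.germ_res_apply]
    exact mul_right_cancel₀ (hne w z hz.1) ((hgerm w z hz.1).trans (hgerm w' z hz.2).symm)
  refine ⟨C, TopCat.Presheaf.section_ext Y.sheaf _ _ _ fun z hz => ?_⟩
  show Y.presheaf.germ W z hz (C * b) = Y.presheaf.germ W z hz a
  have hC' : Y.presheaf.germ W z hz C = Y.presheaf.germ (V ⟨z, hz⟩) z (hwV ⟨z, hz⟩) (s ⟨z, hz⟩) := by
    rw [← hC ⟨z, hz⟩]
    exact (TopCat.Presheaf.germ_res_apply Y.presheaf (homOfLE (hV ⟨z, hz⟩)) z (hwV ⟨z, hz⟩) C).symm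
  rw [map_mul, hC', hgerm]

variable {X : Scheme.{u}} (f : Y ⟶ X) [QuasiCompact f] [QuasiSeparated f]

theorem local_data (hY : Pi1.IsNormalScheme Y)
    (hfin : LocallyFinite (fun Z : ↥(irreducibleComponents ↥Y) => (Z : Set ↥Y))) (U : X.affineOpens) :
    letI := (f.app U.1).hom.toAlgebra
    ∀ P : PrimeSpectrum (integralClosure Γ(X, U.1) Γ(Y, f ⁻¹ᵁ U.1)),
      (IsDomain (Localization.AtPrime P.asIdeal) ∧ IsIntegrallyClosed (Localization.AtPrime P.asIdeal)) ∧
      ∃! x : Gen (f ⁻¹ᵁ U.1), RingHom.ker ((Y.evaluation (f ⁻¹ᵁ U.1) x.1 x.2.1).hom.comp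
        (integralClosure Γ(X, U.1) Γ(Y, f ⁻¹ᵁ U.1)).val.toRingHom) ≤ P.asIdeal := by
  letI := (f.app U.1).hom.toAlgebra
  intro P
  haveI : IsReduced Y := by
    haveI : ∀ y : Y, _root_.IsReduced (Y.presheaf.stalk y) := fun y => by haveI := (hY y).1; infer_instance
    exact isReduced_of_isReduced_stalk Y
  let W := f ⁻¹ᵁ U.1
  haveI : Finite (Gen W) := finite_gen hfin (f.isCompact_preimage U.2.isCompact)
  let B := integralClosure Γ(X, U.1) Γ(Y, W)
  choose e he he' using fun x : Gen W => exists_idempotent hY x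
  have hid : ∀ x, e x * e x = e x := fun x => sub_eq_zero.1 (eq_zero_of_ev _ fun y => by
    rcases eq_or_ne y x with rfl | hy
    · rw [map_sub, map_mul, he, one_mul, sub_self]
    · rw [map_sub, map_mul, he' x y hy, zero_mul, sub_self])
  have hint : ∀ x, IsIntegral Γ(X, U.1) (e x) := fun x =>
    ⟨Polynomial.X ^ 2 - Polynomial.X, by monicity!, by simp [pow_two, hid x]⟩
  refine normal_of_data (fun x : Gen W => Y.residueField x.1)
    (fun x => (Y.evaluation W x.1 x.2.1).hom.comp B.val.toRingHom)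
    (fun r hr => Subtype.ext (eq_zero_of_ev _ hr)) (fun x => ⟨e x, hint x⟩) he (fun x y h => he' x y h)
    (fun a b hb p hp hroot => ?_) P.asIdeal
  obtain ⟨c, hc⟩ := exists_quotient hY a.1 b.1 hb (p.map B.val.toRingHom) (hp.map _) fun x => by
    rw [eval₂_map]; exact hroot x
  have hcint : IsIntegral B c := ⟨p, hp, eq_zero_of_ev _ fun x => by
    show (Y.evaluation W x.1 x.2.1).hom _ = 0
    rw [hom_eval₂]
    refine Eq.trans ?_ (hroot x)
    show eval₂ _ _ p = eval₂ _ (Y.evaluation W x.1 x.2.1 a.1 / Y.evaluation W x.1 x.2.1 b.1) p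
    congr 1
    exact (eq_div_iff (hb x)).mpr (by simp only [RingHom.comp_apply]; rw [← hc]; exact (map_mul _ _ _).symm)⟩
  haveI : Algebra.IsIntegral Γ(X, U.1) B := inferInstance
  exact ⟨⟨c, isIntegral_trans c hcint⟩, Subtype.ext hc⟩

/-- The normalization in a normal scheme. -/
theorem main (hY : Pi1.IsNormalScheme Y)
    (hfin : LocallyFinite (fun Z : ↥(irreducibleComponents ↥Y) => (Z : Set ↥Y))) :
    Pi1.IsNormalScheme f.normalization ∧
    LocallyFinite (fun Z : ↥(irreducibleComponents ↥f.normalization) => (Z : Set ↥f.normalization)) ∧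
    (∀ y : Y, closure {y} ∈ irreducibleComponents ↥Y →
      closure {f.toNormalization.base y} ∈ irreducibleComponents ↥f.normalization) ∧
    (∀ x' : ↥f.normalization, closure {x'} ∈ irreducibleComponents ↥f.normalization →
      ∃! y : Y, closure {y} ∈ irreducibleComponents ↥Y ∧ f.toNormalization.base y = x') := by
  letI alg : ∀ U : X.affineOpens, Algebra Γ(X, U.1) Γ(Y, f ⁻¹ᵁ U.1) := fun U => (f.app U.1).hom.toAlgebra
  let B : X.affineOpens → Type u := fun U => integralClosure Γ(X, U.1) Γ(Y, f ⁻¹ᵁ U.1)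
  let c : ∀ U : X.affineOpens, PrimeSpectrum (B U) → f.normalization := fun U P => f.normalizationOpenCover.f U P
  have hce : ∀ U, Topology.IsOpenEmbedding (c U) := fun U => (f.normalizationOpenCover.f U).isOpenEmbedding
  have hcov : ∀ z : f.normalization, ∃ U P, c U P = z := fun z => by
    obtain ⟨U, hU, hzU, -⟩ := exists_isAffineOpen_mem_and_subset (x := f.fromNormalization z) (U := (⊤ : X.Opens)) trivial
    have : z ∈ (f.normalizationOpenCover.f ⟨U, hU⟩).opensRange := by
      rw [← f.fromNormalization_preimage ⟨U, hU⟩]; exact hzU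
    exact ⟨⟨U, hU⟩, this⟩
  -- the generic points of `Y` in the charts
  let ker : ∀ (U : X.affineOpens) (y : Y), y ∈ f ⁻¹ᵁ U.1 → Ideal (B U) := fun U y hy =>
    RingHom.ker ((Y.evaluation (f ⁻¹ᵁ U.1) y hy).hom.comp (integralClosure Γ(X, U.1) Γ(Y, f ⁻¹ᵁ U.1)).val.toRingHom)
  have himg : ∀ (U : X.affineOpens) (y : Y) (hy : y ∈ f ⁻¹ᵁ U.1),
      f.toNormalization y = c U ⟨ker U y hy, RingHom.ker_isPrime _⟩ := by
    intro U y hy
    refine (congrArg (fun φ : ((f ⁻¹ᵁ U.1 : Y.Opens) : Scheme.{u}) ⟶ f.normalization => φ.base ⟨y, hy⟩)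
      (f.ι_toNormalization U)).trans ?_
    refine congrArg (c U) (PrimeSpectrum.ext ?_)
    refine Eq.trans ?_ (Eq.refl (ker U y hy))
    ext r
    show (r : Γ(Y, f ⁻¹ᵁ U.1)) ∈ ((f ⁻¹ᵁ U.1).toSpecΓ ⟨y, hy⟩).asIdeal ↔ _
    refine Iff.trans ?_ (Scheme.evaluation_eq_zero_iff_notMem_basicOpen _ y hy _).symm
    refine iff_not_comm.mp ?_
    exact congr((⟨y, hy⟩ : (f ⁻¹ᵁ U.1 : Y.Opens)) ∈ $(Scheme.Opens.toSpecΓ_preimage_basicOpen (f ⁻¹ᵁ U.1) r.1)).to_iff.symm
  have hstab : ∀ (U : X.affineOpens) (P : PrimeSpectrum (B U)) (z : f.normalization), z ⤳ c U P →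
      ∃ Q, c U Q = z := fun U P z hz => hz.mem_open (hce U).isOpen_range ⟨P, rfl⟩
  have hmin : ∀ (U : X.affineOpens) (P : PrimeSpectrum (B U)),
      closure {c U P} ∈ irreducibleComponents ↥f.normalization ↔
        ∃ x : Gen (f ⁻¹ᵁ U.1), ker U x.1 x.2.1 = P.asIdeal := by
    intro U P
    rw [closure_mem_irreducibleComponents_iff]
    constructor
    · intro h
      obtain ⟨x, hx, -⟩ := (local_data f hY hfin U P).2
      refine ⟨x, ?_⟩
      have := h (c U ⟨ker U x.1 x.2.1, RingHom.ker_isPrime _⟩)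
        (((PrimeSpectrum.le_iff_specializes _ P).1 hx).map (hce U).continuous)
      exact congrArg PrimeSpectrum.asIdeal ((hce U).injective this)
    · rintro ⟨x, hx⟩ z hz
      obtain ⟨Q, rfl⟩ := hstab U P z hz
      have hQP : Q ≤ P := (PrimeSpectrum.le_iff_specializes Q P).2 ((hce U).toIsEmbedding.toIsInducing.specializes_iff.1 hz)
      obtain ⟨y, hy, -⟩ := (local_data f hY hfin U Q).2
      have hyx : y = x := (local_data f hY hfin U P).2.unique (hy.trans hQP) hx.le
      refine congrArg (c U) (le_antisymm hQP ?_)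
      exact hx.ge.trans (hyx ▸ hy)
  refine ⟨fun z => ?_, fun z => ?_, fun y hy => ?_, fun z hz => ?_⟩
  · obtain ⟨U, P, rfl⟩ := hcov z
    obtain ⟨⟨h1, h2⟩, -⟩ := local_data f hY hfin U P
    haveI := h1; haveI := h2
    let j := f.normalizationOpenCover.f U
    let e1 : f.normalization.presheaf.stalk (c U P) ≅ (Spec (CommRingCat.of (B U))).presheaf.stalk P :=
      asIso (j.stalkMap P)
    letI : Algebra (B U) ((Spec (CommRingCat.of (B U))).presheaf.stalk P) := (StructureSheaf.toStalk (CommRingCat.of (B U)) P).hom.toAlgebra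
    haveI : IsLocalization.AtPrime ((Spec (CommRingCat.of (B U))).presheaf.stalk P) P.asIdeal :=
      StructureSheaf.IsLocalization.to_stalk (CommRingCat.of (B U)) P
    let e : Localization.AtPrime P.asIdeal ≃+* f.normalization.presheaf.stalk (c U P) :=
      (IsLocalization.algEquiv P.asIdeal.primeCompl (Localization.AtPrime P.asIdeal)
        ((Spec (CommRingCat.of (B U))).presheaf.stalk P)).toRingEquiv.trans e1.symm.commRingCatIsoToRingEquiv
    exact ⟨e.symm.toMulEquiv.isDomain _, IsIntegrallyClosed.of_equiv e⟩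
  · obtain ⟨U, P, rfl⟩ := hcov z
    haveI : Finite (Gen (f ⁻¹ᵁ U.1)) := finite_gen hfin (f.isCompact_preimage U.2.isCompact)
    refine ⟨Set.range (c U), (hce U).isOpen_range.mem_nhds ⟨P, rfl⟩, ?_⟩
    refine Set.Finite.subset (Set.finite_range (fun x : Gen (f ⁻¹ᵁ U.1) =>
      (⟨closure {c U ⟨ker U x.1 x.2.1, RingHom.ker_isPrime _⟩}, (hmin U _).2 ⟨x, rfl⟩⟩ :
        ↥(irreducibleComponents ↥f.normalization)))) ?_
    rintro ⟨Z, hZ⟩ ⟨w, hwZ, Q, rfl⟩
    obtain ⟨g, hg⟩ := QuasiSober.sober hZ.1 (isClosed_of_mem_irreducibleComponents Z hZ)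
    obtain ⟨G, rfl⟩ := hstab U Q g (specializes_iff_mem_closure.2 (hg.def.symm ▸ hwZ))
    obtain ⟨x, hx⟩ := (hmin U G).1 (hg.def.symm ▸ hZ)
    refine ⟨x, Subtype.ext ?_⟩
    show closure _ = Z
    rw [← hg.def]
    exact congrArg (fun q => closure {c U q}) (PrimeSpectrum.ext hx)
  · obtain ⟨U, hU, hyU, -⟩ := exists_isAffineOpen_mem_and_subset (x := f y) (U := (⊤ : X.Opens)) trivial
    rw [himg ⟨U, hU⟩ y hyU]
    exact (hmin _ _).2 ⟨⟨y, hyU, hy⟩, rfl⟩
  · obtain ⟨U, P, rfl⟩ := hcov z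
    obtain ⟨x, hx⟩ := (hmin U P).1 hz
    refine ⟨x.1, ⟨x.2.2, (himg U x.1 x.2.1).trans (congrArg (c U) (PrimeSpectrum.ext hx))⟩, ?_⟩
    rintro y ⟨hy, hyz⟩
    have hyU : y ∈ f ⁻¹ᵁ U.1 := by
      have h1 : f.toNormalization y ∈ (f.normalizationOpenCover.f U).opensRange := ⟨P, hyz.symm⟩
      rw [← f.fromNormalization_preimage U] at h1
      show f y ∈ U.1
      rw [← f.toNormalization_fromNormalization]
      exact h1
    have h2 : ker U y hyU = P.asIdeal :=
      congrArg PrimeSpectrum.asIdeal ((hce U).injective ((himg U y hyU).symm.trans hyz))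
    exact congrArg Subtype.val ((local_data f hY hfin U P).2.unique (y₁ := ⟨y, hyU, hy⟩) (y₂ := x) h2.le hx.le)

end Groth.Agent.H69.NormalizationNormal
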