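import Groth.Agent.Lib.Flat55.FreeLocusRep
import Groth.Agent.Lib.TensorMod.Basis
import Groth.Agent.Lib.QCoh.Closure

/-!
# The locus where a module is locally free of given rank
-/

set_option autoImplicit false
set_option linter.style.haveILetI false
set_option backward.isDefEq.respectTransparency false

universe u

open CategoryTheory CategoryTheory.Limits AlgebraicGeometry Opposite TopologicalSpace
open Groth.Agent.Lib Groth.Agent.Lib.Flat55 Groth.Agent.Lib.Flat55.GenericPtFibre Groth.Agent.Lib.Flat55.FreeLocusRep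

namespace Groth.Agent.H69.RankLocus

section rep

variable {X S : Scheme.{u}} (f : X ⟶ S) {F : X.Modules} [F.IsQuasicoherent] {p : ℕ}

/-- `H_p` is represented by an immersion, finitely presented when the module is. -/
theorem exists_rep' [Smooth f] [GeometricallyIrreducible f] (hF : CohB1.IsFT F) :
    ∃ Z : Over S, IsImmersion Z.hom ∧ (∀ T : Over S, Cond f F p T ↔ Nonempty (T ⟶ Z)) ∧
      ((∀ s : S, ∃ x : X, f x = s ∧ FreeLocus.GenLE F p x) → IsClosedImmersion Z.hom) := by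
  classical
  let U := baseOpen f F p
  let P : Over U.toScheme → Prop := fun T => Cond f F p (Over.mk (T.hom ≫ U.ι))
  have hP : ∀ ⦃T T₀ : Over U.toScheme⦄ (_ : T ⟶ T₀), P T₀ → P T := fun T T₀ g h =>
    cond_of_hom f F p (Over.homMk g.left (by simp) :
      Over.mk (T.hom ≫ U.ι) ⟶ Over.mk (T₀.hom ≫ U.ι)) h
  have hloc : ∀ T : Over U.toScheme, (∀ t : T.left, ∃ (T' : Over U.toScheme) (g : T' ⟶ T),
      IsOpenImmersion g.left ∧ t ∈ Set.range g.left ∧ P T') → P T := fun T h =>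
    cond_of_local f F p _ fun t => by
      obtain ⟨T', g, hg, ht, hT'⟩ := h t
      exact ⟨Over.mk (T'.hom ≫ U.ι), Over.homMk g.left (by simp), hg, ht, hT'⟩
  have hlocal : ∀ x : U.toScheme, ∃ (R : CommRingCat.{u}) (i : Spec R ⟶ U.toScheme)
      (_ : IsOpenImmersion i), x ∈ Set.range i ∧
      ∃ J : Ideal R, (CohB1.IsFP F → J.FG) ∧ ClosedRep.Rep P i J := by
    rintro ⟨s, x, hx, rfl⟩
    obtain ⟨V, hV, W, hW, e, hxV, hsurj, hss, v, hv⟩ := FreeLocusLocal.exists_nhd f hx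
    obtain ⟨J, hJfg, hJ⟩ := FreeLocusLocal.exists_ideal f hV hW e hsurj hss v hv
    have hr : Set.range hV.fromSpec ⊆ Set.range U.ι := by
      rw [Scheme.Opens.range_ι, hV.range_fromSpec]
      intro y hy
      obtain ⟨w, hw, rfl⟩ := hsurj y hy
      exact ⟨w, ⟨W, hW, hw, v, hv⟩, rfl⟩
    have hfac := IsOpenImmersion.lift_fac U.ι hV.fromSpec hr
    have hi : IsOpenImmersion (IsOpenImmersion.lift U.ι hV.fromSpec hr) := by
      have : IsOpenImmersion (IsOpenImmersion.lift U.ι hV.fromSpec hr ≫ U.ι) := by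
        rw [hfac]; infer_instance
      exact IsOpenImmersion.of_comp _ U.ι
    refine ⟨_, IsOpenImmersion.lift U.ι hV.fromSpec hr, hi, ?_, J, hJfg, fun A ψ => ?_⟩
    · obtain ⟨y, hy⟩ := hV.range_fromSpec.ge hxV
      refine ⟨y, U.ι.isOpenEmbedding.injective ?_⟩
      rw [← Scheme.Hom.comp_apply, hfac, hy]
      rfl
    · letI := ψ.hom.toAlgebra
      show Cond f F p (Over.mk ((Spec.map ψ ≫ _) ≫ U.ι)) ↔ _
      rw [Category.assoc, hfac]
      exact hJ A
  obtain ⟨I, hI, hIfp⟩ := ClosedRep.exists_closedSubscheme hP hloc fun x => by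
    obtain ⟨R, i, hi, hx, J, -, hJ⟩ := hlocal x
    exact ⟨R, i, hi, hx, J, hJ⟩
  refine ⟨Over.mk (I.subschemeι ≫ U.ι), inferInstanceAs (IsImmersion (I.subschemeι ≫ U.ι)),
    fun T => ⟨fun hT => ?_, fun ⟨g⟩ => ?_⟩, fun hFP => ?_⟩
  · have hr : Set.range T.hom ⊆ Set.range U.ι := by
      rw [Scheme.Opens.range_ι]; exact range_subset_baseOpen f hF hT
    let T' : Over U.toScheme := Over.mk (IsOpenImmersion.lift U.ι T.hom hr)
    have hT' : P T' := cond_of_hom f F p (Over.homMk (𝟙 T.left) (by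
      simp [T', IsOpenImmersion.lift_fac]) : Over.mk (T'.hom ≫ U.ι) ⟶ T) hT
    obtain ⟨g⟩ := (hI T').1 hT'
    exact ⟨Over.homMk g.left (by
      show g.left ≫ I.subschemeι ≫ U.ι = T.hom
      rw [← Category.assoc, show g.left ≫ I.subschemeι = _ from Over.w g]
      exact IsOpenImmersion.lift_fac _ _ _)⟩
  · exact cond_of_hom f F p g ((hI (Over.mk I.subschemeι)).2 ⟨𝟙 _⟩)
  · have : IsIso U.ι := by
      refine isIso_of_isOpenImmersion_of_opensRange_eq_top _ ?_
      rw [Scheme.Opens.opensRange_ι]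
      refine top_le_iff.mp fun s _ => ?_
      obtain ⟨x, hx, hg⟩ := hFP s
      exact ⟨x, hg, hx⟩
    exact inferInstanceAs (IsClosedImmersion (I.subschemeι ≫ U.ι))

end rep

open Groth.Agent.Lib.TensorMod.Basis Groth.Agent.Lib.TensorMod.Dual Groth.Agent.Lib.TensorMod.Gen
open Groth.Agent.Lib.Modules.Free (gen)

/-- A quotient of a free module of rank `r` is generated by `r` sections near every point. -/
theorem genLE_of_epi {S : Scheme.{u}} {M : S.Modules} [M.IsQuasicoherent] {r : ℕ} {U : S.Opens}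
    (q : FlatMod.freeMod (↑U) r ⟶ M.restrict U.ι) [Epi q] {s : S} (hs : s ∈ U) :
    FreeLocus.GenLE M r s := by
  obtain ⟨W, hW, hxW, -⟩ :=
    exists_isAffineOpen_mem_and_subset (X := (U : Scheme.{u})) (x := ⟨s, hs⟩) (U := ⊤) trivial
  haveI : (M.restrict U.ι).IsQuasicoherent :=
    inferInstanceAs ((Scheme.Modules.restrictFunctor U.ι).obj M).IsQuasicoherent
  haveI := TensorMod.QCohInv.isQCoh_freeMod (U : Scheme.{u}) r
  let e : Fin r → Γ(M.restrict U.ι, W) := fun k =>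
    q.app W (rs (FlatMod.freeMod (↑U) r) (le_top (a := W)) (gen (U : Scheme.{u}) k))
  refine ⟨U.ι ''ᵁ W, hW.image_of_isOpenImmersion U.ι, ⟨⟨s, hs⟩, hxW, rfl⟩,
    fun k => (M.restrictAppIso U.ι W).hom (e k), top_le_iff.1 fun y _ => ?_⟩
  obtain ⟨z, rfl⟩ := (ConcreteCategory.bijective_of_isIso (M.restrictAppIso U.ι W).hom).2 y
  obtain ⟨w, rfl⟩ := QCoh.Closure.sections_surjective_of_epi q hW z
  obtain ⟨a, rfl⟩ := (isBasis_freeMod (X := (U : Scheme.{u})) r W le_top).2 w
  rw [app_comb]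
  simp only [comb]
  rw [map_sum]
  refine Submodule.sum_mem _ fun k _ => ?_
  erw [restrict_smul U.ι M, Groth.Agent.Lib.TensorMod.HomGlue.rs_app]
  exact Submodule.smul_mem _ _ (Submodule.subset_span ⟨k, rfl⟩)

theorem cond_id_iff {S : Scheme.{u}} (M : S.Modules) (r : ℕ) (T : Over S) :
    Cond (𝟙 S) M r T ↔ FlatMod.IsFinLocFreeOfRank r ((Scheme.Modules.pullback T.hom).obj M) := by
  let P := PicF.XTproj (𝟙 S) T
  haveI : IsIso P := inferInstanceAs (IsIso (pullback.snd (𝟙 S) T.hom))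
  have hw : P ≫ T.hom = pullback.fst (𝟙 S) T.hom := by
    show pullback.snd _ _ ≫ _ = _
    rw [← pullback.condition, Category.comp_id]
  let e : (Scheme.Modules.pullback P).obj ((Scheme.Modules.pullback T.hom).obj M) ≅ FGA.ET (𝟙 S) M T :=
    (Scheme.Modules.pullbackComp P T.hom).app M ≪≫ (Scheme.Modules.pullbackCongr hw).app M
  constructor
  · intro h t
    obtain ⟨x, rfl, -, hfree⟩ := h t
    exact isFreeOfRankNear_of_openImmersion P _ (isFreeOfRankNear_of_iso e.symm hfree)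
  · intro h t
    obtain ⟨x, rfl⟩ := (asIso P).hom.homeomorph.surjective t
    refine ⟨x, rfl, fun x' hx' => ?_, isFreeOfRankNear_of_iso e (isFreeOfRankNear_pullback P _ (h (P x)))⟩
    rw [P.isOpenEmbedding.injective hx']

/-- The locus where a quasi-coherent module of finite type is locally free of rank `r`. -/
theorem exists_locus {S : Scheme.{u}} (M : S.Modules) [M.IsQuasicoherent] (hM : CohB1.IsFT M) (r : ℕ) :
    ∃ (Z : Scheme.{u}) (e : Z ⟶ S), IsImmersion e ∧
      (∀ (T : Scheme.{u}) (g : T ⟶ S),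
        FlatMod.IsFinLocFreeOfRank r ((Scheme.Modules.pullback g).obj M) ↔ ∃ g' : T ⟶ Z, g' ≫ e = g) ∧
      ((∀ s : ↥S, ∃ U : S.Opens, s ∈ U ∧ ∃ p : FlatMod.freeMod (↑U) r ⟶ M.restrict U.ι, Epi p) →
        IsClosedImmersion e) := by
  haveI : GeometricallyIrreducible (𝟙 S) := ⟨fun K _ y Z fst snd h => by
    haveI : IsIso snd := h.isIso_snd_of_isIso
    exact (asIso snd).hom.homeomorph.irreducibleSpace_iff.2 inferInstance⟩
  obtain ⟨Z, hZ, hiff, hclosed⟩ := exists_rep' (𝟙 S) (F := M) (p := r) hM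
  refine ⟨Z.left, Z.hom, hZ, fun T g => ?_, fun h => hclosed fun s => ?_⟩
  · show FlatMod.IsFinLocFreeOfRank r ((Scheme.Modules.pullback (Over.mk g).hom).obj M) ↔ _
    rw [← cond_id_iff M r (Over.mk g), hiff]
    exact ⟨fun ⟨k⟩ => ⟨k.left, Over.w k⟩, fun ⟨g', hg'⟩ => ⟨Over.homMk g' hg'⟩⟩
  · obtain ⟨U, hs, q, hq⟩ := h s
    exact ⟨s, rfl, genLE_of_epi q hs⟩

end Groth.Agent.H69.RankLocus
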