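import Mathlib.AlgebraicGeometry.Noetherian
import Mathlib.AlgebraicGeometry.Stalk
import Mathlib.AlgebraicGeometry.Morphisms.FiniteType
import Mathlib.RingTheory.AdicCompletion.LocalRing
import Mathlib.RingTheory.FiniteType

/-!
# Refinements controlling maps to the completion
-/

set_option autoImplicit false
set_option linter.style.haveILetI false
set_option backward.isDefEq.respectTransparency false
set_option backward.isDefEq.respectTransparency.types false

universe u

open CategoryTheory AlgebraicGeometry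

namespace Groth.Agent.H69.RefineCompl

/-- The algebra: adjoin coefficients of congruences for the generators. -/
theorem exists_refine {R B O C : Type u} [CommRing R] [CommRing B] [Algebra R B] [Algebra.FiniteType R B]
    [CommRing O] [CommRing C] (φ : R →+* O) (ι : O →+* C) (J : Ideal O) (θ : B →+* C)
    (hθ : θ.comp (algebraMap R B) = ι.comp φ) (M : Finset R)
    (hM : (Ideal.span (M : Set R)).map φ = J)
    (hfrac : ∀ r : O, ∃ a b : R, IsUnit (φ b) ∧ φ b * r = φ a)
    (happ : ∀ x : C, ∃ r : O, x - ι r ∈ J.map ι) :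
    ∃ (B' : Type u) (_ : CommRing B') (f : B →+* B'), f.FiniteType ∧
      (∃ τ : B' →+* C, τ.comp f = θ) ∧
      ∀ τ' : B' →+* C, (τ'.comp f).comp (algebraMap R B) = ι.comp φ →
        ∀ b, θ b - τ' (f b) ∈ J.map ι := by
  classical
  obtain ⟨s, hs⟩ := Algebra.FiniteType.out (R := R) (A := B)
  choose r hr using fun b : s => happ (θ b)
  choose a d hd hda using fun b : s => hfrac (r b)
  have hspan : J.map ι = Ideal.span (Set.range fun m : M => ι (φ m)) := by
    rw [← hM, Ideal.map_map, Ideal.map_span]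
    congr 1
    ext x
    simp
  have hmem : ∀ b : s, θ (algebraMap R B (d b) * b - algebraMap R B (a b)) ∈ J.map ι := fun b => by
    rw [map_sub, map_mul, show θ (algebraMap R B (d b)) = ι (φ (d b)) from RingHom.congr_fun hθ _,
      show θ (algebraMap R B (a b)) = ι (φ (a b)) from RingHom.congr_fun hθ _, ← hda, map_mul,
      ← mul_sub]
    exact Ideal.mul_mem_left _ _ (hr b)
  simp_rw [hspan, Ideal.mem_span_range_iff_exists_fun] at hmem
  choose c hc using hmem
  let P := MvPolynomial (s × M) B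
  let rel : s → P := fun b => MvPolynomial.C (algebraMap R B (d b) * b - algebraMap R B (a b)) -
    ∑ m : M, MvPolynomial.X (b, m) * MvPolynomial.C (algebraMap R B m)
  let I : Ideal P := Ideal.span (Set.range rel)
  let f : B →+* P ⧸ I := (Ideal.Quotient.mk I).comp MvPolynomial.C
  refine ⟨P ⧸ I, inferInstance, f,
    (RingHom.FiniteType.of_surjective _ Ideal.Quotient.mk_surjective).comp
      (RingHom.finiteType_algebraMap.mpr (inferInstanceAs (Algebra.FiniteType B (MvPolynomial (s × M) B)))),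
    ⟨Ideal.Quotient.lift I (MvPolynomial.eval₂Hom θ fun bm => c bm.1 bm.2) ?_, ?_⟩, ?_⟩
  · intro x hx
    refine (Ideal.span_le.mpr ?_ : I ≤ RingHom.ker (MvPolynomial.eval₂Hom θ fun bm => c bm.1 bm.2)) hx
    rintro _ ⟨b, rfl⟩
    rw [SetLike.mem_coe, RingHom.mem_ker, map_sub, map_sum, sub_eq_zero,
      MvPolynomial.eval₂Hom_C, ← hc b]
    refine Finset.sum_congr rfl fun m _ => ?_
    rw [map_mul, MvPolynomial.eval₂Hom_C, MvPolynomial.eval₂Hom_X',
      show θ (algebraMap R B m) = ι (φ m) from RingHom.congr_fun hθ _]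
  · refine RingHom.ext fun b => ?_
    exact MvPolynomial.eval₂Hom_C _ _ _
  · intro τ' hτ b
    have hb : b ∈ Algebra.adjoin R (s : Set B) := hs ▸ trivial
    induction hb using Algebra.adjoin_induction with
    | mem x hx =>
      have h0 : Ideal.Quotient.mk I (MvPolynomial.C (algebraMap R B (d ⟨x, hx⟩) * x - algebraMap R B (a ⟨x, hx⟩))) =
          Ideal.Quotient.mk I (∑ m : M, MvPolynomial.X ((⟨x, hx⟩ : s), m) * MvPolynomial.C (algebraMap R B m)) :=
        Ideal.Quotient.eq.mpr (Ideal.subset_span (Set.mem_range_self (f := rel) ⟨x, hx⟩))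
      have h1 : τ' (f (algebraMap R B (d ⟨x, hx⟩) * x - algebraMap R B (a ⟨x, hx⟩))) ∈ J.map ι := by
        rw [show f (algebraMap R B (d ⟨x, hx⟩) * x - algebraMap R B (a ⟨x, hx⟩)) = _ from h0, map_sum, map_sum]
        refine Submodule.sum_mem (J.map ι) fun m _ => ?_
        rw [map_mul, map_mul]
        refine Ideal.mul_mem_left _ _ ?_
        rw [hspan, show τ' (Ideal.Quotient.mk I (MvPolynomial.C (algebraMap R B m))) = ι (φ m) from
          RingHom.congr_fun hτ _]
        exact Ideal.subset_span ⟨m, rfl⟩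
      rw [map_sub, map_mul, map_sub, map_mul,
        show τ' (f (algebraMap R B (d ⟨x, hx⟩))) = ι (φ (d ⟨x, hx⟩)) from RingHom.congr_fun hτ _,
        show τ' (f (algebraMap R B (a ⟨x, hx⟩))) = ι (φ (a ⟨x, hx⟩)) from RingHom.congr_fun hτ _,
        ← hda, map_mul, ← mul_sub, Ideal.unit_mul_mem_iff_mem _ ((hd _).map ι)] at h1
      have := Ideal.sub_mem _ (hr ⟨x, hx⟩) h1
      rwa [sub_sub_sub_cancel_right] at this
    | algebraMap r =>
      rw [show τ' (f (algebraMap R B r)) = ι (φ r) from RingHom.congr_fun hτ _,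
        show θ (algebraMap R B r) = ι (φ r) from RingHom.congr_fun hθ _, sub_self]
      exact Ideal.zero_mem _
    | add x y _ _ hx hy => rw [map_add, map_add, map_add, add_sub_add_comm]; exact Ideal.add_mem _ hx hy
    | mul x y _ _ hx hy =>
      rw [map_mul, map_mul, map_mul, show θ x * θ y - τ' (f x) * τ' (f y) =
        (θ x - τ' (f x)) * θ y + τ' (f x) * (θ y - τ' (f y)) by ring]
      exact Ideal.add_mem _ (Ideal.mul_mem_right _ _ hx) (Ideal.mul_mem_left _ _ hy)

/-- Elements of a completion are congruent to elements of the ring. -/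
theorem exists_sub_mem {O : Type u} [CommRing O] (I : Ideal O) (hI : I.FG) (N : ℕ)
    (x : AdicCompletion I O) :
    ∃ r : O, x - algebraMap O (AdicCompletion I O) r ∈ (I ^ N).map (algebraMap O (AdicCompletion I O)) := by
  obtain ⟨r, hr⟩ := Submodule.Quotient.mk_surjective _ (x.val N)
  refine ⟨r, ?_⟩
  have : x - algebraMap O (AdicCompletion I O) r ∈ I ^ N • (⊤ : Submodule O (AdicCompletion I O)) := by
    rw [AdicCompletion.pow_smul_top_eq_ker_eval hI, LinearMap.mem_ker, map_sub, sub_eq_zero]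
    exact hr.symm
  rwa [Ideal.smul_top_eq_map, Submodule.restrictScalars_mem] at this

/-- Refinements of a morphism of finite type controlling maps to the completion. -/
theorem main {T S : Scheme.{u}} [IsNoetherian T] [IsNoetherian S]
    (h : T ⟶ S) [LocallyOfFiniteType h] (t : T)
    (σ : ↑(T.presheaf.stalk t) →+* (AdicCompletion (IsLocalRing.maximalIdeal ↑(S.presheaf.stalk (h t))) ↑(S.presheaf.stalk (h t))))
    (hσ : σ.comp (h.stalkMap t).hom = algebraMap ↑(S.presheaf.stalk (h t)) _)
    (hloc : ∀ a ∈ IsLocalRing.maximalIdeal ↑(T.presheaf.stalk t),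
      σ a ∈ (IsLocalRing.maximalIdeal ↑(S.presheaf.stalk (h t))).map (algebraMap ↑(S.presheaf.stalk (h t)) (AdicCompletion (IsLocalRing.maximalIdeal ↑(S.presheaf.stalk (h t))) ↑(S.presheaf.stalk (h t)))))
    (N : ℕ) :
    ∃ (T' : Scheme.{u}) (g : T' ⟶ T) (t' : T') (hg : g t' = t) (τ : ↑(T'.presheaf.stalk t') →+* (AdicCompletion (IsLocalRing.maximalIdeal ↑(S.presheaf.stalk (h t))) ↑(S.presheaf.stalk (h t)))),
      LocallyOfFiniteType g ∧ QuasiCompact g ∧
      τ.comp ((g.stalkMap t').hom.comp (T.presheaf.stalkCongr (Inseparable.of_eq hg)).inv.hom) = σ ∧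
      ∀ (σ' : ↑(T.presheaf.stalk t) →+* (AdicCompletion (IsLocalRing.maximalIdeal ↑(S.presheaf.stalk (h t))) ↑(S.presheaf.stalk (h t)))),
        σ'.comp (h.stalkMap t).hom = algebraMap ↑(S.presheaf.stalk (h t)) _ →
        (∃ τ' : ↑(T'.presheaf.stalk t') →+* (AdicCompletion (IsLocalRing.maximalIdeal ↑(S.presheaf.stalk (h t))) ↑(S.presheaf.stalk (h t))),
          τ'.comp ((g.stalkMap t').hom.comp (T.presheaf.stalkCongr (Inseparable.of_eq hg)).inv.hom) = σ') →
        ∀ a : ↑(T.presheaf.stalk t), σ a - σ' a ∈ (IsLocalRing.maximalIdeal ↑(S.presheaf.stalk (h t)) ^ N).map (algebraMap ↑(S.presheaf.stalk (h t)) (AdicCompletion (IsLocalRing.maximalIdeal ↑(S.presheaf.stalk (h t))) ↑(S.presheaf.stalk (h t)))) := by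
  let O := S.presheaf.stalk (h t)
  let C := AdicCompletion (IsLocalRing.maximalIdeal O) O
  obtain ⟨V, hV, htV, -⟩ := exists_isAffineOpen_mem_and_subset (x := h t) (U := (⊤ : S.Opens)) trivial
  obtain ⟨W, hW, htW, hWV⟩ := exists_isAffineOpen_mem_and_subset (x := t) (U := h ⁻¹ᵁ V) htV
  letI : Algebra Γ(S, V) Γ(T, W) := (h.appLE V W hWV).hom.toAlgebra
  haveI : Algebra.FiniteType Γ(S, V) Γ(T, W) := LocallyOfFiniteType.finiteType_appLE (f := h) hV hW hWV
  letI : Algebra Γ(S, V) O := TopCat.Presheaf.algebra_section_stalk S.presheaf ⟨h t, htV⟩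
  haveI : IsLocalization.AtPrime O (hV.primeIdealOf ⟨h t, htV⟩).asIdeal :=
    hV.isLocalization_stalk ⟨h t, htV⟩
  haveI : IsNoetherianRing Γ(S, V) := IsLocallyNoetherian.component_noetherian ⟨V, hV⟩
  let J := IsLocalRing.maximalIdeal O ^ N
  obtain ⟨M, hM⟩ := (inferInstance : IsNoetherianRing Γ(S, V)).noetherian
    (J.comap (algebraMap Γ(S, V) O))
  let θ : Γ(T, W) →+* C := σ.comp (T.presheaf.germ W t htW).hom
  have hbase : ∀ ρ : ↑(T.presheaf.stalk t) →+* C, ρ.comp (h.stalkMap t).hom = algebraMap O C →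
      (ρ.comp (T.presheaf.germ W t htW).hom).comp (algebraMap Γ(S, V) Γ(T, W)) =
        (algebraMap O C).comp (algebraMap Γ(S, V) O) := by
    intro ρ hρ
    rw [← hρ]
    refine RingHom.ext fun r => ?_
    show ρ ((h.appLE V W hWV ≫ T.presheaf.germ W t htW) r) =
      ρ ((S.presheaf.germ V (h t) htV ≫ h.stalkMap t) r)
    rw [Scheme.Hom.germ_stalkMap]
    simp only [Scheme.Hom.appLE, Category.assoc, TopCat.Presheaf.germ_res]
  obtain ⟨B', _, f, hf, ⟨τ₀, hτ₀⟩, hctrl⟩ := exists_refine (algebraMap Γ(S, V) O) (algebraMap O C) J θ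
    (hbase σ hσ) M
    (by rw [show (Ideal.span (M : Set Γ(S, V))) = J.comap (algebraMap Γ(S, V) O) from hM,
      IsLocalization.map_comap (hV.primeIdealOf ⟨h t, htV⟩).asIdeal.primeCompl O J])
    (fun r => by
      obtain ⟨⟨a, b⟩, hab⟩ := IsLocalization.surj (hV.primeIdealOf ⟨h t, htV⟩).asIdeal.primeCompl r
      exact ⟨a, b, IsLocalization.map_units O b, by rw [mul_comm]; exact hab⟩)
    (exists_sub_mem _ (Ideal.fg_of_isNoetherianRing _) N)
  let fc : Γ(T, W) ⟶ CommRingCat.of B' := CommRingCat.ofHom f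
  let g : Spec (CommRingCat.of B') ⟶ T := Spec.map fc ≫ hW.fromSpec
  let t' : Spec (CommRingCat.of B') := ⟨(IsLocalRing.maximalIdeal C).comap τ₀, inferInstance⟩
  have hσm : (IsLocalRing.maximalIdeal C).comap σ = IsLocalRing.maximalIdeal _ :=
    ((IsLocalRing.maximalIdeal.isMaximal _).eq_of_le (Ideal.IsPrime.ne_top inferInstance)
      (fun a ha => by rw [Ideal.mem_comap, AdicCompletion.maximalIdeal_eq_map]; exact hloc a ha)).symm
  have hg : g t' = t := by
    show hW.fromSpec ((Spec.map fc) t') = t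
    refine Eq.trans (congrArg hW.fromSpec.base ?_) (hW.fromSpec_primeIdealOf ⟨t, htW⟩)
    rw [hW.primeIdealOf_eq_map_closedPoint]
    refine PrimeSpectrum.ext ?_
    show ((IsLocalRing.maximalIdeal C).comap τ₀).comap f =
      (IsLocalRing.maximalIdeal _).comap (T.presheaf.germ W t htW).hom
    rw [Ideal.comap_comap, hτ₀, ← hσm, Ideal.comap_comap]
  let L : Γ(T, W) →+* (Spec (CommRingCat.of B')).presheaf.stalk t' :=
    ((g.stalkMap t').hom.comp (T.presheaf.stalkCongr (Inseparable.of_eq hg)).inv.hom).comp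
      (T.presheaf.germ W t htW).hom
  let toS : B' →+* (Spec (CommRingCat.of B')).presheaf.stalk t' :=
    (StructureSheaf.toStalk (CommRingCat.of B') t').hom
  have hL : L = toS.comp f := by
    have hgW : g t' ∈ W := hg ▸ htW
    have e1 : T.presheaf.germ W t htW ≫ (T.presheaf.stalkCongr (Inseparable.of_eq hg)).inv =
        T.presheaf.germ W (g t') hgW := TopCat.Presheaf.germ_stalkSpecializes _ htW (specializes_of_eq hg)
    have e2 : T.presheaf.germ W (g t') hgW ≫ g.stalkMap t' =
        fc ≫ StructureSheaf.toStalk (CommRingCat.of B') t' := by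
      refine Spec.map_injective ?_
      rw [← cancel_mono hW.fromSpec, Spec.map_comp, Spec.map_comp, Category.assoc]
      change _ ≫ hW.fromSpecStalk hgW = _
      rw [hW.fromSpecStalk_eq_fromSpecStalk hgW,
        Scheme.SpecMap_stalkMap_fromSpecStalk, Spec.fromSpecStalk_eq']
      exact (Category.assoc _ _ _).symm
    rw [← e1, Category.assoc] at e2
    exact congrArg CommRingCat.Hom.hom e2
  letI : Algebra B' ((Spec (CommRingCat.of B')).presheaf.stalk t') := toS.toAlgebra
  haveI : IsLocalization.AtPrime ((Spec (CommRingCat.of B')).presheaf.stalk t') t'.asIdeal :=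
    StructureSheaf.IsLocalization.to_stalk (CommRingCat.of B') t'
  have hunit : ∀ y : t'.asIdeal.primeCompl, IsUnit (τ₀ y) := fun y => IsLocalRing.notMem_maximalIdeal.mp y.2
  let τ : (Spec (CommRingCat.of B')).presheaf.stalk t' →+* C := IsLocalization.lift hunit
  letI : Algebra Γ(T, W) (T.presheaf.stalk t) := TopCat.Presheaf.algebra_section_stalk T.presheaf ⟨t, htW⟩
  haveI : IsLocalization.AtPrime (T.presheaf.stalk t) (hW.primeIdealOf ⟨t, htW⟩).asIdeal :=
    hW.isLocalization_stalk ⟨t, htW⟩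
  have hlft : LocallyOfFiniteType (Spec.map fc) :=
    (HasRingHomProperty.Spec_iff (P := @LocallyOfFiniteType)).mpr hf
  refine ⟨_, g, t', hg, τ, inferInstance, inferInstance, ?_, ?_⟩
  · refine IsLocalization.ringHom_ext (hW.primeIdealOf ⟨t, htW⟩).asIdeal.primeCompl ?_
    refine RingHom.ext fun b => ?_
    show τ (L b) = θ b
    rw [hL, ← hτ₀]
    exact IsLocalization.lift_eq hunit (f b)
  · rintro σ' hσ' ⟨τ', hτ'⟩
    have hfin : ∀ b, θ b - σ' (T.presheaf.germ W t htW b) ∈ J.map (algebraMap O C) := by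
      have e : (τ'.comp toS).comp f = σ'.comp (T.presheaf.germ W t htW).hom := by
        rw [← hτ', RingHom.comp_assoc, ← hL]; rfl
      intro b
      have := hctrl (τ'.comp toS) (by rw [e]; exact hbase σ' hσ') b
      rwa [show (τ'.comp toS) (f b) = σ' (T.presheaf.germ W t htW b) from RingHom.congr_fun e b] at this
    have : (Ideal.Quotient.mk (J.map (algebraMap O C))).comp σ =
        (Ideal.Quotient.mk (J.map (algebraMap O C))).comp σ' :=
      IsLocalization.ringHom_ext (hW.primeIdealOf ⟨t, htW⟩).asIdeal.primeCompl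
        (RingHom.ext fun b => Ideal.Quotient.eq.mpr (hfin b))
    exact fun a => Ideal.Quotient.eq.mp (RingHom.congr_fun this a)

end Groth.Agent.H69.RefineCompl
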