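import Groth.Agent.Lib.QCAlgPush.Basic
import Groth.Agent.Lib.Lim.Existence
import Mathlib.CategoryTheory.IsConnected
import Mathlib.CategoryTheory.Filtered.Connected

/-!
# Relative spectra turn filtered colimits of algebras into limits of schemes
-/

set_option autoImplicit false
set_option backward.isDefEq.respectTransparency false
universe u
open CategoryTheory CategoryTheory.Limits AlgebraicGeometry Opposite TopologicalSpace
open Groth.Agent.Lib

namespace Groth.Agent.H69.RelSpecLimit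

variable {S : Scheme.{u}}

/-- The identification of an algebra with the direct image of its spectrum is natural. -/
theorem gammaIso_naturality {A B : RelSpec.QCAlg S} (φ : A ⟶ B) :
    QCAlgPush.ofHom A.π B.π (RelSpec.QCAlg.specMap φ) (RelSpec.QCAlg.specMap_π φ) ≫
        (QCAlgPush.gammaIso B).hom =
      (QCAlgPush.gammaIso A).hom ≫ φ := by
  refine RelSpec.QCAlg.hom_ext ?_
  show AffAlg.algHom A.π B.π _ (RelSpec.QCAlg.specMap_π φ) ≫ B.gammaMap = A.gammaMap ≫ φ.hom
  apply (Functor.IsCoverDense.restrictHomEquivHom (G := Scheme.AffineZariskiSite.toOpensFunctor S)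
    (K := Opens.grothendieckTopology S) (ℱ := A.π.base _* A.spec.presheaf)
    (ℱ' := (⟨B.presheaf, B.isSheaf⟩ : TopCat.Sheaf CommRingCat.{u} S.carrier))).symm.injective
  ext U : 2
  obtain ⟨⟨U, hU⟩⟩ := U
  show (AffAlg.algHom A.π B.π _ (RelSpec.QCAlg.specMap_π φ)).app (op U) ≫ B.gammaMap.app (op U) = A.gammaMap.app (op U) ≫ φ.hom.app (op U)
  rw [B.gammaMap_app U hU, A.gammaMap_app U hU, AffAlgBij.algHom_app]
  unfold RelSpec.QCAlg.gammaAff
  rw [← Category.assoc, Scheme.Hom.appLE_comp_appLE, Category.assoc, ← Scheme.ΓSpecIso_naturality]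
  conv_rhs => rw [← Category.assoc, Scheme.Hom.appTop, Scheme.Hom.app_eq_appLE, Scheme.Hom.appLE_comp_appLE]
  congr 2
  exact RelSpec.QCAlg.ι_specMap U hU φ

theorem gammaIso_inv_naturality {A B : RelSpec.QCAlg S} (φ : A ⟶ B) :
    φ ≫ (QCAlgPush.gammaIso B).inv = (QCAlgPush.gammaIso A).inv ≫
      QCAlgPush.ofHom A.π B.π (RelSpec.QCAlg.specMap φ) (RelSpec.QCAlg.specMap_π φ) := by
  rw [Iso.eq_inv_comp, ← Category.assoc, Iso.comp_inv_eq, gammaIso_naturality]

theorem π_eq {J : Type u} [SmallCategory J] [IsFiltered J] (A : J ⥤ RelSpec.QCAlg S) {T : Scheme.{u}}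
    (v : ∀ j : J, T ⟶ (A.obj j).spec)
    (hv : ∀ (j j' : J) (φ : j ⟶ j'), v j' ≫ RelSpec.QCAlg.specMap (A.map φ) = v j) (j j' : J) :
    v j ≫ (A.obj j).π = v j' ≫ (A.obj j').π := by
  have h : ∀ {a b : J} (φ : a ⟶ b), v a ≫ (A.obj a).π = v b ≫ (A.obj b).π := fun {a b} φ => by
    rw [← hv a b φ, Category.assoc, RelSpec.QCAlg.specMap_π]
  exact (h (IsFiltered.leftToMax j j')).trans (h (IsFiltered.rightToMax j j')).symm

theorem specMap_id (A : RelSpec.QCAlg S) : RelSpec.QCAlg.specMap (𝟙 A) = 𝟙 _ := by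
  refine QCAlgPush.ofHom_injective (f := A.π) (g := A.π) (w₁ := RelSpec.QCAlg.specMap_π _)
    (w₂ := Category.id_comp _) ?_
  rw [← cancel_mono (QCAlgPush.gammaIso A).hom, gammaIso_naturality, Category.comp_id]
  refine RelSpec.QCAlg.hom_ext ?_
  show A.gammaMap = AffAlg.algHom A.π A.π (𝟙 _) (Category.id_comp _) ≫ A.gammaMap
  have : AffAlg.algHom A.π A.π (𝟙 _) (Category.id_comp _) = 𝟙 _ := by
    refine NatTrans.ext (funext fun U => ?_)
    obtain ⟨U⟩ := U
    rw [AffAlgBij.algHom_app, Scheme.Hom.appLE, Scheme.Hom.id_app, Category.id_comp]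
    exact A.spec.presheaf.map_id _
  rw [this, Category.id_comp]

theorem specMap_comp {A B C : RelSpec.QCAlg S} (φ : A ⟶ B) (ψ : B ⟶ C) :
    RelSpec.QCAlg.specMap (φ ≫ ψ) = RelSpec.QCAlg.specMap ψ ≫ RelSpec.QCAlg.specMap φ := by
  refine QCAlgPush.ofHom_injective (f := A.π) (g := C.π) (w₁ := RelSpec.QCAlg.specMap_π _)
    (w₂ := by rw [Category.assoc, RelSpec.QCAlg.specMap_π, RelSpec.QCAlg.specMap_π]) ?_
  rw [← cancel_mono (QCAlgPush.gammaIso C).hom, gammaIso_naturality,
    ← QCAlgPush.ofHom_comp _ (RelSpec.QCAlg.specMap_π φ) _ (RelSpec.QCAlg.specMap_π ψ), Category.assoc,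
    gammaIso_naturality, ← Category.assoc (QCAlgPush.ofHom _ _ _ _), gammaIso_naturality, Category.assoc]

variable {J : Type u} [SmallCategory J] (A : J ⥤ RelSpec.QCAlg S)

/-- The diagram of spectra. -/
noncomputable def diagram : Jᵒᵖ ⥤ Scheme.{u} where
  obj j := (A.obj j.unop).spec
  map φ := RelSpec.QCAlg.specMap (A.map φ.unop)
  map_id j := by rw [show (𝟙 j : j ⟶ j).unop = 𝟙 j.unop from rfl, A.map_id, specMap_id]
  map_comp φ ψ := by rw [show (φ ≫ ψ).unop = ψ.unop ≫ φ.unop from rfl, A.map_comp, specMap_comp]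

instance {j k : Jᵒᵖ} (φ : j ⟶ k) : IsAffineHom ((diagram A).map φ) := by
  haveI : IsAffineHom ((diagram A).map φ ≫ (A.obj k.unop).π) := by
    rw [show (diagram A).map φ ≫ (A.obj k.unop).π = (A.obj j.unop).π from RelSpec.QCAlg.specMap_π _]
    infer_instance
  exact IsAffineHom.of_comp _ (A.obj k.unop).π

theorem existsUnique_lift [IsFiltered J] (c : Cocone A) (hc : IsColimit c)
    (T : Scheme.{u}) (v : ∀ j : J, T ⟶ (A.obj j).spec)
    (hv : ∀ (j j' : J) (φ : j ⟶ j'), v j' ≫ RelSpec.QCAlg.specMap (A.map φ) = v j) :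
    ∃! w : T ⟶ c.pt.spec, ∀ j : J, w ≫ RelSpec.QCAlg.specMap (c.ι.app j) = v j := by
  obtain ⟨L, hL, hLaff⟩ := Lib.Lim.Existence.exists_isLimit (D := diagram A)
  obtain ⟨j₀⟩ := (IsFiltered.nonempty : Nonempty J)
  let p : ∀ j : J, L.pt ⟶ (A.obj j).spec := fun j => L.π.app (op j)
  have hp : ∀ (j j' : J) (φ : j ⟶ j'), p j' ≫ RelSpec.QCAlg.specMap (A.map φ) = p j :=
    fun j j' φ => L.w φ.op
  let πL : L.pt ⟶ S := p j₀ ≫ (A.obj j₀).π
  haveI : IsAffineHom (p j₀) := hLaff _
  haveI : IsAffineHom πL := inferInstanceAs (IsAffineHom (p j₀ ≫ (A.obj j₀).π))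
  have hπ : ∀ j, p j ≫ (A.obj j).π = πL := fun j => π_eq A p hp j j₀
  -- the induced map of algebras
  let s : Cocone A :=
    { pt := RelSpec.QCAlg.directImage πL
      ι :=
        { app := fun j => (QCAlgPush.gammaIso (A.obj j)).inv ≫ QCAlgPush.ofHom (A.obj j).π πL (p j) (hπ j)
          naturality := fun j j' φ => by
            dsimp
            rw [Category.comp_id, ← cancel_epi (QCAlgPush.gammaIso (A.obj j)).hom, Iso.hom_inv_id_assoc,
              ← Category.assoc, ← Category.assoc, ← gammaIso_naturality, Category.assoc _ _ (QCAlgPush.gammaIso _).inv,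
              Iso.hom_inv_id, Category.comp_id, QCAlgPush.ofHom_comp]
            exact QCAlgPush.ofHom_congr (hp j j' φ) } }
  obtain ⟨h, hh, he⟩ := QCAlgPush.ofHom_surjective (f := c.pt.π) (g := πL)
    ((QCAlgPush.gammaIso c.pt).hom ≫ hc.desc s)
  let ι : ∀ j, A.obj j ⟶ c.pt := fun j => c.ι.app j
  have hhp : ∀ j, h ≫ RelSpec.QCAlg.specMap (ι j) = p j := fun j => by
    refine QCAlgPush.ofHom_injective (f := (A.obj j).π) (g := πL)
      (w₁ := by rw [Category.assoc, RelSpec.QCAlg.specMap_π, hh]) (w₂ := hπ j) ?_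
    rw [← QCAlgPush.ofHom_comp _ (RelSpec.QCAlg.specMap_π (ι j)) h hh, he, ← Category.assoc,
      gammaIso_naturality, Category.assoc]
    show (QCAlgPush.gammaIso (A.obj j)).hom ≫ c.ι.app j ≫ hc.desc s = _
    rw [hc.fac]
    exact Iso.hom_inv_id_assoc _ _
  let K : Cone (diagram A) :=
    { pt := c.pt.spec
      π :=
        { app := fun j => RelSpec.QCAlg.specMap (c.ι.app j.unop)
          naturality := fun j k φ => by
            show 𝟙 _ ≫ RelSpec.QCAlg.specMap (c.ι.app k.unop) =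
              RelSpec.QCAlg.specMap (c.ι.app j.unop) ≫ RelSpec.QCAlg.specMap (A.map φ.unop)
            rw [Category.id_comp, ← specMap_comp, c.w φ.unop] } }
  let q := hL.lift K
  have hq : ∀ j, q ≫ p j = RelSpec.QCAlg.specMap (ι j) := fun j => hL.fac K (op j)
  have hqπ : q ≫ πL = c.pt.π := by
    rw [← hπ j₀, ← Category.assoc, hq, RelSpec.QCAlg.specMap_π]
  have hqh : q ≫ h = 𝟙 _ := by
    refine QCAlgPush.ofHom_injective (f := c.pt.π) (g := c.pt.π)
      (w₁ := by rw [Category.assoc, hh, hqπ]) (w₂ := Category.id_comp _) ?_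
    rw [← cancel_mono (QCAlgPush.gammaIso c.pt).hom, ← cancel_epi (QCAlgPush.gammaIso c.pt).inv]
    refine hc.hom_ext fun j => ?_
    have key : ∀ (m : c.pt.spec ⟶ c.pt.spec) (w : m ≫ c.pt.π = c.pt.π),
        ι j ≫ (QCAlgPush.gammaIso c.pt).inv ≫ QCAlgPush.ofHom c.pt.π c.pt.π m w ≫ (QCAlgPush.gammaIso c.pt).hom =
        (QCAlgPush.gammaIso (A.obj j)).inv ≫ QCAlgPush.ofHom (A.obj j).π c.pt.π (m ≫ RelSpec.QCAlg.specMap (ι j))
          (by rw [Category.assoc, RelSpec.QCAlg.specMap_π, w]) ≫ (QCAlgPush.gammaIso c.pt).hom := fun m w => by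
      rw [reassoc_of% (gammaIso_inv_naturality (ι j))]
      congr 1
      rw [← Category.assoc, QCAlgPush.ofHom_comp]
    refine (key _ _).trans (Eq.trans ?_ (key _ _).symm)
    congr 2
    refine QCAlgPush.ofHom_congr ?_
    exact ((Category.assoc _ _ _).trans (congrArg (q ≫ ·) (hhp j))).trans ((hq j).trans (Category.id_comp _).symm)
  let L' : Cone (diagram A) :=
    { pt := T
      π :=
        { app := fun j => v j.unop
          naturality := fun j k φ => by
            show 𝟙 _ ≫ v k.unop = v j.unop ≫ RelSpec.QCAlg.specMap (A.map φ.unop)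
            rw [Category.id_comp, hv] } }
  refine ⟨hL.lift L' ≫ h, fun j => ?_, fun w hw => ?_⟩
  · rw [Category.assoc, hhp]
    exact hL.fac L' (op j)
  · have : w ≫ q = hL.lift L' := hL.uniq L' _ fun j => by
      rw [Category.assoc]
      exact (congrArg (w ≫ ·) (hq j.unop)).trans (hw j.unop)
    rw [← this, Category.assoc, hqh, Category.comp_id]

end Groth.Agent.H69.RelSpecLimit
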