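import Mathlib.RingTheory.Valuation.ValuationSubring
import Mathlib.RingTheory.Valuation.ValuationRing
import Mathlib.RingTheory.Localization.Away.Basic
import Mathlib.RingTheory.Flat.TorsionFree
import Mathlib.RingTheory.RingHom.Flat
import Mathlib.LinearAlgebra.TensorProduct.RightExactness

/-!
# Algebras over semi-valuation rings

`A` is the preimage in a local ring `O` of a valuation ring `R` of its residue field, and
`O = A[1/f]`. If `f` is regular on an `A`-algebra `B`, then `B ⊗_A R` is flat over `R`.
-/

set_option autoImplicit false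
set_option backward.isDefEq.respectTransparency false

universe u

open scoped TensorProduct

namespace Groth.Agent.H69.SemiVal

variable {O : Type u} [CommRing O] [IsLocalRing O]
  (R : ValuationSubring (IsLocalRing.ResidueField O))

/-- The residue map of a semi-valuation ring onto its valuation ring. -/
noncomputable def toVal : ↥((R.toSubring).comap (IsLocalRing.residue O)) →+* R :=
  ((IsLocalRing.residue O).comp ((R.toSubring).comap (IsLocalRing.residue O)).subtype).codRestrict
    R.toSubring (fun a => a.2)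

theorem toVal_surjective : Function.Surjective (toVal R) := fun r => by
  obtain ⟨x, hx⟩ := IsLocalRing.residue_surjective (r : IsLocalRing.ResidueField O)
  exact ⟨⟨x, show IsLocalRing.residue O x ∈ R from hx ▸ r.2⟩, Subtype.ext hx⟩

variable {R}

/-- An element outside the kernel of the residue map divides all elements of the kernel. -/
theorem exists_mul_eq {a m : ↥((R.toSubring).comap (IsLocalRing.residue O))}
    (ha : toVal R a ≠ 0) (hm : toVal R m = 0) : ∃ m', a * m' = m ∧ toVal R m' = 0 := by
  have hu : IsUnit (a : O) := by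
    by_contra hn
    refine ha (Subtype.ext ?_)
    show IsLocalRing.residue O (a : O) = 0
    rwa [IsLocalRing.residue_eq_zero_iff, IsLocalRing.mem_maximalIdeal, mem_nonunits_iff]
  have hm0 : IsLocalRing.residue O (m : O) = 0 := congrArg Subtype.val hm
  have hz : IsLocalRing.residue O ((↑hu.unit⁻¹ : O) * m) = 0 := by rw [map_mul, hm0, mul_zero]
  refine ⟨⟨(↑hu.unit⁻¹ : O) * m, show IsLocalRing.residue O _ ∈ R from hz ▸ R.zero_mem⟩,
    Subtype.ext ?_, Subtype.ext hz⟩
  show (a : O) * (↑hu.unit⁻¹ * (m : O)) = m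
  rw [← mul_assoc, hu.mul_val_inv, one_mul]

/-- An element outside the kernel of the residue map is regular wherever `f` is. -/
theorem mem_nonZeroDivisors (f : ↥((R.toSubring).comap (IsLocalRing.residue O)))
    [IsLocalization.Away f O] {B : Type u} [CommRing B]
    (φ : ↥((R.toSubring).comap (IsLocalRing.residue O)) →+* B) (hf : φ f ∈ nonZeroDivisors B)
    {a : ↥((R.toSubring).comap (IsLocalRing.residue O))} (ha : toVal R a ≠ 0) :
    φ a ∈ nonZeroDivisors B := by
  have hu : IsUnit (a : O) := by
    by_contra hn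
    refine ha (Subtype.ext ?_)
    show IsLocalRing.residue O (a : O) = 0
    rwa [IsLocalRing.residue_eq_zero_iff, IsLocalRing.mem_maximalIdeal, mem_nonunits_iff]
  obtain ⟨n, a', ha'⟩ := IsLocalization.Away.surj f (↑hu.unit⁻¹ : O)
  have e : a * a' = f ^ n := by
    refine Subtype.ext ?_
    rw [Subring.coe_mul, SubmonoidClass.coe_pow]
    have h' : (a' : O) = ↑hu.unit⁻¹ * (f : O) ^ n := ha'.symm
    rw [h', ← mul_assoc, hu.mul_val_inv, one_mul]
  have : φ a * φ a' ∈ nonZeroDivisors B := by rw [← map_mul, e, map_pow]; exact pow_mem hf n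
  exact (mul_mem_nonZeroDivisors.mp this).1

/-- `B ⊗_A R` is flat over `R` when `f` is regular on `B`. -/
theorem flat_tensor (f : ↥((R.toSubring).comap (IsLocalRing.residue O)))
    [IsLocalization.Away f O] {B : Type u} [CommRing B]
    [Algebra ↥((R.toSubring).comap (IsLocalRing.residue O)) B]
    (hf : algebraMap ↥((R.toSubring).comap (IsLocalRing.residue O)) B f ∈ nonZeroDivisors B) :
    letI := (toVal R).toAlgebra
    (Algebra.TensorProduct.includeRight : ↥R →ₐ[↥((R.toSubring).comap (IsLocalRing.residue O))]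
      B ⊗[↥((R.toSubring).comap (IsLocalRing.residue O))] ↥R).toRingHom.Flat := by
  letI := (toVal R).toAlgebra
  let A := ↥((R.toSubring).comap (IsLocalRing.residue O))
  let T := B ⊗[A] ↥R
  algebraize [(Algebra.TensorProduct.includeRight : ↥R →ₐ[A] T).toRingHom]
  show Module.Flat ↥R T
  rw [Module.Flat.flat_iff_torsion_eq_bot_of_isBezout, eq_bot_iff]
  intro x hx
  obtain ⟨⟨r, hr⟩, hrx⟩ := hx
  let g : A →ₐ[A] ↥R := Algebra.ofId A ↥R
  have hg : Function.Surjective g := toVal_surjective R
  have hker := Algebra.TensorProduct.lTensor_ker (A := B) g hg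
  let e := Algebra.TensorProduct.rid A A B
  obtain ⟨y, rfl⟩ := LinearMap.lTensor_surjective B (show Function.Surjective g.toLinearMap from hg) x
  obtain ⟨b, rfl⟩ := e.symm.surjective y
  obtain ⟨a, rfl⟩ := toVal_surjective R r
  have ha : toVal R a ≠ 0 := nonZeroDivisors.ne_zero hr
  rw [show e.symm b = b ⊗ₜ[A] (1 : A) from rfl] at hrx ⊢
  have h1 : (algebraMap A B a * b) ⊗ₜ[A] (1 : A) ∈
      RingHom.ker (Algebra.TensorProduct.map (AlgHom.id A B) g) := by
    rw [RingHom.mem_ker, Algebra.TensorProduct.map_tmul, AlgHom.id_apply, map_one,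
      ← Algebra.smul_def, TensorProduct.smul_tmul, Algebra.smul_def, mul_one]
    rw [Submonoid.mk_smul, Algebra.smul_def, LinearMap.lTensor_tmul] at hrx
    rw [show algebraMap ↥R T (toVal R a) = (1 : B) ⊗ₜ[A] toVal R a from rfl,
      Algebra.TensorProduct.tmul_mul_tmul, one_mul, AlgHom.toLinearMap_apply, map_one, mul_one]
      at hrx
    exact hrx
  rw [hker] at h1
  -- the image of the kernel in `B`
  let J : Ideal B := (RingHom.ker g).map (algebraMap A B)
  have hJ : ∀ z, z ∈ (RingHom.ker g).map
      (Algebra.TensorProduct.includeRight : A →ₐ[A] B ⊗[A] A) → e z ∈ J := fun z hz => by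
    show z ∈ Ideal.comap e.toRingHom J
    refine Ideal.map_le_iff_le_comap.mpr (fun m hm => ?_) hz
    show e ((1 : B) ⊗ₜ[A] m) ∈ J
    rw [show e ((1 : B) ⊗ₜ[A] m) = algebraMap A B m by simp [e, Algebra.smul_def]]
    exact Ideal.mem_map_of_mem _ hm
  have h2 : algebraMap A B a * b ∈ J := by
    have := hJ _ h1
    simpa [e] using this
  have h3 : J ≤ Ideal.span {algebraMap A B a} * J := by
    refine Ideal.map_le_iff_le_comap.mpr fun m hm => ?_
    obtain ⟨m', rfl, hm'⟩ := exists_mul_eq ha hm
    show algebraMap A B (a * m') ∈ Ideal.span {algebraMap A B a} * J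
    rw [map_mul]
    exact Ideal.mul_mem_mul (Ideal.mem_span_singleton_self _) (Ideal.mem_map_of_mem _ hm')
  obtain ⟨y, hy, hab⟩ := Ideal.mem_span_singleton_mul.mp (h3 h2)
  have hb : b ∈ J := by
    rwa [← (mul_cancel_left_mem_nonZeroDivisors (mem_nonZeroDivisors f (algebraMap A B) hf ha)).mp hab]
  rw [Submodule.mem_bot]
  show Algebra.TensorProduct.map (AlgHom.id A B) g (b ⊗ₜ 1) = 0
  suffices J ≤ (RingHom.ker (Algebra.TensorProduct.map (AlgHom.id A B) g)).comap
      (Algebra.TensorProduct.includeLeft : B →ₐ[A] B ⊗[A] A) from this hb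
  refine Ideal.map_le_iff_le_comap.mpr fun m hm => ?_
  show Algebra.TensorProduct.map (AlgHom.id A B) g ((algebraMap A B m) ⊗ₜ[A] (1 : A)) = 0
  rw [← mul_one (algebraMap A B m), ← Algebra.smul_def, TensorProduct.smul_tmul,
    Algebra.TensorProduct.map_tmul, Algebra.smul_def, mul_one, Algebra.algebraMap_self_apply,
    RingHom.mem_ker.mp hm, TensorProduct.tmul_zero]

end Groth.Agent.H69.SemiVal
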