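import Groth.Agent.H69.LineBundle
import Groth.Agent.Lib.Cyc.CH.Line
import Groth.Agent.Lib.CurveBundle.Coherent

/-!
# Projective bundles with disjoint sections split
-/

set_option autoImplicit false
set_option linter.style.haveILetI false
set_option maxHeartbeats 1000000
set_option backward.isDefEq.respectTransparency.types false
universe u

open CategoryTheory CategoryTheory.Limits AlgebraicGeometry Opposite TopologicalSpace

noncomputable section

namespace Groth.Agent.H69.SplitBundle

open Groth.Agent Groth.Agent.Lib Modules.StalkModule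

/-- Over a point with a field as local ring, a nonzero map to an invertible module is surjective. -/
theorem epi_of_ne_zero {X : Scheme.{u}} [IsIntegral X] [Subsingleton X] {M N : X.Modules}
    (hN : PicF.IsInvertible N) (φ : M ⟶ N) (hφ : φ ≠ 0) : Epi φ := by
  have hex : ∃ x : X, stalkMapₗ φ x ≠ 0 := by
    by_contra h
    push Not at h
    exact hφ (hom_ext_stalkMapₗ fun x => by rw [h x, stalkMapₗ_zero])
  obtain ⟨x, hx⟩ := hex
  refine (epi_iff_stalkMapₗ_surjective φ).2 fun y => ?_
  obtain rfl : y = x := Subsingleton.elim _ _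
  obtain rfl : y = genericPoint X := Subsingleton.elim _ _
  obtain ⟨t, ht, -⟩ := Cyc.C1Indep.exists_free_gen hN (genericPoint X)
  obtain ⟨v, hv⟩ : ∃ v, stalkMapₗ φ (genericPoint X) v ≠ 0 := by
    by_contra h
    push Not at h
    exact hx (LinearMap.ext h)
  intro w
  obtain ⟨a, ha⟩ := Submodule.mem_span_singleton.1
    (show stalkMapₗ φ (genericPoint X) v ∈ Submodule.span (X.presheaf.stalk (genericPoint X)) {t} by
      rw [ht]; trivial)
  obtain ⟨b, rfl⟩ := Submodule.mem_span_singleton.1
    (show w ∈ Submodule.span (X.presheaf.stalk (genericPoint X)) {t} by rw [ht]; trivial)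
  have ha0 : a ≠ 0 := fun h => hv (by rw [← ha, h, zero_smul])
  obtain ⟨c, hc⟩ : ∃ c : X.presheaf.stalk (genericPoint X), c * a = 1 :=
    ⟨(show X.functionField from a)⁻¹, inv_mul_cancel₀ (a := (show X.functionField from a)) ha0⟩
  exact ⟨(b * c) • v, by rw [map_smul, ← ha, smul_smul, mul_assoc, hc, mul_one]⟩

/-- Two surjections to invertible modules over a point whose joint map is not surjective agree. -/
theorem epi_lift_or_iso {X : Scheme.{u}} [IsIntegral X] [Subsingleton X] {M N₁ N₂ : X.Modules}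
    (h₁ : PicF.IsInvertible N₁) (h₂ : PicF.IsInvertible N₂) (a : M ⟶ N₁) (b : M ⟶ N₂) [Epi a] [Epi b] :
    (∀ {Z : X.Modules} (t₁ : N₁ ⟶ Z) (t₂ : N₂ ⟶ Z), a ≫ t₁ + b ≫ t₂ = 0 → t₁ = 0 ∧ t₂ = 0) ∨
      ∃ i : N₁ ≅ N₂, a ≫ i.hom = b := by
  by_cases hk : kernel.ι a ≫ b = 0
  · right
    let i := Abelian.epiDesc a b hk
    have hi : a ≫ i = b := Abelian.comp_epiDesc a b hk
    haveI : Epi (a ≫ i) := by rw [hi]; infer_instance
    haveI : Epi i := epi_of_epi a i
    haveI := Cyc.CH.isIso_of_epi_invertible h₁ h₂ i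
    exact ⟨asIso i, hi⟩
  · left
    intro Z t₁ t₂ ht
    haveI := epi_of_ne_zero h₂ _ hk
    have h2 : t₂ = 0 := by
      rw [← cancel_epi (kernel.ι a ≫ b), comp_zero, Category.assoc]
      have h := congrArg (fun m => kernel.ι a ≫ m) ht
      simpa using h
    refine ⟨?_, h2⟩
    rw [h2, comp_zero, add_zero] at ht
    rw [← cancel_epi a, ht, comp_zero]

variable {X S : Scheme.{u}} {f : X ⟶ S}

/-- The restriction of the tautological quotient to a section. -/
def sect (E : S.Modules) {L : X.Modules} (q : (Scheme.Modules.pullback f).obj E ⟶ L) {s : S ⟶ X}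
    (hs : s ≫ f = 𝟙 S) : (Scheme.Modules.pullback (𝟙 S)).obj E ⟶ (Scheme.Modules.pullback s).obj L :=
  (Scheme.Modules.pullbackCongr hs).inv.app E ≫ (Scheme.Modules.pullbackComp s f).inv.app E ≫
    (Scheme.Modules.pullback s).map q

/-- The quotient of a section. -/
def quot (E : S.Modules) {L : X.Modules} (q : (Scheme.Modules.pullback f).obj E ⟶ L) {s : S ⟶ X}
    (hs : s ≫ f = 𝟙 S) : E ⟶ (Scheme.Modules.pullback s).obj L :=
  (Scheme.Modules.pullbackId S).inv.app E ≫ sect E q hs

theorem epi_sect {E : S.Modules} {L : X.Modules} (q : (Scheme.Modules.pullback f).obj E ⟶ L) [Epi q]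
    {s : S ⟶ X} (hs : s ≫ f = 𝟙 S) : Epi (sect E q hs) := by
  haveI : (Scheme.Modules.pullback s).IsLeftAdjoint :=
    (Scheme.Modules.pullbackPushforwardAdjunction s).isLeftAdjoint
  haveI : Epi ((Scheme.Modules.pullback s).map q) := inferInstance
  unfold sect
  infer_instance

theorem epi_quot {E : S.Modules} {L : X.Modules} (q : (Scheme.Modules.pullback f).obj E ⟶ L) [Epi q]
    {s : S ⟶ X} (hs : s ≫ f = 𝟙 S) : Epi (quot E q hs) := by
  haveI := epi_sect q hs
  unfold quot
  infer_instance

open Cyc.CH.Classify in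
/-- Two sections inducing the same quotient at a point pass through the same point. -/
theorem comp_eq_of_iso {E : S.Modules} {L : X.Modules} {q : (Scheme.Modules.pullback f).obj E ⟶ L}
    (hP : KRR.IsProjBundle f E L q) {s₁ s₂ : S ⟶ X} (h₁ : s₁ ≫ f = 𝟙 S) (h₂ : s₂ ≫ f = 𝟙 S)
    {T : Scheme.{u}} (a : T ⟶ S)
    (i : (Scheme.Modules.pullback a).obj ((Scheme.Modules.pullback s₁).obj L) ≅
      (Scheme.Modules.pullback a).obj ((Scheme.Modules.pullback s₂).obj L))
    (hi : (Scheme.Modules.pullback a).map (quot E q h₁) ≫ i.hom =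
      (Scheme.Modules.pullback a).map (quot E q h₂)) : a ≫ s₁ = a ≫ s₂ := by
  haveI := hP.epi
  haveI := epi_sect q h₂
  haveI : (Scheme.Modules.pullback a).IsLeftAdjoint :=
    (Scheme.Modules.pullbackPushforwardAdjunction a).isLeftAdjoint
  have hi' : (Scheme.Modules.pullback a).map (sect E q h₁) ≫ i.hom =
      (Scheme.Modules.pullback a).map (sect E q h₂) := by
    rw [← cancel_epi ((Scheme.Modules.pullback a).map ((Scheme.Modules.pullbackId S).inv.app E)),
      ← Category.assoc, ← Functor.map_comp, ← Functor.map_comp]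
    exact hi
  have c₁ : Carries q h₁ (sect E q h₁) (Iso.refl _).hom :=
    Carries.of_comp_eq h₁ (by simp [sect])
  have c₂ : Carries q h₂ (sect E q h₂) (Iso.refl _).hom :=
    Carries.of_comp_eq h₂ (by simp [sect])
  have ha : a ≫ 𝟙 S = a := Category.comp_id a
  let σ := (Scheme.Modules.pullbackCongr ha).inv.app E ≫ (Scheme.Modules.pullbackComp a (𝟙 S)).inv.app E ≫
    (Scheme.Modules.pullback a).map (sect E q h₂)
  haveI : Epi ((Scheme.Modules.pullback a).map (sect E q h₂)) := inferInstance
  haveI : Epi σ := by simp only [σ]; infer_instance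
  have d₁ := c₁.comp ha (s' := σ) i.hom fun U _ m => by
    refine (comp_app_pbRes (sect E q h₁) ha i.hom U m).symm.trans ?_
    rw [hi']
  have d₂ := c₂.comp ha (s' := σ) (Iso.refl _).hom fun U _ m => by
    refine (comp_app_pbRes (sect E q h₂) ha (Iso.refl _).hom U m).symm.trans ?_
    simp [σ]
  exact eq_of_carries hP (TensorMod.LocFree.of_isInvertible (PicLoc.isInvertible_pullback _
      (PicLoc.isInvertible_pullback _ (TensorMod.LocFree.isInvertible_of_rank_one hP.invertible)))) σ
    (i := compIso a (Iso.refl _) ≪≫ i) (i' := compIso a (Iso.refl _) ≪≫ Iso.refl _) d₁ d₂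

/-- A sum of modules locally free of ranks `m` and `n`. -/
theorem rank_biprod {M N : X.Modules} {m n : ℕ} (hM : FlatMod.IsFinLocFreeOfRank m M)
    (hN : FlatMod.IsFinLocFreeOfRank n N) : FlatMod.IsFinLocFreeOfRank (m + n) (M ⊞ N) := fun x => by
  obtain ⟨U, hxU, ⟨i⟩⟩ := hM x
  obtain ⟨V, hxV, ⟨j⟩⟩ := hN x
  obtain ⟨i'⟩ := TensorMod.LocFree.exists_restrict_iso_freeMod (inf_le_left : U ⊓ V ≤ U) i
  obtain ⟨j'⟩ := TensorMod.LocFree.exists_restrict_iso_freeMod (inf_le_right : U ⊓ V ≤ V) j
  have : PreservesColimitsOfSize.{u, u} (Scheme.Modules.restrictFunctor (U ⊓ V).ι) :=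
    (Scheme.Modules.restrictAdjunction (U ⊓ V).ι).leftAdjoint_preservesColimits
  have := TensorMod.LocFree.preservesFinCoproducts (Scheme.Modules.restrictFunctor (U ⊓ V).ι) WalkingPair
  exact ⟨U ⊓ V, ⟨hxU, hxV⟩, ⟨(Scheme.Modules.restrictFunctor (U ⊓ V).ι).mapIso (biprod.isoCoprod M N) ≪≫
    (PreservesColimitPair.iso _ M N).symm ≪≫ coprod.mapIso i' j' ≪≫
      TensorMod.LocFree.freeModAddIso _ m n⟩⟩

/-- A surjection of modules locally free of the same rank is an isomorphism. -/
theorem isIso_of_epi_of_rank {M N : X.Modules} {n : ℕ} (hM : FlatMod.IsFinLocFreeOfRank n M)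
    (hN : FlatMod.IsFinLocFreeOfRank n N) (φ : M ⟶ N) [Epi φ] : IsIso φ := by
  rw [isIso_iff_stalkMapₗ_bijective]
  intro x
  obtain ⟨bM⟩ := CurveBundle.Coherent.exists_basis_stalk hM x
  obtain ⟨bN⟩ := CurveBundle.Coherent.exists_basis_stalk hN x
  haveI := Module.Finite.of_basis bM
  have hs := (epi_iff_stalkMapₗ_surjective φ).1 inferInstance x
  let ε := bN.equiv bM (Equiv.refl _)
  have h := OrzechProperty.injective_of_surjective_endomorphism
    (ε.toLinearMap.comp (stalkMapₗ φ x)) (ε.surjective.comp hs)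
  exact ⟨fun v w hvw => h (congrArg ε hvw), hs⟩

/-- Disjoint sections split the module of a projective line bundle. -/
theorem isIso_lift_quot {E : S.Modules} {L : X.Modules} {q : (Scheme.Modules.pullback f).obj E ⟶ L}
    (hE : FlatMod.IsFinLocFreeOfRank 2 E)
    (hP : KRR.IsProjBundle f E L q) {s₁ s₂ : S ⟶ X} (h₁ : s₁ ≫ f = 𝟙 S) (h₂ : s₂ ≫ f = 𝟙 S)
    (hd : Disjoint (Set.range s₁) (Set.range s₂)) :
    IsIso (biprod.lift (quot E q h₁) (quot E q h₂)) := by
  have hinv := TensorMod.LocFree.isInvertible_of_rank_one hP.invertible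
  have hsum := rank_biprod (TensorMod.LocFree.of_isInvertible (PicLoc.isInvertible_pullback s₁ hinv))
    (TensorMod.LocFree.of_isInvertible (PicLoc.isInvertible_pullback s₂ hinv))
  let G := (Scheme.Modules.pullback s₁).obj L ⊞ (Scheme.Modules.pullback s₂).obj L
  haveI : SheafOfModules.IsFinitePresentation (R := S.ringCatSheaf) G :=
    TensorMod.FPConv.isFP_of_isFinLocFree (TensorMod.LocFree.of_rank hsum)
  haveI : SheafOfModules.IsFiniteType (R := S.ringCatSheaf) G := inferInstance
  haveI : Epi (biprod.lift (quot E q h₁) (quot E q h₂)) := by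
    refine ExchangeFP29.CounitFibre.epi_of_pullback (G := G) _ fun y =>
      ⟨_, S.fromSpecResidueField y, IsLocalRing.closedPoint _, S.fromSpecResidueField_apply y _, ?_⟩
    let a := S.fromSpecResidueField y
    let F := Scheme.Modules.pullback a
    haveI : F.IsLeftAdjoint := (Scheme.Modules.pullbackPushforwardAdjunction a).isLeftAdjoint
    haveI : F.Additive := (Scheme.Modules.pullbackPushforwardAdjunction a).left_adjoint_additive
    haveI : Subsingleton (Spec (S.residueField y)) := inferInstanceAs (Subsingleton (PrimeSpectrum _))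
    haveI : IsIntegral (Spec (S.residueField y)) := inferInstance
    haveI := hP.epi
    haveI := epi_quot q h₁
    haveI := epi_quot q h₂
    rcases epi_lift_or_iso (PicLoc.isInvertible_pullback a (PicLoc.isInvertible_pullback s₁ hinv))
        (PicLoc.isInvertible_pullback a (PicLoc.isInvertible_pullback s₂ hinv))
        (F.map (quot E q h₁)) (F.map (quot E q h₂)) with h | ⟨i, hi⟩
    · refine Preadditive.epi_of_cancel_zero _ fun {Z} t ht => ?_
      change F.map _ ≫ t = 0 at ht
      rw [biprod.lift_eq, Functor.map_add, Functor.map_comp, Functor.map_comp, Preadditive.add_comp,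
        Category.assoc, Category.assoc] at ht
      obtain ⟨e₁, e₂⟩ := h _ _ ht
      have hid : F.map (biprod.fst ≫ biprod.inl + biprod.snd ≫ biprod.inr : G ⟶ G) ≫ t = t := by
        rw [biprod.total, CategoryTheory.Functor.map_id, Category.id_comp]
      rw [← hid, Functor.map_add, Functor.map_comp, Functor.map_comp, Preadditive.add_comp,
        Category.assoc, Category.assoc, e₁, e₂, comp_zero, comp_zero, add_zero]
    · exfalso
      have h := congrArg (fun k : Spec (S.residueField y) ⟶ X => k (IsLocalRing.closedPoint _))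
        (comp_eq_of_iso hP h₁ h₂ a i hi)
      simp only [Scheme.Hom.comp_apply, a, Scheme.fromSpecResidueField_apply] at h
      exact Set.disjoint_left.1 hd ⟨y, rfl⟩ ⟨y, h.symm⟩
  exact isIso_of_epi_of_rank hE hsum _

/-- Transport of a projective bundle along an isomorphism of modules. -/
theorem isProjBundle_of_moduleIso {E F : S.Modules} {L : X.Modules}
    {q : (Scheme.Modules.pullback f).obj E ⟶ L} (hP : KRR.IsProjBundle f E L q) (φ : E ≅ F) :
    KRR.IsProjBundle f F L ((Scheme.Modules.pullback f).map φ.inv ≫ q) := by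
  refine ⟨hP.invertible, by haveI := hP.epi; infer_instance, fun T g L' hL' t ht => ?_⟩
  haveI := ht
  have key : ∀ (h : T ⟶ X) (hg : h ≫ f = g) (e : (Scheme.Modules.pullback h).obj L ⟶ L'),
      ((Scheme.Modules.pullbackCongr hg).inv.app F ≫ (Scheme.Modules.pullbackComp h f).inv.app F ≫
        (Scheme.Modules.pullback h).map ((Scheme.Modules.pullback f).map φ.inv ≫ q) ≫ e = t) ↔
      ((Scheme.Modules.pullbackCongr hg).inv.app E ≫ (Scheme.Modules.pullbackComp h f).inv.app E ≫
        (Scheme.Modules.pullback h).map q ≫ e = (Scheme.Modules.pullback g).map φ.hom ≫ t) := by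
    intro h hg e
    have n : (Scheme.Modules.pullbackCongr hg).inv.app F ≫ (Scheme.Modules.pullbackComp h f).inv.app F ≫
        (Scheme.Modules.pullback h).map ((Scheme.Modules.pullback f).map φ.inv ≫ q) ≫ e =
        (Scheme.Modules.pullback g).map φ.inv ≫ (Scheme.Modules.pullbackCongr hg).inv.app E ≫
          (Scheme.Modules.pullbackComp h f).inv.app E ≫ (Scheme.Modules.pullback h).map q ≫ e := by
      rw [Functor.map_comp, Category.assoc]
      erw [← (Scheme.Modules.pullbackComp h f).inv.naturality_assoc φ.inv]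
      erw [← (Scheme.Modules.pullbackCongr hg).inv.naturality_assoc φ.inv]
    rw [n, ← cancel_epi ((Scheme.Modules.pullback g).map φ.hom), ← Category.assoc, ← Functor.map_comp,
      Iso.hom_inv_id, CategoryTheory.Functor.map_id, Category.id_comp]
  obtain ⟨k, ⟨hk, i, hi⟩, huniq⟩ := hP.univ T g L' hL' ((Scheme.Modules.pullback g).map φ.hom ≫ t)
    inferInstance
  exact ⟨k, ⟨hk, i, (key k hk i.hom).2 hi⟩,
    fun k' ⟨hk', i', hi'⟩ => huniq k' ⟨hk', i', (key k' hk' i'.hom).1 hi'⟩⟩

end Groth.Agent.H69.SplitBundle
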