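import Groth.Agent.Lib.Lim.Descend

/-!
# Descent of a property local on the target, over a quasi-compact scheme over a stage
-/

set_option autoImplicit false
set_option backward.isDefEq.respectTransparency false
universe u

open CategoryTheory CategoryTheory.Limits AlgebraicGeometry Groth.Agent.Lib.Lim.Basic
  Groth.Agent.Lib.Lim.Descend

namespace Groth.Agent.H69.StageLocal

variable {P Q : MorphismProperty Scheme.{u}}

/-- No separation hypothesis on `Y₀` or on the stage is needed for a property local on the target. -/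
theorem exists_stage [IsZariskiLocalAtTarget P] [P.IsStableUnderBaseChange]
    [Q.IsStableUnderBaseChange] (H : Descends P Q)
    {I : Type u} [SmallCategory I] [IsCofiltered I]
    (D : I ⥤ Scheme.{u}) (c : Cone D) (hc : IsLimit c)
    [∀ (i j : I) (f : i ⟶ j), IsAffineHom (D.map f)] (i₀ : I)
    {X₀ Y₀ : Scheme.{u}} (f₀ : X₀ ⟶ Y₀) (g₀ : Y₀ ⟶ D.obj i₀) [CompactSpace Y₀]
    [QuasiCompact f₀] [QuasiSeparated f₀]
    {X Y : Scheme.{u}} (f : X ⟶ Y) (g : Y ⟶ c.pt) (qY : Y ⟶ Y₀) (qX : X ⟶ X₀)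
    (hY : IsPullback qY g g₀ (c.π.app i₀)) (hX : IsPullback qX f f₀ qY) (hQ : Q f₀) (hP : P f) :
    ∃ (i : I) (φ : i ⟶ i₀), P (pullback.snd f₀ (pullback.fst g₀ (D.map φ))) := by
  let 𝒰 := Y₀.affineCover.finiteSubcover
  let U : 𝒰.I₀ → Y₀.Opens := fun k => (𝒰.f k).opensRange
  have hk : ∀ k, ∃ (i : I) (φ : i ⟶ i₀),
      P (pullback.snd f₀ ((pullback.fst g₀ (D.map φ) ∣_ U k) ≫ (U k).ι)) := by
    intro k
    have hU : IsAffineOpen (U k) :=
      @isAffineOpen_opensRange _ _ (inferInstanceAs (IsAffine (Spec _))) (𝒰.f k) _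
    haveI : IsAffine (U k : Scheme.{u}) := hU
    haveI : QuasiCompact (f₀ ∣_ U k) := IsZariskiLocalAtTarget.restrict ‹_› _
    haveI : QuasiSeparated (f₀ ∣_ U k) := IsZariskiLocalAtTarget.restrict ‹_› _
    haveI : CompactSpace ↥(f₀ ⁻¹ᵁ U k).toScheme :=
      QuasiCompact.compactSpace_of_compactSpace (f₀ ∣_ U k)
    haveI : QuasiSeparatedSpace ↥(f₀ ⁻¹ᵁ U k).toScheme :=
      quasiSeparatedSpace_of_quasiSeparated (f₀ ∣_ U k)
    have hY' : IsPullback (qY ∣_ U k) ((qY ⁻¹ᵁ U k).ι ≫ g) ((U k).ι ≫ g₀) (c.π.app i₀) :=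
      (isPullback_morphismRestrict qY (U k)).paste_vert hY
    have hQk : Q (f₀ ∣_ U k) := Q.of_isPullback (isPullback_morphismRestrict f₀ (U k)).flip hQ
    have hPk : P (pullback.snd (f₀ ∣_ U k) (qY ∣_ U k)) := by
      have h := (IsPullback.of_hasPullback (f₀ ∣_ U k) (qY ∣_ U k)).paste_horiz
        (isPullback_morphismRestrict f₀ (U k)).flip
      rw [morphismRestrict_ι] at h
      have h' : IsPullback (hX.lift (pullback.fst (f₀ ∣_ U k) (qY ∣_ U k) ≫ (f₀ ⁻¹ᵁ U k).ι)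
            (pullback.snd (f₀ ∣_ U k) (qY ∣_ U k) ≫ (qY ⁻¹ᵁ U k).ι) (by simpa using h.w))
          (pullback.snd (f₀ ∣_ U k) (qY ∣_ U k)) f (qY ⁻¹ᵁ U k).ι := by
        refine IsPullback.of_right ?_ (hX.lift_snd _ _ _) hX
        rw [hX.lift_fst]
        exact h
      exact P.of_isPullback h' hP
    obtain ⟨i, φ, Xi, Yi, fi, gi, pY, pX, hYi, hXi, hi⟩ :=
      descend_over H D c hc i₀ (f₀ ∣_ U k) ((U k).ι ≫ g₀) _ _ _ _ hY'
        (IsPullback.of_hasPullback (f₀ ∣_ U k) (qY ∣_ U k)) hQk hPk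
    refine ⟨i, φ, ?_⟩
    let p := pullback.fst g₀ (D.map φ)
    have hYi' : IsPullback (p ∣_ U k) ((p ⁻¹ᵁ U k).ι ≫ pullback.snd g₀ (D.map φ)) ((U k).ι ≫ g₀)
        (D.map φ) := (isPullback_morphismRestrict p (U k)).paste_vert (IsPullback.of_hasPullback _ _)
    have h2 : IsPullback (pX ≫ (f₀ ⁻¹ᵁ U k).ι) fi f₀ (pY ≫ (U k).ι) :=
      hXi.paste_horiz (isPullback_morphismRestrict f₀ (U k)).flip
    have hfi : P (pullback.snd f₀ (pY ≫ (U k).ι)) := by
      rw [← h2.isoPullback_inv_snd]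
      exact (MorphismProperty.cancel_left_of_respectsIso P _ _).2 hi
    exact prop_of_factor hfi (hYi.isoIsPullback _ _ hYi').inv
      (by rw [← Category.assoc, IsPullback.isoIsPullback_inv_fst])
      (IsPullback.of_hasPullback _ _)
  choose i φ hi using hk
  obtain ⟨j, ψ, χ, hχ⟩ := IsCofiltered.wideCospan φ
  refine ⟨j, ψ, ?_⟩
  refine IsZariskiLocalAtTarget.of_iSup_eq_top (fun k => pullback.fst g₀ (D.map ψ) ⁻¹ᵁ U k) ?_
    fun k => ?_
  · rw [← Scheme.Hom.preimage_iSup, 𝒰.iSup_opensRange]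
    rfl
  · let p := pullback.fst g₀ (D.map ψ)
    let p' := pullback.fst g₀ (D.map (φ k))
    let t : pullback g₀ (D.map ψ) ⟶ pullback g₀ (D.map (φ k)) :=
      pullback.lift (pullback.fst _ _) (pullback.snd _ _ ≫ D.map (χ k))
        (by rw [Category.assoc, ← D.map_comp, hχ, pullback.condition])
    have ht : t ≫ p' = p := pullback.lift_fst _ _ _
    have hle : p ⁻¹ᵁ U k ≤ t ⁻¹ᵁ (p' ⁻¹ᵁ U k) := by rw [← Scheme.Hom.comp_preimage, ht]
    refine prop_of_factor (hi k) (t.resLE _ _ hle)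
      (b' := (p ⁻¹ᵁ U k).ι ≫ p) ?_
      ((isPullback_morphismRestrict (pullback.snd f₀ p) (p ⁻¹ᵁ U k)).flip.paste_horiz
        (IsPullback.of_hasPullback f₀ p))
    simp [p', morphismRestrict_ι, Scheme.Hom.resLE_comp_ι_assoc, ht]

end Groth.Agent.H69.StageLocal
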