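import Groth.Agent.H69.NormalDescend
import Groth.Agent.H69.IdealStage
import Groth.Agent.Lib.FreeRes.SubGrp
import Groth.Agent.Lib.Lim.Approx.Integral
import Groth.Agent.Lib.Ideal.Comap
import Groth.Agent.H69.IdealLP

/-!
# Closed subgroup schemes descend to a stage
-/

set_option autoImplicit false
set_option backward.isDefEq.respectTransparency false
set_option linter.unusedVariables false
set_option synthInstance.maxHeartbeats 400000

universe u

open CategoryTheory CategoryTheory.Limits AlgebraicGeometry MonoidalCategory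
open CartesianMonoidalCategory MonObj GrpObj
open Groth.Agent.Lib.RedPts Groth.Agent.Lib.Lim

namespace Groth.Agent.H69.SubgroupStage

section Over

variable {S B : Scheme.{u}}

/-- All points over `a` of `W` have image in the subscheme. -/
def FactorsOver {H G W : Over S} (ic : H ⟶ G) (u : W ⟶ G) (a : B ⟶ S) : Prop :=
  ∀ (X : Over S) (t : X ⟶ Over.mk a) (x : X ⟶ W), ∃ y : X ⟶ H, y ≫ ic = x ≫ u

theorem factorsOver_comp {B' : Scheme.{u}} (b : B' ⟶ B) {a : B ⟶ S} {a' : B' ⟶ S} (e : b ≫ a = a')
    {H G W : Over S} {ic : H ⟶ G} {u : W ⟶ G} (h : FactorsOver ic u a) : FactorsOver ic u a' :=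
  fun X t x => h X (t ≫ Over.homMk b e) x

variable {G H : Over S} [GrpObj G] (ic : H ⟶ G)

/-- The map whose factorisation expresses closedness under multiplication. -/
noncomputable def mulMap : H ⊗ H ⟶ G := (fst H H ≫ ic) * (snd H H ≫ ic)

/-- The map whose factorisation expresses closedness under inversion. -/
noncomputable def invMap : H ⟶ G := ic⁻¹

/-- The map whose factorisation expresses containment of the unit. -/
noncomputable def oneMap : 𝟙_ (Over S) ⟶ G := (1 : 𝟙_ (Over S) ⟶ G)

variable (a : B ⟶ S)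

theorem factorsOver_of_grpObj
    (h : ∃ _ : GrpObj (Red.bc a H), IsMonHom ((Over.pullback a).map ic)) :
    FactorsOver ic (mulMap ic) a ∧ FactorsOver ic (invMap ic) a ∧
      FactorsOver ic (oneMap (G := G)) a := by
  obtain ⟨g, hg⟩ := h
  refine ⟨fun X t x => ?_, fun X t x => ?_, fun X t x => ?_⟩
  · refine ⟨NormalDescend.inc a t ≫ BC.down a (NormalDescend.pt a t (x ≫ fst H H) *
      NormalDescend.pt a t (x ≫ snd H H)), ?_⟩
    rw [Category.assoc, ← BC.down_map, MonObj.mul_comp, BC.down_mul, MonObj.comp_mul, BC.down_map,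
      BC.down_map, ← Category.assoc, ← Category.assoc, NormalDescend.inc_down_pt,
      NormalDescend.inc_down_pt, mulMap, MonObj.comp_mul, Category.assoc, Category.assoc]
  · refine ⟨NormalDescend.inc a t ≫ BC.down a (NormalDescend.pt a t x)⁻¹, ?_⟩
    rw [Category.assoc, ← BC.down_map, GrpObj.inv_comp, BC.down_inv, GrpObj.comp_inv, BC.down_map,
      ← Category.assoc, NormalDescend.inc_down_pt, invMap, GrpObj.comp_inv]
  · refine ⟨NormalDescend.inc a t ≫ BC.down a (1 : Over.mk t.left ⟶ Red.bc a H), ?_⟩
    rw [Category.assoc, ← BC.down_map, MonObj.one_comp, BC.down_one, MonObj.comp_one, oneMap,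
      MonObj.comp_one]

theorem exists_grpObj_of_factorsOver [IsClosedImmersion ic.left]
    (hm : FactorsOver ic (mulMap ic) a) (hi : FactorsOver ic (invMap ic) a)
    (h1 : FactorsOver ic (oneMap (G := G)) a) :
    ∃ _ : GrpObj (Red.bc a H), IsMonHom ((Over.pullback a).map ic) := by
  have : IsClosedImmersion ((Over.pullback a).map ic).left :=
    MorphismProperty.of_isPullback (P := @IsClosedImmersion)
      (NormalDescend.isPullback_map_left a ic) inferInstance
  have : Mono ((Over.pullback a).map ic) := Over.mono_of_mono_left _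
  refine Lib.FreeRes.exists_grpObj_of_mono _ (fun T => ?_) (fun {T} p q => ?_) (fun {T} p => ?_)
  · obtain ⟨y, hy⟩ := h1 ((Over.map a).obj T) (Over.homMk T.hom rfl) (toUnit _)
    refine ⟨BC.up a y, BC.down_injective ?_⟩
    rw [BC.down_map, BC.down_up, hy, oneMap, MonObj.comp_one, BC.down_one]
  · obtain ⟨y, hy⟩ := hm ((Over.map a).obj T) (Over.homMk T.hom rfl)
      (lift (BC.down a p) (BC.down a q))
    refine ⟨BC.up a y, BC.down_injective ?_⟩
    rw [BC.down_map, BC.down_up, hy, mulMap, MonObj.comp_mul, lift_fst_assoc, lift_snd_assoc,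
      BC.down_mul, BC.down_map, BC.down_map]
  · obtain ⟨y, hy⟩ := hi ((Over.map a).obj T) (Over.homMk T.hom rfl) (BC.down a p)
    refine ⟨BC.up a y, BC.down_injective ?_⟩
    rw [BC.down_map, BC.down_up, hy, invMap, GrpObj.comp_inv, BC.down_inv, BC.down_map]

theorem isNormalHom_iff [GrpObj (Red.bc a H)] :
    AlgGrp.IsNormalHom ((Over.pullback a).map ic) ↔ NormalDescend.NormalOver ic a := by
  constructor
  · intro h X t g n
    obtain ⟨n', hn'⟩ := h _ (NormalDescend.pt a t g) (NormalDescend.pt a t n)
    refine ⟨NormalDescend.inc a t ≫ BC.down a n', ?_⟩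
    have e := congrArg (fun z => NormalDescend.inc a t ≫ BC.down a z) hn'
    simp only [BC.down_mul, BC.down_inv, BC.down_map, MonObj.comp_mul, GrpObj.comp_inv,
      ← Category.assoc, NormalDescend.inc_down_pt] at e
    exact e
  · intro h X g n
    obtain ⟨n', hn'⟩ := h ((Over.map a).obj X) (Over.homMk X.hom rfl) (BC.down a g) (BC.down a n)
    refine ⟨BC.up a n', BC.down_injective ?_⟩
    simp only [BC.down_mul, BC.down_inv, BC.down_map, BC.down_up]
    exact hn'

end Over

section Limit

variable {I : Type u} [SmallCategory I] [IsCofiltered I] {D : I ⥤ Scheme.{u}} {c : Cone D}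
  [∀ (i j : I) (f : i ⟶ j), IsAffineHom (D.map f)]

theorem exists_factorsOver (hc : IsLimit c) {j : I} {H G W : Over (D.obj j)} (ic : H ⟶ G)
    [IsClosedImmersion ic.left] [LocallyOfFinitePresentation ic.left] (u : W ⟶ G)
    [CompactSpace W.left] [QuasiSeparatedSpace W.left] (h : FactorsOver ic u (c.π.app j)) :
    ∃ (k : I) (f : k ⟶ j), FactorsOver ic u (D.map f) := by
  have hA : ∀ {i k : I} (g : i ⟶ k), IsAffineHom (D.map g) := fun g => inferInstance
  let P := pullback W.hom (c.π.app j)
  have hP : IsPullback (pullback.fst W.hom (c.π.app j)) (pullback.snd _ _) W.hom (c.π.app j) :=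
    IsPullback.of_hasPullback _ _
  let cE := Basic.bcCone hP.w
  have hcE : IsLimit cE := Basic.isLimitBcCone hc hP
  let o : Over j := Over.mk (𝟙 j)
  let E := Basic.bcDiagram D W.hom
  let p : E.obj o ⟶ W.left := pullback.fst _ _
  have := Basic.compactSpace_bcDiagram D W.hom o
  have := Basic.quasiSeparatedSpace_bcDiagram D W.hom o
  have hlim : (ic.left.ker.comap (p ≫ u.left)).comap (cE.π.app o) ≤
      (⊥ : (E.obj o).IdealSheafData).comap (cE.π.app o) := by
    rw [← Scheme.IdealSheafData.comap_comp, Scheme.IdealSheafData.comap_bot,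
      ← Scheme.IdealSheafData.le_map_iff_comap_le, Scheme.IdealSheafData.map_bot]
    have e : cE.π.app o ≫ p ≫ u.left = pullback.fst W.hom (c.π.app j) ≫ u.left :=
      Basic.bcCone_π_fst_assoc hP.w o _
    rw [e]
    obtain ⟨y, hy⟩ := h (Over.mk (pullback.fst W.hom (c.π.app j) ≫ W.hom))
      (Over.homMk (pullback.snd _ _) pullback.condition.symm)
      (Over.homMk (pullback.fst W.hom (c.π.app j)) rfl)
    rw [show pullback.fst W.hom (c.π.app j) ≫ u.left = y.left ≫ ic.left from
      (congrArg Over.Hom.left hy).symm]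
    exact Scheme.Hom.le_ker_comp _ _
  obtain ⟨k, g, hg⟩ := IdealStage.exists_comap_le_comap hcE _ ⊥
    (IdealLP.isFG_comap (p ≫ u.left) (Approx.Integral.isFG_ker_of_lfp ic.left)) hlim
  refine ⟨k.left, k.hom, fun X t x => ?_⟩
  rw [← Scheme.IdealSheafData.comap_comp, Scheme.IdealSheafData.comap_bot,
    ← Scheme.IdealSheafData.le_map_iff_comap_le, Scheme.IdealSheafData.map_bot] at hg
  let m : X.left ⟶ E.obj k := pullback.lift x.left t.left ((Over.w x).trans (Over.w t).symm)
  have hm : x.left ≫ u.left = m ≫ E.map g ≫ p ≫ u.left := by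
    rw [show E.map g ≫ p ≫ u.left = pullback.fst _ _ ≫ u.left from
      Basic.bcDiagram_map_fst_assoc D W.hom g u.left, pullback.lift_fst_assoc]
  refine ⟨Over.homMk (IsClosedImmersion.lift ic.left (x.left ≫ u.left) ?_) ?_, ?_⟩
  · rw [hm]
    exact hg.trans (Scheme.Hom.le_ker_comp _ _)
  · rw [← Over.w ic, IsClosedImmersion.lift_fac_assoc, Category.assoc, Over.w u, Over.w x]
  · apply Over.OverMorphism.ext
    exact IsClosedImmersion.lift_fac _ _ _

end Limit

end Groth.Agent.H69.SubgroupStage
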