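import Groth.Agent.H69.SyntomicStage
import Groth.Agent.Lib.Synt92.MorStd
import Groth.Agent.Lib.Lim.Approx.Rel
import Groth.Agent.Lib.Lim.Eventual

/-!
# Syntomic ring maps descend along a directed colimit
-/

set_option autoImplicit false
set_option linter.style.haveILetI false
set_option backward.isDefEq.respectTransparency false
universe u

open CategoryTheory CategoryTheory.Limits AlgebraicGeometry Opposite
open Groth.Agent.Lib.Lim.Basic
open scoped TensorProduct

namespace Groth.Agent.H69.SyntomicRing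

/-- Syntomic ring maps are the complete intersection morphisms of affine schemes. -/
theorem ci_spec_iff (R T : Type u) [CommRing R] [CommRing T] [Algebra R T] :
    CInt.IsCIMorphism (Spec.map (CommRingCat.ofHom (algebraMap R T))) ↔ Synt.IsSyntomic R T := by
  let f := Spec.map (CommRingCat.ofHom (algebraMap R T))
  let ψ : CommRingCat.of R ⟶ CommRingCat.of T := CommRingCat.ofHom (algebraMap R T)
  let eR : R ≃+* Γ(Spec (CommRingCat.of R), ⊤) :=
    (Scheme.ΓSpecIso (CommRingCat.of R)).symm.commRingCatIsoToRingEquiv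
  let eT : T ≃+* Γ(Spec (CommRingCat.of T), ⊤) :=
    (Scheme.ΓSpecIso (CommRingCat.of T)).symm.commRingCatIsoToRingEquiv
  have he : ∀ r, eT (algebraMap R T r) = (f.appLE ⊤ ⊤ le_top).hom (eR r) := by
    intro r
    show (ψ ≫ (Scheme.ΓSpecIso (CommRingCat.of T)).inv) r =
      ((Scheme.ΓSpecIso (CommRingCat.of R)).inv ≫ f.appLE ⊤ ⊤ le_top) r
    rw [Scheme.ΓSpecIso_inv_naturality, Scheme.Hom.appTop, Scheme.Hom.app_eq_appLE]
    rfl
  letI := (f.appLE ⊤ ⊤ le_top).hom.toAlgebra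
  constructor
  · intro h
    exact Lib.Synt92.MorStd.isSyntomic_of_arrow eR eT he
      (Lib.Synt92.MorCrit.isSyntomic_appLE f h ⟨⊤, isAffineOpen_top _⟩ ⟨⊤, isAffineOpen_top _⟩ le_top)
  · intro h
    refine (Lib.Synt92.MorCrit.isSyntomicMor_iff f).1 fun x =>
      ⟨⟨⊤, isAffineOpen_top _⟩, ⟨⊤, isAffineOpen_top _⟩, le_top, trivial, ?_⟩
    refine Lib.Synt92.MorStd.isSyntomic_of_arrow eR.symm eT.symm (fun a => ?_) h
    obtain ⟨r, rfl⟩ := eR.surjective a
    apply eT.injective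
    rw [RingEquiv.apply_symm_apply, RingEquiv.symm_apply_apply, he]
    rfl

/-- The square of a tensor product. -/
theorem isPullback_tensor (R S T : Type u) [CommRing R] [CommRing S] [CommRing T] [Algebra R S]
    [Algebra R T] :
    IsPullback (Spec.map (CommRingCat.ofHom (Algebra.TensorProduct.includeLeftRingHom : S →+* S ⊗[R] T)))
      (Spec.map (CommRingCat.ofHom
        (Algebra.TensorProduct.includeRight.toRingHom : T →+* S ⊗[R] T)))
      (Spec.map (CommRingCat.ofHom (algebraMap R S))) (Spec.map (CommRingCat.ofHom (algebraMap R T))) :=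
  isPullback_SpecMap_of_isPushout _ _ _ _ (CommRingCat.isPushout_tensorProduct R S T)

variable {ι : Type u} [Preorder ι] [IsDirected ι (· ≤ ·)] [Nonempty ι] {A₀ : Type u} [CommRing A₀]
  {G : ι → Type u} [∀ i, CommRing (G i)] [∀ i, Algebra A₀ (G i)]
  (f : ∀ i j, i ≤ j → (G i →ₐ[A₀] G j)) {A : Type u} [CommRing A] [Algebra A₀ A]
  (g : ∀ i, G i →ₐ[A₀] A) (hg : ∀ i j (h : i ≤ j), (g j).comp (f i j h) = g i)
  (hsurj : ∀ a : A, ∃ i, ∃ x : G i, g i x = a)
  (hker : ∀ i (x : G i), g i x = 0 → ∃ j, ∃ h : i ≤ j, f i j h x = 0)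

include hg hker in
/-- Finitely many elements of the kernel die under a compatible map to another stage. -/
theorem exists_kill {i : ι} (t : Finset (G i)) (ht : ∀ x ∈ t, g i x = 0) :
    ∃ (j : ι) (φ : G i →ₐ[A₀] G j), (g j).comp φ = g i ∧ ∀ x ∈ t, φ x = 0 := by
  classical
  induction t using Finset.induction_on with
  | empty => exact ⟨i, AlgHom.id _ _, AlgHom.comp_id _, by simp⟩
  | insert a t _ ih =>
    obtain ⟨j, φ, hφ, hz⟩ := ih fun x hx => ht x (Finset.mem_insert_of_mem hx)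
    obtain ⟨k, hjk, hk⟩ := hker j (φ a) (by
      rw [← AlgHom.comp_apply, hφ]; exact ht a (Finset.mem_insert_self _ _))
    refine ⟨k, (f j k hjk).comp φ, by rw [← AlgHom.comp_assoc, hg, hφ], fun x hx => ?_⟩
    rcases Finset.mem_insert.1 hx with rfl | hx
    · exact hk
    · rw [AlgHom.comp_apply, hz x hx, map_zero]

include hg hsurj hker in
/-- A map from a finitely presented algebra to the colimit factors through a stage. -/
theorem exists_factor (P : Type u) [CommRing P] [Algebra A₀ P] [Algebra.FinitePresentation A₀ P]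
    (u : P →ₐ[A₀] A) : ∃ (j : ι) (v : P →ₐ[A₀] G j), (g j).comp v = u := by
  classical
  obtain ⟨n, π, hπ, hfg⟩ := Algebra.FinitePresentation.out (R := A₀) (A := P)
  choose i x hx using fun m : Fin n => hsurj (u (π (MvPolynomial.X m)))
  obtain ⟨i₁, hi₁⟩ := Finset.exists_le (Finset.univ.image i)
  let y : Fin n → G i₁ := fun m => f (i m) i₁ (hi₁ _ (Finset.mem_image_of_mem i (Finset.mem_univ m))) (x m)
  let Φ : MvPolynomial (Fin n) A₀ →ₐ[A₀] G i₁ := MvPolynomial.aeval y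
  have hΦ : (g i₁).comp Φ = u.comp π := MvPolynomial.algHom_ext fun m => by
    simp only [AlgHom.comp_apply, Φ, MvPolynomial.aeval_X, y]
    rw [← AlgHom.comp_apply, hg]
    exact hx m
  obtain ⟨t, ht⟩ := hfg
  obtain ⟨j, φ, hφ, hz⟩ := exists_kill f g hg hker (t.image Φ) fun z hz => by
    obtain ⟨r, hr, rfl⟩ := Finset.mem_image.1 hz
    rw [← AlgHom.comp_apply, hΦ, AlgHom.comp_apply]
    rw [show π r = 0 from (show r ∈ RingHom.ker π.toRingHom from ht ▸ Ideal.subset_span hr), map_zero]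
  let Ψ := φ.comp Φ
  have hle : RingHom.ker π.toRingHom ≤ RingHom.ker Ψ.toRingHom := by
    rw [← ht]
    exact Ideal.span_le.2 fun r hr => hz _ (Finset.mem_image_of_mem _ hr)
  refine ⟨j, AlgHom.liftOfSurjective π hπ Ψ hle, AlgHom.ext fun p => ?_⟩
  obtain ⟨r, rfl⟩ := hπ p
  rw [AlgHom.comp_apply, AlgHom.liftOfSurjective_apply, ← AlgHom.comp_apply, ← AlgHom.comp_assoc, hφ, hΦ]
  rfl

include hg hsurj hker in
/-- Syntomic base changes descend to a stage. -/
theorem exists_isSyntomic (B₀ : Type u) [CommRing B₀] [Algebra A₀ B₀] (C₀ : Type u) [CommRing C₀]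
    [Algebra B₀ C₀] [Algebra.FinitePresentation B₀ C₀]
    (h : Synt.IsSyntomic (B₀ ⊗[A₀] A) ((B₀ ⊗[A₀] A) ⊗[B₀] C₀)) :
    ∃ i, Synt.IsSyntomic (B₀ ⊗[A₀] G i) ((B₀ ⊗[A₀] G i) ⊗[B₀] C₀) := by
  classical
  let sA : Spec (CommRingCat.of A) ⟶ Spec (CommRingCat.of A₀) :=
    Spec.map (CommRingCat.ofHom (algebraMap A₀ A))
  let sB : Spec (CommRingCat.of B₀) ⟶ Spec (CommRingCat.of A₀) :=
    Spec.map (CommRingCat.ofHom (algebraMap A₀ B₀))
  let sC : Spec (CommRingCat.of C₀) ⟶ Spec (CommRingCat.of B₀) :=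
    Spec.map (CommRingCat.ofHom (algebraMap B₀ C₀))
  haveI : LocallyOfFinitePresentation sC :=
    (HasRingHomProperty.Spec_iff (P := @LocallyOfFinitePresentation)).2
      (RingHom.finitePresentation_algebraMap.2 inferInstance)
  haveI : IsAffineHom sA := isAffineHom_of_isAffine _
  obtain ⟨R₀⟩ := Lib.Lim.Approx.Rel.exists_relApprox sA
  obtain ⟨k₀⟩ := R₀.ne
  haveI : IsAffineHom (R₀.π.app (op k₀) ≫ R₀.t.app (op k₀)) := by rw [R₀.w]; infer_instance
  obtain ⟨⟨k₁⟩, -, hk₁⟩ := Lib.Lim.Eventual.exists_isAffineHom (D := R₀.D) (c := R₀.cone) R₀.t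
    R₀.isLimit (op k₀)
  let R := R₀.tail k₁
  haveI haff : ∀ k : R.Kᵒᵖ, IsAffine (R.D.obj k) := fun k => by
    haveI : IsAffineHom (R₀.t.app (op k.unop.1)) := hk₁ _ (homOfLE k.unop.2).op
    exact @isAffine_of_isAffineHom _ (Spec (CommRingCat.of A₀)) (R₀.t.app (op k.unop.1)) _ _
  obtain ⟨r₀⟩ := R.ne
  let o : R.Kᵒᵖ := op r₀
  let tr₀ : R.D.obj o ⟶ Spec (CommRingCat.of A₀) := R.t.app o
  let πo : Spec (CommRingCat.of A) ⟶ R.D.obj o := R.π.app o
  have hπo : πo ≫ tr₀ = sA := R.w o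
  let T := pullback sB tr₀
  let X₀ := pullback sC (pullback.fst sB tr₀)
  let pB := Spec.map (CommRingCat.ofHom
    (Algebra.TensorProduct.includeLeftRingHom : B₀ →+* B₀ ⊗[A₀] A))
  let pA := Spec.map (CommRingCat.ofHom
    (Algebra.TensorProduct.includeRight.toRingHom : A →+* B₀ ⊗[A₀] A))
  have hBA : IsPullback pB pA sB sA := isPullback_tensor A₀ B₀ A
  let qY : Spec (CommRingCat.of (B₀ ⊗[A₀] A)) ⟶ T :=
    pullback.lift pB (pA ≫ πo) (by rw [Category.assoc, hπo]; exact hBA.w)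
  have hY : IsPullback qY pA (pullback.snd sB tr₀) (R.cone.π.app o) := by
    refine IsPullback.of_right ?_ (pullback.lift_snd _ _ _) (IsPullback.of_hasPullback sB tr₀)
    show IsPullback (qY ≫ pullback.fst sB tr₀) pA sB (πo ≫ tr₀)
    rw [pullback.lift_fst, hπo]
    exact hBA
  let qC := Spec.map (CommRingCat.ofHom
    (Algebra.TensorProduct.includeRight.toRingHom : C₀ →+* (B₀ ⊗[A₀] A) ⊗[B₀] C₀))
  let fX := Spec.map (CommRingCat.ofHom (algebraMap (B₀ ⊗[A₀] A) ((B₀ ⊗[A₀] A) ⊗[B₀] C₀)))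
  have hCA : IsPullback qC fX sC pB := (isPullback_tensor B₀ (B₀ ⊗[A₀] A) C₀).flip
  let qX : Spec (CommRingCat.of ((B₀ ⊗[A₀] A) ⊗[B₀] C₀)) ⟶ X₀ :=
    pullback.lift qC (fX ≫ qY) (by rw [Category.assoc, pullback.lift_fst]; exact hCA.w)
  have hX : IsPullback qX fX (pullback.snd sC (pullback.fst sB tr₀)) qY := by
    refine IsPullback.of_right ?_ (pullback.lift_snd _ _ _) (IsPullback.of_hasPullback _ _)
    rw [pullback.lift_fst, pullback.lift_fst]
    exact hCA
  haveI : ∀ (i j : R.Kᵒᵖ) (a : i ⟶ j), IsAffineHom (R.D.map a) := fun i j a => R.affine a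
  haveI : IsAffine T := inferInstance
  haveI : IsAffine X₀ := inferInstance
  obtain ⟨k, φ, Xk, Yk, fk, gk, pY, pX, hYk, hXk, hk⟩ := Lib.Lim.Descend.descend_over
    SyntomicStage.ci_descends R.D R.cone R.isLimit o (pullback.snd sC (pullback.fst sB tr₀))
    (pullback.snd sB tr₀) fX pA qY qX hY hX (MorphismProperty.pullback_snd _ _ inferInstance)
    ((ci_spec_iff _ _).2 h)
  -- a point of the stage over a ring of the system
  let P : Type u := Γ(R.D.obj k, ⊤)
  let tk : R.D.obj k ⟶ Spec (CommRingCat.of A₀) := R.t.app k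
  let e := (R.D.obj k).isoSpec
  obtain ⟨θ, hθ⟩ := Spec.map_surjective (e.inv ≫ tk)
  letI : Algebra A₀ P := θ.hom.toAlgebra
  haveI : LocallyOfFinitePresentation tk := R.lfp k
  haveI : Algebra.FinitePresentation A₀ P := by
    have h1 : LocallyOfFinitePresentation (Spec.map θ) := by rw [hθ]; infer_instance
    exact (HasRingHomProperty.Spec_iff (P := @LocallyOfFinitePresentation)).1 h1
  obtain ⟨μ, hμ⟩ := Spec.map_surjective ((R.π.app k : Spec (CommRingCat.of A) ⟶ R.D.obj k) ≫ e.hom)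
  let u : P →ₐ[A₀] A := AlgHom.mk μ.hom fun a => by
    have : θ ≫ μ = CommRingCat.ofHom (algebraMap A₀ A) := Spec.map_injective (by
      rw [Spec.map_comp, hθ, hμ, Category.assoc, e.hom_inv_id_assoc]
      exact R.w k)
    exact congrArg (fun ψ : CommRingCat.of A₀ ⟶ CommRingCat.of A => ψ a) this
  obtain ⟨j, v, -⟩ := exists_factor f g hg hsurj hker P u
  refine ⟨j, (ci_spec_iff _ _).1 ?_⟩
  let w : Spec (CommRingCat.of (G j)) ⟶ R.D.obj k := Spec.map (CommRingCat.ofHom v.toRingHom) ≫ e.inv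
  let sG : Spec (CommRingCat.of (G j)) ⟶ Spec (CommRingCat.of A₀) :=
    Spec.map (CommRingCat.ofHom (algebraMap A₀ (G j)))
  have hw : w ≫ tk = sG := by
    rw [Category.assoc, ← hθ, ← Spec.map_comp]
    exact congrArg Spec.map (CommRingCat.hom_ext v.comp_algebraMap)
  let pB' := Spec.map (CommRingCat.ofHom
    (Algebra.TensorProduct.includeLeftRingHom : B₀ →+* B₀ ⊗[A₀] G j))
  let pG := Spec.map (CommRingCat.ofHom
    (Algebra.TensorProduct.includeRight.toRingHom : G j →+* B₀ ⊗[A₀] G j))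
  have hBG : IsPullback pB' pG sB sG := isPullback_tensor A₀ B₀ (G j)
  have hw2 : w ≫ R.D.map φ ≫ tr₀ = sG := by
    have : R.D.map φ ≫ tr₀ = tk := (R.t.naturality φ).trans (Category.comp_id _)
    rw [this, hw]
  let s : Spec (CommRingCat.of (B₀ ⊗[A₀] G j)) ⟶ Yk :=
    hYk.lift (pullback.lift pB' (pG ≫ w ≫ R.D.map φ)
      (by rw [Category.assoc, Category.assoc, hw2]; exact hBG.w)) (pG ≫ w)
      (by rw [pullback.lift_snd]; simp only [w, Category.assoc])
  have hs : s ≫ pY ≫ pullback.fst sB tr₀ = pB' := by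
    rw [← Category.assoc, hYk.lift_fst, pullback.lift_fst]
  have hsC := hXk.paste_horiz (IsPullback.of_hasPullback sC (pullback.fst sB tr₀))
  have hCG := (isPullback_tensor B₀ (B₀ ⊗[A₀] G j) C₀).flip
  let l := hsC.lift (Spec.map (CommRingCat.ofHom
    (Algebra.TensorProduct.includeRight.toRingHom : C₀ →+* (B₀ ⊗[A₀] G j) ⊗[B₀] C₀))) (Spec.map (CommRingCat.ofHom
    (algebraMap (B₀ ⊗[A₀] G j) ((B₀ ⊗[A₀] G j) ⊗[B₀] C₀))) ≫ s) (by
      rw [Category.assoc, hs]; exact hCG.w)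
  have hsq : IsPullback l (Spec.map (CommRingCat.ofHom
      (algebraMap (B₀ ⊗[A₀] G j) ((B₀ ⊗[A₀] G j) ⊗[B₀] C₀)))) fk s := by
    refine IsPullback.of_right ?_ (hsC.lift_snd _ _ _) hsC
    rw [hsC.lift_fst, hs]
    exact hCG
  exact SyntomicStage.ci_of_isPullback' hsq hk

end Groth.Agent.H69.SyntomicRing
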