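import Groth.Agent.Lib.Lim.Descend
import Groth.Agent.Lib.Lim.FPDescend
import Groth.Agent.H47.LimDescend
import Groth.Agent.H2.FlatDescend.Model
import Groth.Agent.Lib.Lim.OpenImm
import Groth.Prelude.Def_Red

/-!
# Torsors descend through limits
-/

set_option autoImplicit false
set_option backward.isDefEq.respectTransparency false
set_option linter.unusedVariables false

universe u

open CategoryTheory CategoryTheory.Limits AlgebraicGeometry MonoidalCategory
open CartesianMonoidalCategory
open Groth.Agent.Lib.Lim.Basic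

namespace Groth.Agent.H69.TorsorDescend

variable {S B : Scheme.{u}} (a : B ⟶ S)

/-- The comparison of the base-changed graph of an action with the base change of the graph. -/
theorem isIso_theta_iff {G X : Over S} (m : G ⊗ X ⟶ X) :
    IsIso (lift (Functor.LaxMonoidal.μ (Over.pullback a) G X ≫ (Over.pullback a).map m)
      (snd (Red.bc a G) (Red.bc a X))) ↔ IsIso ((Over.pullback a).map (lift m (snd G X))) := by
  have e : lift (Functor.LaxMonoidal.μ (Over.pullback a) G X ≫ (Over.pullback a).map m)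
      (snd (Red.bc a G) (Red.bc a X)) = Functor.LaxMonoidal.μ (Over.pullback a) G X ≫
        (Over.pullback a).map (lift m (snd G X)) ≫ Functor.OplaxMonoidal.δ (Over.pullback a) X X := by
    apply CartesianMonoidalCategory.hom_ext
    · rw [lift_fst, Category.assoc, Category.assoc, Functor.OplaxMonoidal.δ_fst, ← Functor.map_comp,
        lift_fst]
    · rw [lift_snd, Category.assoc, Category.assoc, Functor.OplaxMonoidal.δ_snd, ← Functor.map_comp,
        lift_snd, Functor.Monoidal.μ_snd]
  rw [e, isIso_comp_left_iff, isIso_comp_right_iff]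

theorem isPullback_map_left {G H : Over S} (u : H ⟶ G) :
    IsPullback (pullback.fst H.hom a) ((Over.pullback a).map u).left u.left
      (pullback.fst G.hom a) := by
  refine IsPullback.of_bot ?_ ?_ (IsPullback.of_hasPullback G.hom a)
  · have h1 : ((Over.pullback a).map u).left ≫ pullback.snd G.hom a = pullback.snd H.hom a :=
      Over.w ((Over.pullback a).map u)
    rw [h1, Over.w u]
    exact IsPullback.of_hasPullback _ _
  · simp [Over.pullback_map_left]

theorem isIso_comp {G H : Over S} {u : H ⟶ G} {B' : Scheme.{u}} (b : B' ⟶ B) {a' : B' ⟶ S}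
    (e : b ≫ a = a') (h : IsIso ((Over.pullback a).map u)) :
    IsIso ((Over.pullback a').map u) := by
  subst e
  have : IsIso ((Over.pullback b).map ((Over.pullback a).map u)) := inferInstance
  exact (NatIso.isIso_map_iff (Over.pullbackComp b a) u).mpr this

theorem cover_comp (X : Over S) {B' : Scheme.{u}} (b : B' ⟶ B) {a' : B' ⟶ S} (e : b ≫ a = a')
    (h : ∃ (Z : Scheme.{u}) (v : Z ⟶ B) (w : Z ⟶ (Red.bc a X).left), w ≫ (Red.bc a X).hom = v ∧
      Flat v ∧ Surjective v ∧ LocallyOfFinitePresentation v ∧ QuasiCompact v ∧ QuasiSeparated v) :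
    ∃ (Z : Scheme.{u}) (v : Z ⟶ B') (w : Z ⟶ (Red.bc a' X).left), w ≫ (Red.bc a' X).hom = v ∧
      Flat v ∧ Surjective v ∧ LocallyOfFinitePresentation v ∧ QuasiCompact v ∧ QuasiSeparated v := by
  obtain ⟨Z, v, w, hw, h1, h2, h3, h4, h5⟩ := h
  refine ⟨pullback v b, pullback.snd v b, pullback.lift (pullback.fst v b ≫ w ≫ pullback.fst X.hom a)
    (pullback.snd v b) ?_, pullback.lift_snd _ _ _,
    MorphismProperty.pullback_snd (P := @Flat) _ _ h1,
    MorphismProperty.pullback_snd (P := @Surjective) _ _ h2,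
    MorphismProperty.pullback_snd (P := @LocallyOfFinitePresentation) _ _ h3,
    MorphismProperty.pullback_snd (P := @QuasiCompact) _ _ h4,
    MorphismProperty.pullback_snd (P := @QuasiSeparated) _ _ h5⟩
  rw [Category.assoc, Category.assoc, pullback.condition (f := X.hom) (g := a),
    show w ≫ pullback.snd X.hom a ≫ a = v ≫ a from
      (Category.assoc _ _ _).symm.trans (congrArg (· ≫ a) hw),
    pullback.condition_assoc, e]

section Limit

variable {I : Type u} [SmallCategory I] [IsCofiltered I] {D : I ⥤ Scheme.{u}} {c : Cone D}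
  [∀ (i j : I) (f : i ⟶ j), IsAffineHom (D.map f)]
  [∀ i, CompactSpace (D.obj i)] [∀ i, QuasiSeparatedSpace (D.obj i)]
  (hc : IsLimit c) {j : I} {G X : Over (D.obj j)}
  [LocallyOfFinitePresentation G.hom] [QuasiCompact G.hom] [QuasiSeparated G.hom]
  [LocallyOfFinitePresentation X.hom] [QuasiCompact X.hom] [QuasiSeparated X.hom]

include hc

theorem exists_isIso (m : G ⊗ X ⟶ X)
    (h : IsIso ((Over.pullback (c.π.app j)).map (lift m (snd G X)))) :
    ∃ (i : I) (f : i ⟶ j), IsIso ((Over.pullback (D.map f)).map (lift m (snd G X))) := by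
  have hcomp (A₁ A₂ : Over (D.obj j)) [QuasiCompact A₁.hom] [QuasiSeparated A₁.hom]
      [LocallyOfFinitePresentation A₁.hom] [QuasiCompact A₂.hom] [QuasiSeparated A₂.hom]
      [LocallyOfFinitePresentation A₂.hom] :
      CompactSpace (A₁ ⊗ A₂).left ∧ QuasiSeparatedSpace (A₁ ⊗ A₂).left ∧
        LocallyOfFinitePresentation (A₁ ⊗ A₂).hom := by
    have : QuasiCompact (pullback.fst A₁.hom A₂.hom) :=
      MorphismProperty.pullback_fst (P := @QuasiCompact) _ _ inferInstance
    have : QuasiSeparated (pullback.fst A₁.hom A₂.hom) :=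
      MorphismProperty.pullback_fst (P := @QuasiSeparated) _ _ inferInstance
    have : LocallyOfFinitePresentation (pullback.fst A₁.hom A₂.hom) :=
      MorphismProperty.pullback_fst (P := @LocallyOfFinitePresentation) _ _ inferInstance
    exact ⟨QuasiCompact.compactSpace_of_compactSpace (pullback.fst A₁.hom A₂.hom ≫ A₁.hom),
      quasiSeparatedSpace_of_quasiSeparated (pullback.fst A₁.hom A₂.hom ≫ A₁.hom),
      inferInstanceAs (LocallyOfFinitePresentation (pullback.fst A₁.hom A₂.hom ≫ A₁.hom))⟩
  obtain ⟨_, _, hl₁⟩ := hcomp G X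
  obtain ⟨_, _, hl₂⟩ := hcomp X X
  let θ := lift m (snd G X)
  have : LocallyOfFinitePresentation (θ.left ≫ (X ⊗ X).hom) := by rw [Over.w θ]; exact hl₁
  have : LocallyOfFinitePresentation θ.left := Lib.Lim.OpenImm.lfp_of_comp _ (X ⊗ X).hom
  have : MorphismProperty.RespectsIso (C := Scheme.{u}) @LocallyOfFinitePresentation :=
    MorphismProperty.IsStableUnderBaseChange.respectsIso
  have hl : IsIso ((Over.pullback (c.π.app j)).map θ).left := inferInstance
  obtain ⟨i, f, Xi, Yi, fi, gi, pY, pX, h1, h2, h3⟩ := Lib.Lim.Descend.descend_over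
    H47.LimDescend.isIso_descends D c hc j θ.left (X ⊗ X).hom ((Over.pullback (c.π.app j)).map θ).left
    (pullback.snd (X ⊗ X).hom (c.π.app j)) (pullback.fst (X ⊗ X).hom (c.π.app j))
    (pullback.fst (G ⊗ X).hom (c.π.app j)) (IsPullback.of_hasPullback _ _) (isPullback_map_left _ θ)
    ‹LocallyOfFinitePresentation θ.left› hl
  refine ⟨i, f, ?_⟩
  let e := h1.isoPullback
  have sq : IsPullback pX (fi ≫ e.hom) θ.left (pullback.fst (X ⊗ X).hom (D.map f)) :=
    h2.of_iso (Iso.refl _) (Iso.refl _) e (Iso.refl _) (by simp) (by simp) (by simp) (by simp [e])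
  have hm : IsIso fi := h3
  let w := sq.isoIsPullback _ _ (isPullback_map_left (D.map f) θ)
  have hw : w.hom ≫ ((Over.pullback (D.map f)).map θ).left = fi ≫ e.hom :=
    IsPullback.isoIsPullback_hom_snd _ _ _ _
  have : IsIso ((Over.pullback (D.map f)).map θ).left := by
    rw [show ((Over.pullback (D.map f)).map θ).left = w.inv ≫ fi ≫ e.hom by
      rw [← hw, Iso.inv_hom_id_assoc]]
    infer_instance
  have : IsIso ((Over.forget _).map ((Over.pullback (D.map f)).map θ)) := this
  exact isIso_of_reflects_iso ((Over.pullback (D.map f)).map θ) (Over.forget _)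

omit [LocallyOfFinitePresentation G.hom] [QuasiCompact G.hom] [QuasiSeparated G.hom] in
theorem exists_cover (X : Over (D.obj j)) [LocallyOfFinitePresentation X.hom]
    (h : ∃ (Z : Scheme.{u}) (v : Z ⟶ c.pt) (w : Z ⟶ (Red.bc (c.π.app j) X).left),
      w ≫ (Red.bc (c.π.app j) X).hom = v ∧
        Flat v ∧ Surjective v ∧ LocallyOfFinitePresentation v ∧ QuasiCompact v ∧ QuasiSeparated v) :
    ∃ (i : I) (f : i ⟶ j) (Z : Scheme.{u}) (v : Z ⟶ D.obj i) (w : Z ⟶ (Red.bc (D.map f) X).left),
      w ≫ (Red.bc (D.map f) X).hom = v ∧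
        Flat v ∧ Surjective v ∧ LocallyOfFinitePresentation v ∧ QuasiCompact v ∧ QuasiSeparated v := by
  have hA : ∀ {i j : I} (g : i ⟶ j), IsAffineHom (D.map g) := fun g => inferInstance
  obtain ⟨Z, v, w, hw, h1, h2, h3, h4, h5⟩ := h
  have := compactSpace_pt hc j
  have := quasiSeparatedSpace_pt hc j
  have : CompactSpace Z := QuasiCompact.compactSpace_of_compactSpace v
  have : QuasiSeparatedSpace Z := quasiSeparatedSpace_of_quasiSeparated v
  obtain ⟨i, Zi, vi, g, hcZ, hqZ, hvi, hg⟩ := Lib.Lim.FPDescend.exists_descent hc v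
  obtain ⟨i₁, φ₁, hf₁⟩ := H2.FlatDescend.flatFp_descends D c hc (fun _ _ _ => inferInstance) i
    inferInstance inferInstance vi hcZ hqZ hvi v g hg ⟨h1, h3⟩
  obtain ⟨i₂, φ₂, hf₂⟩ := H47.LimDescend.surjective_descends D c hc (fun _ _ _ => inferInstance) i
    inferInstance inferInstance vi hcZ hqZ hvi v g hg h2
  -- a stage over `i₁`, `i₂` and `j`
  obtain ⟨k₀, a₁, a₂, ha⟩ := IsCofiltered.cospan φ₁ φ₂
  obtain ⟨k, b, fk, -⟩ : ∃ (k : I) (b : k ⟶ k₀) (fk : k ⟶ j), True :=
    ⟨_, IsCofiltered.minToLeft k₀ j, IsCofiltered.minToRight k₀ j, trivial⟩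
  let ψ := b ≫ a₁ ≫ φ₁
  have hk1 : Flat (pullback.snd vi (D.map ψ)) :=
    Lib.Lim.Descend.prop_of_factor (P := @Flat) hf₁.1 (D.map (b ≫ a₁))
      (by rw [← D.map_comp, Category.assoc]) (IsPullback.of_hasPullback _ _)
  have hk2 : Surjective (pullback.snd vi (D.map ψ)) :=
    Lib.Lim.Descend.prop_of_factor (P := @Surjective) hf₂ (D.map (b ≫ a₂))
      (by rw [← D.map_comp, Category.assoc, ← ha]) (IsPullback.of_hasPullback _ _)
  let Zk := pullback vi (D.map ψ)
  let vk : Zk ⟶ D.obj k := pullback.snd vi (D.map ψ)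
  have hvk : LocallyOfFinitePresentation vk :=
    MorphismProperty.pullback_snd (P := @LocallyOfFinitePresentation) _ _ hvi
  have hqcvi : QuasiCompact vi := inferInstance
  have hqsvi : QuasiSeparated vi := QuasiSeparated.of_comp vi (D.obj i).toSpecΓ
  have hqc : QuasiCompact vk := MorphismProperty.pullback_snd (P := @QuasiCompact) _ _ hqcvi
  have hqs : QuasiSeparated vk := MorphismProperty.pullback_snd (P := @QuasiSeparated) _ _ hqsvi
  have : CompactSpace (Zk : Scheme.{u}) := QuasiCompact.compactSpace_of_compactSpace vk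
  have : QuasiSeparatedSpace (Zk : Scheme.{u}) := quasiSeparatedSpace_of_quasiSeparated vk
  have hZ : IsPullback (pullback.lift g (v ≫ c.π.app k) (by rw [Category.assoc, c.w, hg.w])) v vk
      (c.π.app k) := by
    refine IsPullback.of_right ?_ (pullback.lift_snd _ _ _) (IsPullback.of_hasPullback vi (D.map ψ))
    rw [pullback.lift_fst, c.w]
    exact hg
  obtain ⟨l, φ', g', hg', -⟩ := exists_bc_hom hc hZ X.hom (vk ≫ D.map fk)
    (w ≫ pullback.fst X.hom (c.π.app j)) (by
      rw [Category.assoc, pullback.condition, pullback.lift_snd_assoc, Category.assoc, c.w]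
      exact (Category.assoc _ _ _).symm.trans (congrArg (· ≫ c.π.app j) hw))
  refine ⟨l, φ' ≫ fk, pullback vk (D.map φ'), pullback.snd vk (D.map φ'),
    pullback.lift g' (pullback.snd vk (D.map φ')) ?_, pullback.lift_snd _ _ _,
    MorphismProperty.pullback_snd (P := @Flat) _ _ hk1,
    MorphismProperty.pullback_snd (P := @Surjective) _ _ hk2,
    MorphismProperty.pullback_snd (P := @LocallyOfFinitePresentation) _ _ hvk,
    MorphismProperty.pullback_snd (P := @QuasiCompact) _ _ hqc,
    MorphismProperty.pullback_snd (P := @QuasiSeparated) _ _ hqs⟩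
  rw [hg', pullback.condition_assoc]
  exact congrArg (_ ≫ ·) (D.map_comp φ' fk).symm

end Limit

end Groth.Agent.H69.TorsorDescend
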