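import Groth.Agent.H69.SplitBundle
import Groth.Agent.Lib.Curves.DegreeOne
import Groth.Agent.Lib.TensorMod.Invertible

/-!
# Three disjoint sections trivialise a projective line bundle
-/

set_option autoImplicit false
set_option linter.style.haveILetI false
set_option maxHeartbeats 1000000
set_option backward.isDefEq.respectTransparency.types false
universe u

open CategoryTheory CategoryTheory.Limits AlgebraicGeometry Opposite TopologicalSpace

noncomputable section

namespace Groth.Agent.H69.TrivialBundle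

open Groth.Agent Groth.Agent.Lib

/-- An invertible module on the spectrum of a field is trivial. -/
theorem nonempty_trivial {K : Type u} [Field K] {M : (Spec (CommRingCat.of K)).Modules}
    (hM : PicF.IsInvertible M) :
    Nonempty (M ≅ Coh.structureModule (Spec (CommRingCat.of K))) := by
  let z : Spec (CommRingCat.of K) := IsLocalRing.closedPoint K
  haveI : Subsingleton (Spec (CommRingCat.of K)) := inferInstanceAs (Subsingleton (PrimeSpectrum K))
  obtain ⟨U, e, hzU, he⟩ := TensorMod.Gen.isInvertible_iff.1 hM z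
  obtain rfl : U = ⊤ := eq_top_iff.2 fun w _ => (Subsingleton.elim z w) ▸ hzU
  exact Curves.DegreeOne.nonempty_iso_of_gen he

/-- Of three quotients in general position each component is surjective. -/
theorem epi_component {C : Type*} [Category C] [Preadditive C] [HasBinaryBiproducts C] {E A B D : C}
    (a : E ⟶ A) (b : E ⟶ B) (c : E ⟶ D) [IsIso (biprod.lift a b)] [IsIso (biprod.lift b c)] :
    Epi (biprod.inl ≫ inv (biprod.lift a b) ≫ c) := by
  let v := biprod.inr ≫ inv (biprod.lift b c)
  have hb : v ≫ b = 0 := by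
    have h : inv (biprod.lift b c) ≫ biprod.lift b c ≫ biprod.fst = biprod.fst :=
      IsIso.inv_hom_id_assoc _ _
    rw [biprod.lift_fst] at h
    simp only [v, Category.assoc]
    rw [h, biprod.inr_fst]
  have hc : v ≫ c = 𝟙 D := by
    have h : inv (biprod.lift b c) ≫ biprod.lift b c ≫ biprod.snd = biprod.snd :=
      IsIso.inv_hom_id_assoc _ _
    rw [biprod.lift_snd] at h
    simp only [v, Category.assoc]
    rw [h, biprod.inr_snd]
  have hv : v = (v ≫ a) ≫ biprod.inl ≫ inv (biprod.lift a b) := by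
    rw [← cancel_mono (biprod.lift a b), Category.assoc (v ≫ a), Category.assoc biprod.inl,
      IsIso.inv_hom_id, Category.comp_id]
    ext <;> simp [hb]
  have h : (v ≫ a) ≫ (biprod.inl ≫ inv (biprod.lift a b) ≫ c) = 𝟙 D := by
    rw [← hc]
    conv_rhs => rw [hv]
    simp only [Category.assoc]
  haveI : Epi ((v ≫ a) ≫ (biprod.inl ≫ inv (biprod.lift a b) ≫ c)) := by rw [h]; infer_instance
  exact epi_of_epi (v ≫ a) _

variable {X S : Scheme.{u}} (f : X ⟶ S) [IsProper f] [SmoothOfRelativeDimension 1 f]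

/-- Three disjoint sections trivialise a family of lines. -/
theorem exists_isProjBundle (hfib : LineBundle.LineFib f) (s₁ s₂ s₃ : S ⟶ X) (h₁ : s₁ ≫ f = 𝟙 S)
    (h₂ : s₂ ≫ f = 𝟙 S) (h₃ : s₃ ≫ f = 𝟙 S) (h₁₂ : Disjoint (Set.range s₁) (Set.range s₂))
    (h₁₃ : Disjoint (Set.range s₁) (Set.range s₃)) (h₂₃ : Disjoint (Set.range s₂) (Set.range s₃)) :
    ∃ (O1 : X.Modules) (q : (Scheme.Modules.pullback f).obj (FlatMod.freeMod S 2) ⟶ O1),
      KRR.IsProjBundle f (FlatMod.freeMod S 2) O1 q := by
  haveI : Smooth f := SmoothOfRelativeDimension.smooth 1 f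
  haveI := LineBundle.geometricallyConnected f hfib
  haveI := H34.DegOneSection.isClosedImmersion_section f s₁ h₁
  have hJ : BlowUp.IsEffCartierIdeal s₁.ker := by
    refine RelDiv.Cartier.isEffCartier_of_isFinLocFree f _ ?_
    have h : s₁.toImage ≫ s₁.ker.subschemeι ≫ f = 𝟙 _ := by
      rw [← Category.assoc]
      exact (congrArg (· ≫ f) s₁.toImage_imageι).trans h₁
    haveI : IsIso (s₁.toImage ≫ s₁.ker.subschemeι ≫ f) := by rw [h]; infer_instance
    haveI : IsIso (s₁.ker.subschemeι ≫ f) := IsIso.of_isIso_comp_left s₁.toImage _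
    exact (HilbD.Sec.finLocFreeOfDeg_one_of_isIso (s₁.ker.subschemeι ≫ f)).1
  let M := TensorMod.Dual.dual (ClSub.idealMod s₁.ker)
  have hM : PicF.IsInvertible M :=
    TensorMod.Invertible.isInvertible_dual (ClSub.Cartier.isInvertible_idealMod hJ)
  let N := (Scheme.Modules.pullback s₃).obj M
  have hN : PicF.IsInvertible N := PicLoc.isInvertible_pullback s₃ hM
  let P := TensorMod.Dual.dual N
  have hP : PicF.IsInvertible P := TensorMod.Invertible.isInvertible_dual hN
  let M' := CohB1.tensorMod M ((Scheme.Modules.pullback f).obj P)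
  have hM' : PicF.IsInvertible M' :=
    TensorMod.Invertible.isInvertible_tensorMod hM (PicLoc.isInvertible_pullback f hP)
  obtain ⟨E, q, hE, hB⟩ := LineBundle.exists_isProjBundle_of_deg f hfib hM'
    (fun {K} _ {F} _ _ _ κ g hsq hdF => by
      let p := F ↘ Spec (CommRingCat.of K)
      obtain ⟨τ⟩ := nonempty_trivial (PicLoc.isInvertible_pullback κ hP)
      let ω : (Scheme.Modules.pullback g).obj ((Scheme.Modules.pullback f).obj P) ≅ Coh.structureModule F :=
        (Scheme.Modules.pullbackComp g f).app P ≪≫ (Scheme.Modules.pullbackCongr hsq.w).app P ≪≫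
          ((Scheme.Modules.pullbackComp p κ).app P).symm ≪≫ (Scheme.Modules.pullback p).mapIso τ ≪≫
            PicLoc.pullbackStructureIso p
      rw [Curves.Euler.deg_eq_of_iso (TensorMod.Pullback.pullbackTensorIso g _ _ ≪≫
        TensorMod.Basic.tensorIso (Iso.refl _) ω ≪≫ TensorMod.Basic.rightUnit _) 1]
      exact H34.Ruled.deg_fibre f s₁ h₁ hJ κ g hsq hdF)
  have hL := TensorMod.LocFree.isInvertible_of_rank_one hB.invertible
  let a := SplitBundle.quot E q h₁
  let b := SplitBundle.quot E q h₂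
  let c := SplitBundle.quot E q h₃
  haveI i₁₂ : IsIso (biprod.lift a b) := SplitBundle.isIso_lift_quot hE hB h₁ h₂ h₁₂
  haveI i₂₃ : IsIso (biprod.lift b c) := SplitBundle.isIso_lift_quot hE hB h₂ h₃ h₂₃
  haveI i₂₁ : IsIso (biprod.lift b a) := SplitBundle.isIso_lift_quot hE hB h₂ h₁ h₁₂.symm
  haveI i₁₃ : IsIso (biprod.lift a c) := SplitBundle.isIso_lift_quot hE hB h₁ h₃ h₁₃
  haveI := epi_component a b c
  haveI := epi_component b a c
  haveI := Cyc.CH.isIso_of_epi_invertible (PicLoc.isInvertible_pullback s₁ hL)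
    (PicLoc.isInvertible_pullback s₃ hL) (biprod.inl ≫ inv (biprod.lift a b) ≫ c)
  haveI := Cyc.CH.isIso_of_epi_invertible (PicLoc.isInvertible_pullback s₂ hL)
    (PicLoc.isInvertible_pullback s₃ hL) (biprod.inl ≫ inv (biprod.lift b a) ≫ c)
  let ν : (Scheme.Modules.pullback s₃).obj M' ≅ Coh.structureModule S :=
    TensorMod.Pullback.pullbackTensorIso s₃ _ _ ≪≫
      TensorMod.Basic.tensorIso (Iso.refl _) ((Scheme.Modules.pullbackComp s₃ f).app P ≪≫
        (Scheme.Modules.pullbackCongr h₃).app P ≪≫ (Scheme.Modules.pullbackId S).app P) ≪≫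
      TensorMod.Invertible.tensorDualIso hN
  let e₁ : (Scheme.Modules.pullback s₁).obj M' ≅ FlatMod.freeMod S 1 :=
    asIso (biprod.inl ≫ inv (biprod.lift a b) ≫ c) ≪≫ ν ≪≫ (TensorMod.LocFree.freeModOneIso S).symm
  let e₂ : (Scheme.Modules.pullback s₂).obj M' ≅ FlatMod.freeMod S 1 :=
    asIso (biprod.inl ≫ inv (biprod.lift b a) ≫ c) ≪≫ ν ≪≫ (TensorMod.LocFree.freeModOneIso S).symm
  exact ⟨M', _, SplitBundle.isProjBundle_of_moduleIso hB
    (asIso (biprod.lift a b) ≪≫ biprod.mapIso e₁ e₂ ≪≫ biprod.isoCoprod _ _ ≪≫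
      TensorMod.LocFree.freeModAddIso S 1 1)⟩

end Groth.Agent.H69.TrivialBundle
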