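import Mathlib.RingTheory.QuasiFinite.Basic
import Mathlib.RingTheory.Valuation.ValuationRing
import Mathlib.RingTheory.Localization.Integral
import Mathlib.RingTheory.IntegralClosure.IsIntegralClosure.Basic
import Mathlib.AlgebraicGeometry.Morphisms.QuasiFinite
import Mathlib.AlgebraicGeometry.ZariskisMainTheorem

/-!
# Flat generically quasi-finite algebras over valuation rings are quasi-finite
-/

set_option autoImplicit false
set_option backward.isDefEq.respectTransparency false

universe u

open CategoryTheory CategoryTheory.Limits AlgebraicGeometry Polynomial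
open scoped TensorProduct

namespace Groth.Agent.H69.ValFlatFinite

variable {R B K : Type u} [CommRing R] [IsDomain R] [ValuationRing R] [CommRing B] [Algebra R B]
  [Field K] [Algebra R K] [IsFractionRing R K]

/-- A nonzero polynomial over a valuation ring is a multiple of one with a coefficient `1`. -/
theorem exists_C_mul (P : R[X]) (hP : P ≠ 0) :
    ∃ (c : R) (Q : R[X]), c ≠ 0 ∧ P = C c * Q ∧ ∃ n, Q.coeff n = 1 := by
  classical
  suffices key : ∀ s : Finset ℕ, s.Nonempty →
      ∃ n ∈ s, ∀ m ∈ s, P.coeff n ∣ P.coeff m by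
    obtain ⟨n, hn, hdvd⟩ := key P.support (Polynomial.support_nonempty.mpr hP)
    have hc : P.coeff n ≠ 0 := Polynomial.mem_support_iff.mp hn
    obtain ⟨Q, hQ⟩ : C (P.coeff n) ∣ P := by
      refine Polynomial.C_dvd_iff_dvd_coeff _ _ |>.mpr fun m => ?_
      by_cases hm : m ∈ P.support
      · exact hdvd m hm
      · rw [Polynomial.notMem_support_iff.mp hm]; exact dvd_zero _
    refine ⟨_, Q, hc, hQ, n, mul_left_cancel₀ hc ?_⟩
    rw [← Polynomial.coeff_C_mul, ← hQ, mul_one]
  intro s hs
  induction hs using Finset.Nonempty.cons_induction with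
  | singleton a => exact ⟨a, by simp, by simp⟩
  | cons a s ha hs ih =>
    obtain ⟨n, hn, hdvd⟩ := ih
    rcases (PreValuationRing.iff_dvd_total.mp inferInstance).total (P.coeff n) (P.coeff a) with h | h
    · refine ⟨n, Finset.mem_cons_of_mem hn, fun m hm => ?_⟩
      rcases Finset.mem_cons.mp hm with rfl | hm
      · exact h
      · exact hdvd m hm
    · refine ⟨a, Finset.mem_cons_self a s, fun m hm => ?_⟩
      rcases Finset.mem_cons.mp hm with rfl | hm
      · exact dvd_rfl
      · exact h.trans (hdvd m hm)

/-- An element of a flat algebra which is algebraic over the fraction field is a root of a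
polynomial with a coefficient `1`. -/
theorem exists_aeval_eq_zero [Module.Flat R B] (b : B)
    (hb : (Algebra.TensorProduct.includeRight : K →ₐ[R] B ⊗[R] K).toRingHom.IsIntegralElem
      (b ⊗ₜ 1)) :
    ∃ P : R[X], (∃ n, P.coeff n = 1) ∧ aeval b P = 0 := by
  classical
  have hinj : Function.Injective (Algebra.TensorProduct.includeLeft : B →ₐ[R] B ⊗[R] K) := by
    have h := Module.Flat.lTensor_preserves_injective_linearMap (M := B)
      (Algebra.linearMap R K) (IsFractionRing.injective R K)
    have e : (Algebra.TensorProduct.includeLeft : B →ₐ[R] B ⊗[R] K).toLinearMap =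
        (Algebra.linearMap R K).lTensor B ∘ₗ (TensorProduct.rid R B).symm.toLinearMap := by
      ext x; simp
    intro x y hxy
    exact (TensorProduct.rid R B).symm.injective (h (by
      have := congrArg (fun f => f x) e
      have := congrArg (fun f => f y) e
      simp_all))
  obtain ⟨Q, hQm, hQ⟩ := hb
  obtain ⟨d, hd⟩ := IsLocalization.integerNormalization_map_to_map (nonZeroDivisors R) Q
  let P₀ := IsLocalization.integerNormalization (nonZeroDivisors R) Q
  have hP₀ : P₀ ≠ 0 := by
    intro h
    have : (d : R) • Q = 0 := by rw [← hd, show IsLocalization.integerNormalization _ Q = 0 from h]; simp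
    rw [Algebra.smul_def, mul_eq_zero] at this
    rcases this with h' | h'
    · rw [Polynomial.algebraMap_apply, Polynomial.C_eq_zero] at h'
      exact nonZeroDivisors.coe_ne_zero d (IsFractionRing.injective R K (by simpa using h'))
    · exact hQm.ne_zero h'
  obtain ⟨c, P, hc, hP, hn⟩ := exists_C_mul P₀ hP₀
  refine ⟨P, hn, hinj ?_⟩
  rw [map_zero]
  have h0 : aeval (b ⊗ₜ[R] (1 : K)) P₀ = 0 := by
    have e : eval₂ (Algebra.TensorProduct.includeRight : K →ₐ[R] B ⊗[R] K).toRingHom (b ⊗ₜ 1)
        (P₀.map (algebraMap R K)) = aeval (b ⊗ₜ[R] (1 : K)) P₀ := by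
      rw [Polynomial.eval₂_map, aeval_def]
      congr 1
      exact (Algebra.TensorProduct.includeRight : K →ₐ[R] B ⊗[R] K).comp_algebraMap
    rw [← e, show P₀.map (algebraMap R K) = (d : R) • Q from hd, Algebra.smul_def,
      Polynomial.eval₂_mul, hQ, mul_zero]
  rw [hP, map_mul, aeval_C] at h0
  have hu : IsUnit (algebraMap R (B ⊗[R] K) c) := by
    rw [← (Algebra.TensorProduct.includeRight : K →ₐ[R] B ⊗[R] K).commutes]
    exact (isUnit_iff_ne_zero.mpr (by simpa using hc)).map _
  have := hu.mul_right_eq_zero.mp h0
  rw [← aeval_algHom_apply]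
  exact this

/-- A flat algebra of finite type over a valuation ring whose generic fibre is finite is
quasi-finite. -/
theorem quasiFinite [Module.Flat R B] [Algebra.FiniteType R B]
    (h : (Algebra.TensorProduct.includeRight : K →ₐ[R] B ⊗[R] K).toRingHom.IsIntegral) :
    Algebra.QuasiFinite R B := by
  refine ⟨fun p _ => ?_⟩
  have : Algebra.IsIntegral p.ResidueField (p.Fiber B) := by
    refine ⟨fun x => ?_⟩
    induction x using TensorProduct.induction_on with
    | zero => exact isIntegral_zero
    | add x y hx hy => exact hx.add hy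
    | tmul z b =>
      obtain ⟨P, ⟨n, hn⟩, hP⟩ := exists_aeval_eq_zero b (h (b ⊗ₜ 1))
      have hb : IsIntegral p.ResidueField ((1 : p.ResidueField) ⊗ₜ[R] b : p.Fiber B) := by
        refine IsAlgebraic.isIntegral ⟨P.map (algebraMap R p.ResidueField), fun h0 => ?_, ?_⟩
        · have := congrArg (fun q => q.coeff n) h0
          simp [hn] at this
        · rw [Polynomial.aeval_map_algebraMap]
          show aeval ((Algebra.TensorProduct.includeRight : B →ₐ[R] p.Fiber B) b) P = 0
          rw [aeval_algHom_apply, hP, map_zero]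
      have : (z ⊗ₜ[R] b : p.Fiber B) = z • ((1 : p.ResidueField) ⊗ₜ[R] b) := by
        rw [TensorProduct.smul_tmul', smul_eq_mul, mul_one]
      rw [this]
      exact hb.smul z
  exact Algebra.IsIntegral.finite

end Groth.Agent.H69.ValFlatFinite
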